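import Mathlib
import Cfsg.Agent.Class.SLGen

/-!
# Simplicity of `PSL`
-/

set_option autoImplicit false

namespace Cfsg.Lib.Class

open Matrix Matrix.SpecialLinearGroup
open scoped commutatorElement LinearAlgebra.Projectivization

variable {ι F : Type*} [Field F] [DecidableEq ι] [Fintype ι]

theorem PSL_iSup_lineStab_eq_top :
    (⨆ p : ℙ F (ι → F), lineStab p.submodule) = (⊤ : Subgroup (SpecialLinearGroup ι F)) := by
  refine SL_eq_top_of_transvection_mem _ fun i j hij c ↦ ?_
  have h := SL2Gen.transvection_mem_lineStab hij c
  rw [← Projectivization.submodule_mk (K := F) _ (Pi.single_ne_zero_iff.2 one_ne_zero)] at h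
  exact (le_iSup (fun p : ℙ F (ι → F) ↦ lineStab p.submodule) _) h

/-- The Iwasawa structure on `PSL ι F`. -/
noncomputable def PSL_iwasawa :
    MulAction.IwasawaStructure (ProjectiveSpecialLinearGroup ι F) (ℙ F (ι → F)) where
  T := PSL.iwasawaT
  is_comm p := by
    have hSL : IsMulCommutative (lineStab (F := F) (ι := ι) p.submodule) := by
      rw [← Projectivization.mk_rep p, Projectivization.submodule_mk]
      exact lineStab_isMulCommutative_of_span p.rep p.rep_nonzero
    exact Subgroup.map_isMulCommutative _ _
  is_conj g p := by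
    obtain ⟨g_SL, rfl⟩ := QuotientGroup.mk_surjective g
    rw [Matrix.ProjectiveSpecialLinearGroup.smul_proj_mk]
    change Subgroup.map _ _ = _
    rw [PSL.smul_submodule, Matrix.SpecialLinearGroup.lineStab_smul,
      PSL.iwasawaT_map_conj]
  is_generator := by
    have step1 : iSup (PSL.iwasawaT (F := F) (ι := ι)) =
        Subgroup.map (QuotientGroup.mk' (Subgroup.center (Matrix.SpecialLinearGroup ι F)))
          (⨆ p : ℙ F (ι → F),
            Matrix.SpecialLinearGroup.lineStab (F := F) (ι := ι) p.submodule) := by
      rw [Subgroup.map_iSup]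
    rw [step1, PSL_iSup_lineStab_eq_top]
    exact Subgroup.map_top_of_surjective _ (QuotientGroup.mk'_surjective _)

/-- `PSL ι F` is simple when `ι` has at least three elements. -/
theorem PSL_isSimpleGroup (h : 3 ≤ Fintype.card ι) :
    IsSimpleGroup (ProjectiveSpecialLinearGroup ι F) := by
  have : Nontrivial ι := Fintype.one_lt_card_iff_nontrivial.1 (by omega)
  have h1 : Group.IsPerfect (SpecialLinearGroup ι F) := ⟨SL_commutator_eq_top h⟩
  have h2 : Group.IsPerfect (ProjectiveSpecialLinearGroup ι F) := inferInstance
  exact MulAction.IwasawaStructure.isSimpleGroup h2.commutator_eq_top PSL_iwasawa inferInstance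

end Cfsg.Lib.Class
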