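import Mathlib

/-!
Table-driven models of the fields with nine and twenty-five elements, for kernel computation.
-/

set_option autoImplicit false

namespace Cfsg.Lib.Class

/-- The field with nine elements; the code `a + 3 b` stands for `a + b w` with `w ^ 2 = 2`. -/
def T9 : Type := Fin 9

namespace T9

instance instDecEqT9 : DecidableEq T9 := inferInstanceAs (DecidableEq (Fin 9))
instance instFintypeT9 : Fintype T9 := inferInstanceAs (Fintype (Fin 9))

/-- The element with code `n % 9`. -/
def c (n : ℕ) : T9 := (⟨n % 9, Nat.mod_lt _ (by norm_num)⟩ : Fin 9)

/-- Reading an entry of a packed table. -/
def rd (T i : ℕ) : T9 := c (Nat.land (Nat.shiftRight T (Nat.mul 4 i)) 15)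

/-- The packed addition table. -/
def addT : ℕ := 8986690708024339884259668388453865091868182506470258411551265922896781674643265104972283578167824

/-- The packed multiplication table. -/
def mulT : ℕ := 12992295474418726299168584010125499800446975643965808714274855111902658395364003326119775607717888

instance instZeroT9 : Zero T9 := ⟨c 0⟩
instance instOneT9 : One T9 := ⟨c 1⟩
instance instAddT9 : Add T9 :=
  ⟨fun a b => rd addT (Nat.add (Nat.mul 9 (Fin.val a)) (Fin.val b))⟩
instance instNegT9 : Neg T9 := ⟨fun a => rd 18580267296 (Fin.val a)⟩
instance instMulT9 : Mul T9 :=
  ⟨fun a b => rd mulT (Nat.add (Nat.mul 9 (Fin.val a)) (Fin.val b))⟩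
instance instInvT9 : Inv T9 := ⟨fun a => rd 32267133456 (Fin.val a)⟩

instance instFieldT9 : Field T9 :=
  Field.ofMinimalAxioms T9 (by decide +kernel) (by decide +kernel) (by decide +kernel)
    (by decide +kernel) (by decide +kernel) (by decide +kernel) (by decide +kernel)
    (by decide +kernel) (by decide +kernel) ⟨0, 1, by decide +kernel⟩

theorem card : Fintype.card T9 = 3 ^ 2 := rfl

end T9

/-- The field with 25 elements; the code `a + 5 b` stands for `a + b w` with `w ^ 2 = 2`. -/
def T25 : Type := Fin 25

namespace T25

instance instDecEqT25 : DecidableEq T25 := inferInstanceAs (DecidableEq (Fin 25))
instance instFintypeT25 : Fintype T25 := inferInstanceAs (Fintype (Fin 25))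

/-- The element with code `n % 25`. -/
def c (n : ℕ) : T25 := (⟨n % 25, Nat.mod_lt _ (by norm_num)⟩ : Fin 25)

/-- Reading an entry of a packed table. -/
def rd (T i : ℕ) : T25 := c (Nat.land (Nat.shiftRight T (Nat.mul 5 i)) 31)

/-- The packed addition table. -/
def addT : ℕ := 30329717773642261003921549893081998765667061660560731894026859915599413907008293492522032693955116934077870401172614306025595562382003038506799379697256899948159961899534606080836708593795150019289831096942633609709576656794191964345435355852307598485865194299825812583546867647055096137990229859453556235975272065848633458570817071502579713744727618684400389904391431298128857796680755198000469188642547949795374110751689922214362541327744078310041989315693536341794936577841858162714299985499005898394539532497081470413380888340189376369427877309568349473576353355178009559503644242594155338588067832112666954524723704121089290640491998938416847234157548470498038958178680209368320501444444136391633549235173141715767459251238215944170754582500472057088265067846826775514555432230945963457096158832313444295331297955158213416357146380480856960961639148531734145842761784180561073685353672144592648694688053162314333233083007711721828747296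

/-- The packed multiplication table. -/
def mulT : ℕ := 22261298350074456278207582671425273917290712472707239593210060014783009118615023139356997850858717086741109637479505828129724967688492499747523863797057602863584853613533874514965420513766156466595025822809649096809995820132168682501445770983501222117018470204044695178300896971918345103399136949886880223511894589325394563887744800542374234643051747270739650635940561493762007021716284758633047230991282003145215585094435381093174563325225672167615681336020121557008929196947949325645862675368047793117677075542320201802818451700208588957093989385513314773361555656153987877255046264445297458056647847366903996663302936953162531537324345109888641721614220571021191060571518484713268499393983280922159794786492677099944826261917508811535508277163436550630506532976280201990726922752424173022055464010546778365949275652944297461971911197132361544720425809147358399577955459299075184820218449728798766860974772903307919678938954315938148646912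

instance instZeroT25 : Zero T25 := ⟨c 0⟩
instance instOneT25 : One T25 := ⟨c 1⟩
instance instAddT25 : Add T25 :=
  ⟨fun a b => rd addT (Nat.add (Nat.mul 25 (Fin.val a)) (Fin.val b))⟩
instance instNegT25 : Neg T25 := ⟨fun a => rd 8276893065260791840833606450215455872 (Fin.val a)⟩
instance instMulT25 : Mul T25 :=
  ⟨fun a b => rd mulT (Nat.add (Nat.mul 25 (Fin.val a)) (Fin.val b))⟩
instance instInvT25 : Inv T25 := ⟨fun a => rd 28724773381289756334368114694466636832 (Fin.val a)⟩

instance instFieldT25 : Field T25 :=
  Field.ofMinimalAxioms T25 (by decide +kernel) (by decide +kernel) (by decide +kernel)
    (by decide +kernel) (by decide +kernel) (by decide +kernel) (by decide +kernel)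
    (by decide +kernel) (by decide +kernel) ⟨0, 1, by decide +kernel⟩

theorem card : Fintype.card T25 = 5 ^ 2 := rfl

end T25

end Cfsg.Lib.Class
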