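/-
The 27 singular vectors of the six-dimensional space of minus type over the field with two
elements, and the five-dimensional orthogonal module over the field with three elements built on
them: tables and finite checks.
-/
import Mathlib
import Cfsg.Agent.Class.SmallFields

set_option autoImplicit false

namespace Cfsg.Lib.Class.E6

open Matrix

/-- Index type of the six-dimensional space. -/
abbrev I6 : Type := (Fin 2 ⊕ Fin 2) ⊕ Fin 2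

/-- Index type of the five-dimensional space. -/
abbrev I5 : Type := Unit ⊕ (Fin 2 ⊕ Fin 2)

def idx6 : I6 → Fin 6 := Sum.elim (Sum.elim ![0, 1] ![2, 3]) ![4, 5]

def idx5 : I5 → Fin 5 := Sum.elim (fun _ => 0) (Sum.elim ![1, 2] ![3, 4])

def tabS : Fin 27 → Fin 6 → ZMod 2 :=
  ![![0, 0, 0, 1, 0, 0],
    ![0, 0, 1, 0, 0, 0],
    ![0, 0, 1, 1, 0, 0],
    ![0, 1, 0, 0, 0, 0],
    ![0, 1, 0, 1, 0, 1],
    ![0, 1, 0, 1, 1, 0],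
    ![0, 1, 0, 1, 1, 1],
    ![0, 1, 1, 0, 0, 0],
    ![0, 1, 1, 1, 0, 1],
    ![0, 1, 1, 1, 1, 0],
    ![0, 1, 1, 1, 1, 1],
    ![1, 0, 0, 0, 0, 0],
    ![1, 0, 0, 1, 0, 0],
    ![1, 0, 1, 0, 0, 1],
    ![1, 0, 1, 0, 1, 0],
    ![1, 0, 1, 0, 1, 1],
    ![1, 0, 1, 1, 0, 1],
    ![1, 0, 1, 1, 1, 0],
    ![1, 0, 1, 1, 1, 1],
    ![1, 1, 0, 0, 0, 0],
    ![1, 1, 0, 1, 0, 1],
    ![1, 1, 0, 1, 1, 0],
    ![1, 1, 0, 1, 1, 1],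
    ![1, 1, 1, 0, 0, 1],
    ![1, 1, 1, 0, 1, 0],
    ![1, 1, 1, 0, 1, 1],
    ![1, 1, 1, 1, 0, 0]]

def tabU : Fin 27 → Fin 5 → ZMod 3 :=
  ![![0, 1, 1, 1, 0],
    ![1, 0, 1, 0, 1],
    ![0, 0, 0, 0, 0],
    ![2, 0, 0, 0, 0],
    ![0, 0, 2, 1, 2],
    ![0, 1, 2, 0, 2],
    ![0, 1, 0, 1, 1],
    ![0, 0, 0, 0, 0],
    ![0, 0, 0, 0, 0],
    ![0, 0, 0, 0, 0],
    ![0, 0, 0, 0, 0],
    ![0, 0, 0, 0, 0],
    ![0, 0, 0, 0, 0],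
    ![0, 0, 0, 0, 0],
    ![0, 0, 0, 0, 0],
    ![0, 0, 0, 0, 0],
    ![0, 0, 0, 0, 0],
    ![0, 0, 0, 0, 0],
    ![0, 0, 0, 0, 0],
    ![0, 0, 0, 0, 0],
    ![0, 0, 0, 0, 0],
    ![0, 0, 0, 0, 0],
    ![0, 0, 0, 0, 0],
    ![0, 0, 0, 0, 0],
    ![0, 0, 0, 0, 0],
    ![0, 0, 0, 0, 0],
    ![0, 0, 0, 0, 0]]

def tabT : Fin 27 → Fin 5 → ZMod 3 :=
  ![![2, 1, 0, 1, 2],
    ![2, 0, 2, 0, 2],
    ![2, 2, 1, 2, 2],
    ![1, 0, 2, 0, 2],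
    ![2, 0, 1, 1, 1],
    ![2, 1, 1, 0, 1],
    ![2, 1, 2, 1, 0],
    ![0, 0, 2, 0, 2],
    ![2, 0, 0, 2, 0],
    ![2, 2, 0, 0, 0],
    ![2, 2, 2, 2, 1],
    ![1, 0, 1, 0, 1],
    ![0, 2, 2, 2, 0],
    ![1, 2, 0, 1, 1],
    ![1, 1, 0, 2, 1],
    ![1, 1, 2, 1, 2],
    ![0, 0, 0, 1, 0],
    ![0, 1, 0, 0, 0],
    ![0, 1, 1, 1, 2],
    ![1, 0, 0, 0, 0],
    ![0, 0, 1, 2, 1],
    ![0, 2, 1, 0, 1],
    ![0, 2, 0, 2, 2],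
    ![1, 1, 1, 2, 0],
    ![1, 2, 1, 1, 0],
    ![1, 2, 2, 2, 2],
    ![0, 1, 2, 1, 1]]

def tabW : Fin 27 → Fin 5 → ZMod 3 :=
  ![![0, 0, 0, 0, 0],
    ![0, 1, 0, 1, 1],
    ![0, 2, 0, 2, 2],
    ![2, 1, 0, 1, 1],
    ![0, 0, 1, 1, 2],
    ![0, 1, 1, 0, 2],
    ![0, 0, 2, 0, 1],
    ![1, 1, 0, 1, 1],
    ![0, 2, 2, 1, 0],
    ![0, 1, 2, 2, 0],
    ![0, 2, 1, 2, 1],
    ![2, 1, 1, 1, 2],
    ![1, 2, 2, 2, 1],
    ![2, 0, 1, 2, 0],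
    ![2, 2, 1, 0, 0],
    ![2, 0, 0, 0, 1],
    ![1, 0, 2, 1, 0],
    ![1, 1, 2, 0, 0],
    ![1, 0, 0, 0, 2],
    ![2, 1, 2, 1, 0],
    ![1, 2, 1, 1, 2],
    ![1, 1, 1, 2, 2],
    ![1, 2, 0, 2, 0],
    ![2, 2, 2, 0, 2],
    ![2, 0, 2, 2, 2],
    ![2, 2, 0, 2, 1],
    ![1, 0, 1, 0, 1]]

def tabC : Fin 27 → ZMod 3 := ![0, 0, 2, 0, 0, 0, 0, 2, 2, 2, 2, 0, 2, 1, 1, 1, 1, 1, 1, 2, 2, 2, 2, 1, 1, 1, 1]

/-- The 27 singular vectors. -/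
def s (x : Fin 27) : I6 → ZMod 2 := fun i => tabS x (idx6 i)

def U : Matrix (Fin 27) I5 (ZMod 3) := fun x i => tabU x (idx5 i)

def T : Matrix (Fin 27) I5 (ZMod 3) := fun x i => tabT x (idx5 i)

/-- The quadratic form of minus type, written out. -/
def q (v : I6 → ZMod 2) : ZMod 2 :=
  v (.inl (.inl 0)) * v (.inl (.inr 0)) + v (.inl (.inl 1)) * v (.inl (.inr 1)) +
    (v (.inr 0) ^ 2 + 1 * v (.inr 0) * v (.inr 1) + 1 * v (.inr 1) ^ 2)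

theorem q_eq (v : I6 → ZMod 2) : q v = quadFormMinus 2 (ZMod 2) 1 1 v := by
  simp [q, quadFormMinus, Fin.sum_univ_two]

/-- The Gram matrix of the 27 lines. -/
def A : Matrix (Fin 27) (Fin 27) (ZMod 3) :=
  fun x y => if x = y then 1 else if q (s x + s y) = 0 then 2 else 0

theorem s_injective : Function.Injective s := by decide +kernel

theorem q_s : ∀ x, q (s x) = 0 ∧ s x ≠ 0 := by decide +kernel

theorem s_surj : ∀ v, q v = 0 → v ≠ 0 → ∃ x, v = s x := by decide +kernel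

theorem hT : ∀ x i, ∑ y, A x y * U y i - T x i = 0 := by decide +kernel

theorem hU : ∀ i, ∑ x, U x i = 0 := by decide +kernel

theorem hspan : ∀ x z, A z x - A z 0 = ∑ i, T z i * tabW x (idx5 i) + tabC x := by decide +kernel

theorem hinj : ∀ (v : I5 → ZMod 3) (c : ZMod 3), (∀ z, ∑ i, T z i * v i = c) → v = 0 := by
  decide +kernel

theorem hQ : ∀ v : I5 → ZMod 3, v (.inl ()) ^ 2 + ∑ i : Fin 2, v (.inr (.inl i)) * v (.inr (.inr i)) =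
    ∑ x, (∑ i, U x i * v i) * ∑ i, T x i * v i := by
  decide +kernel

theorem hrow : ∀ c : I5 → ZMod 3, (∀ z, ∃ z', ∀ i, T z' i - (T z i + c i) = 0) → c = 0 := by
  decide +kernel

theorem hrow2 : ∀ z z', (∀ i, T z' i - T z i = 0) → z' = z := by
  decide +kernel

theorem hbasis : ∀ i : I6, ∃ x y, Pi.single i 1 = s x + s y := by
  decide +kernel

end Cfsg.Lib.Class.E6
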