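/-
Saturated fusion systems over Heisenberg groups: a nontrivial normal subgroup forces the system
to be constrained.
-/
import Cfsg.Agent.Fus.EssInner
import Cfsg.Agent.S5090
import Cfsg.Agent.Class.NegOne

set_option autoImplicit false

namespace Cfsg.Lib.Class.FusH

open Cfsg Cfsg.FusionSystem Subgroup Cfsg.Lib.Solv Cfsg.Lib.Fus Cfsg.Lib.Fus.Ess
open scoped commutatorElement

section Aut

variable {E : Type*} [Group E] [Finite E] {p : ℕ} [Fact p.Prime] {A T : Subgroup (MulAut E)}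
  {Z Q : Subgroup E}

/-- An element of `A` preserving the chain centralised by the Sylow subgroup `T` normalises `T`. -/
theorem conj_mem_of_maps (hE : IsPGroup p E) (hT : SylIn p T A)
    (ha : ∀ t ∈ T, Triv t ⊤ Z ∧ Triv t Z ⊥) {β : MulAut E} (hβ : β ∈ A) (hZ : ∀ z ∈ Z, β z ∈ Z)
    {t : MulAut E} (ht : t ∈ T) : β⁻¹ * t * β ∈ T := by
  have hZ' : ∀ z ∈ Z, β⁻¹ z ∈ Z := fun z hz => by
    have h1 : Z.map β.toMonoidHom = Z := eq_of_le_of_card_le (map_le_iff_le_comap.2 hZ)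
      (card_map_of_injective β.injective).ge
    rw [← h1] at hz
    obtain ⟨y, hy, rfl⟩ := hz
    simpa using hy
  have hU : chainSub (bot_le : ⊥ ≤ Z) ⊓ A = T := hT.max _
    (fun s hs => ⟨⟨(ha s hs).1, (ha s hs).2, triv_self fun x hx => by
      rw [mem_bot.1 hx, map_one]; exact one_mem _⟩, hT.le hs⟩) inf_le_right
    ((isPGroup_chainSub hE _).to_le inf_le_left)
  rw [← hU]
  refine ⟨⟨?_, ?_, triv_self fun x hx => by rw [mem_bot.1 hx, map_one]; exact one_mem _⟩,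
    A.mul_mem (A.mul_mem (A.inv_mem hβ) (hT.le ht)) hβ⟩
  · simpa using (ha t ht).1.conj (a := β⁻¹) (X' := ⊤) (fun _ _ => trivial) hZ'
  · simpa using (ha t ht).2.conj (a := β⁻¹) (X' := Z) (Y' := ⊥) (by simpa using hZ)
      fun y hy => by rw [mem_bot.1 hy, map_one]; exact one_mem _

/-- If a Sylow subgroup acts like a group of transvections of a plane with axis `Z` and `Z`
contains a nontrivial invariant subgroup then `Z` is invariant. -/
theorem aInv_of_ti (hE : IsPGroup p E) (hT : SylIn p T A)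
    (ha : ∀ t ∈ T, Triv t ⊤ Z ∧ Triv t Z ⊥) (hb : ∀ t ∈ T, t ≠ 1 → ∀ e, t e = e → e ∈ Z)
    (hc : ∀ u, u ∉ Z → ∀ z ∈ Z, ∃ t ∈ T, u⁻¹ * t u = z) (hQZ : Q ≤ Z) (hQ : Q ≠ ⊥)
    (hI : AInv A Q) : AInv A Z := by
  intro α hα z hz
  by_contra hu
  have hfix : ∀ s ∈ T, ∀ y ∈ Z, s y = y := fun s hs => triv_bot_iff.1 (ha s hs).2
  obtain ⟨d, hd, hd1⟩ : ∃ d ∈ Q, d ≠ 1 := by
    by_contra h
    push Not at h
    exact hQ (eq_bot_iff.2 h)
  obtain ⟨t, ht, htd⟩ := hc _ hu d (hQZ hd)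
  have ht1 : t ≠ 1 := fun h => hd1 (by rw [← htd, h]; simp)
  let H : Subgroup (MulAut E) := subgroupOfFinite {a | a ∈ A ∧ (α z)⁻¹ * a (α z) ∈ Q}
    ⟨A.one_mem, by simp⟩ fun a b h1 h2 => ⟨A.mul_mem h1.1 h2.1, by
      have := Q.mul_mem h1.2 (hI a h1.1 _ h2.2)
      simpa [mul_assoc] using this⟩
  have hH : ∀ {a}, a ∈ H ↔ a ∈ A ∧ (α z)⁻¹ * a (α z) ∈ Q := Iff.rfl
  have hHA : H ≤ A := fun _ h => h.1
  have hT' := hT.conj (le_normalizer hα)
  have hconj : ∀ s ∈ T, α * s * α⁻¹ ∈ H := fun s hs => hH.2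
    ⟨A.mul_mem (A.mul_mem hα (hT.le hs)) (A.inv_mem hα), by simp [hfix s hs z hz]⟩
  have hle : T.map (MulAut.conj α).toMonoidHom ≤ H := by
    rintro _ ⟨s, hs, rfl⟩
    exact hconj s hs
  have htH : t ∈ H := hH.2 ⟨hT.le ht, htd ▸ hd⟩
  obtain ⟨h, hh, hm⟩ := (hT'.mono hle hHA).exists_conj (zpowers_le_of_mem htH)
    (hT.pgroup.to_le (zpowers_le_of_mem ht))
  obtain ⟨s, hs, e⟩ := hm t (mem_zpowers t)
  have e' : t = h⁻¹ * α * s * (h⁻¹ * α)⁻¹ := by
    have : α * s * α⁻¹ = h * t * h⁻¹ := e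
    rw [_root_.mul_inv_rev, inv_inv, mul_assoc h⁻¹, mul_assoc h⁻¹, ← mul_assoc (α * s), this]
    group
  have hβ : h⁻¹ * α ∈ A := A.mul_mem (A.inv_mem (hHA hh)) hα
  have hβZ : ∀ y ∈ Z, (h⁻¹ * α) y ∈ Z := fun y hy => hb t ht ht1 _ (by
    rw [e', MulAut.mul_apply _ _ (h⁻¹ * α)⁻¹, MulAut.inv_apply_self, MulAut.mul_apply _ _ s,
      hfix s hs y hy])
  have hZQ : Z ≤ Q := fun y hy => by
    obtain ⟨s', hs', e2⟩ := hc _ hu y hy
    have h1 := H.mul_mem (H.mul_mem (H.inv_mem hh) (hconj _ (conj_mem_of_maps hE hT ha hβ hβZ hs')))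
      hh
    have h2 : h⁻¹ * (α * ((h⁻¹ * α)⁻¹ * s' * (h⁻¹ * α)) * α⁻¹) * h = s' := by group
    rw [h2] at h1
    exact e2 ▸ (hH.1 h1).2
  exact hu (hQZ (hI α hα z (hZQ hz)))

end Aut

/-- The properties of the group of upper unitriangular `3 × 3` matrices used below. -/
structure Heis (G : Type*) [Group G] : Prop where
  cls : ∀ x y : G, x⁻¹ * (y * x * y⁻¹) ∈ center G
  cent : ∀ x : G, x ∉ center G → ∀ y z : G, y * x = x * y → z * x = x * z → y * z = z * y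
  surj : ∀ u : G, u ∉ center G → ∀ z ∈ center G, ∃ s : G, u⁻¹ * (s * u * s⁻¹) = z

theorem mem_center_map {G G' : Type*} [Group G] [Group G'] (e : G ≃* G') {x : G} :
    e x ∈ center G' ↔ x ∈ center G := by
  rw [mem_center_iff, mem_center_iff]
  refine ⟨fun h g => e.injective (by simpa using h (e g)), fun h g => ?_⟩
  obtain ⟨g, rfl⟩ := e.surjective g
  rw [← map_mul, h, map_mul]

theorem Heis.of_equiv {G G' : Type*} [Group G] [Group G'] (h : Heis G') (e : G ≃* G') : Heis G := by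
  refine ⟨fun x y => (mem_center_map e).1 (by simpa using h.cls (e x) (e y)),
    fun x hx y z hy hz => e.injective ?_, fun u hu z hz => ?_⟩
  · simpa using h.cent (e x) (mt (mem_center_map e).1 hx) (e y) (e z) (by rw [← map_mul, hy, map_mul])
      (by rw [← map_mul, hz, map_mul])
  · obtain ⟨s, hs⟩ := h.surj (e u) (mt (mem_center_map e).1 hu) (e z) ((mem_center_map e).2 hz)
    obtain ⟨s, rfl⟩ := e.surjective s
    exact ⟨s, e.injective (by simpa using hs)⟩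

section Fus

variable {Ω : Type*} [Group Ω] {S : Subgroup Ω} {F : FusionSystem S} {E Q : Subgroup Ω} {p : ℕ}

theorem mem_cIn {P : Subgroup Ω} {g : Ω} : g ∈ centralizerIn S P ↔ g ∈ S ∧ ∀ y ∈ P, y * g = g * y :=
  and_congr Iff.rfl mem_centralizer_iff

theorem mem_center_coe {x : S} : x ∈ center S ↔ (x : Ω) ∈ centralizerIn S S := by
  rw [mem_center_iff, mem_cIn]
  exact ⟨fun h => ⟨x.2, fun y hy => congrArg Subtype.val (h ⟨y, hy⟩)⟩,
    fun h y => Subtype.ext (h.2 y y.2)⟩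

theorem Heis.cls' (h : Heis S) {x y : Ω} (hx : x ∈ S) (hy : y ∈ S) :
    x⁻¹ * (y * x * y⁻¹) ∈ centralizerIn S S := mem_center_coe.1 (h.cls ⟨x, hx⟩ ⟨y, hy⟩)

theorem Heis.cent' (h : Heis S) {x y z : Ω} (hx : x ∈ S) (hx' : x ∉ centralizerIn S S) (hy : y ∈ S)
    (hz : z ∈ S) (h1 : y * x = x * y) (h2 : z * x = x * z) : y * z = z * y :=
  congrArg Subtype.val (h.cent ⟨x, hx⟩ (mt mem_center_coe.1 hx') ⟨y, hy⟩ ⟨z, hz⟩ (Subtype.ext h1)
    (Subtype.ext h2))

theorem Heis.surj' (h : Heis S) {u z : Ω} (hu : u ∈ S) (hu' : u ∉ centralizerIn S S)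
    (hz : z ∈ centralizerIn S S) : ∃ s ∈ S, u⁻¹ * (s * u * s⁻¹) = z := by
  obtain ⟨s, hs⟩ := h.surj ⟨u, hu⟩ (mt mem_center_coe.1 hu') ⟨z, hz.1⟩ (mem_center_coe.2 hz)
  exact ⟨s, s.2, congrArg Subtype.val hs⟩

variable [Finite S] [Fact p.Prime]

omit [Finite S] in
theorem center_le_of_centric (hE : F.IsCentric E) : centralizerIn S S ≤ E := fun _ hz =>
  isCentric_self hE (mem_cIn.2 ⟨hz.1, fun y hy => (mem_cIn.1 hz).2 y (hE.1 hy)⟩)

theorem Heis.le_normalizer (h : Heis S) (hE : F.IsCentric E) : S ≤ normalizer (E : Set Ω) :=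
  fun s hs => by
    have := finite_of_le hE.1
    refine mem_normalizer_of_finite fun y hy => ?_
    simpa using E.mul_mem hy (center_le_of_centric hE (h.cls' (hE.1 hy) hs))

omit [Finite S] [Fact p.Prime] in
theorem Heis.triv (h : Heis S) (hE : F.IsCentric E) {s : Ω} (hs : s ∈ S)
    (hN : s ∈ normalizer (E : Set Ω)) :
    Triv (conjAut E s hN) ⊤ ((centralizerIn S S).subgroupOf E) ∧
      Triv (conjAut E s hN) ((centralizerIn S S).subgroupOf E) ⊥ :=
  ⟨triv_conjAut_top_iff.2 fun _ hx => h.cls' (hE.1 hx) hs, triv_conjAut_bot_iff.2 fun x _ hx => by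
    rw [(mem_cIn.1 hx).2 s hs, mul_inv_cancel_right]⟩

theorem Heis.not_aInv (h : Heis S) (hS : IsPGroup p S) (hF : F.IsSaturated p)
    (hE : F.IsEssential p E) : ¬ AInv (F.autGroup E) ((centralizerIn S S).subgroupOf E) := fun hI => by
  have := finite_of_le hE.1.1
  obtain ⟨x, hx, hxN, hxE, -⟩ := exists_step hS le_rfl (lt_of_isEssential hS hF hE)
  exact ((radIn_of_essential hS hE).rad hS le_rfl hE.1.1 hx hxN hxE).not_triv_triv hI
    (h.triv hE.1 hx hxN).1 (h.triv hE.1 hx hxN).2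

theorem Heis.comm (h : Heis S) (hS : IsPGroup p S) (hF : F.IsSaturated p)
    (hE : F.IsEssential p E) : ∀ a ∈ E, ∀ b ∈ E, a * b = b * a := by
  by_contra hc
  refine h.not_aInv hS hF hE ?_
  have : (centralizerIn S S).subgroupOf E = center E := by
    ext x
    rw [mem_subgroupOf, mem_center_iff]
    refine ⟨fun hx y => Subtype.ext ((mem_cIn.1 hx).2 y (hE.1.1 y.2)), fun hx => ?_⟩
    by_contra hxZ
    exact hc fun a ha b hb => h.cent' (hE.1.1 x.2) hxZ (hE.1.1 ha) (hE.1.1 hb)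
      (congrArg Subtype.val (hx ⟨a, ha⟩)) (congrArg Subtype.val (hx ⟨b, hb⟩))
  rw [this]
  exact AInv.of_char _

theorem Heis.mem_iff (h : Heis S) (hS : IsPGroup p S) (hF : F.IsSaturated p)
    (hE : F.IsEssential p E) {x : Ω} (hx : x ∈ E) (hxZ : x ∉ centralizerIn S S) {s : Ω} :
    s ∈ E ↔ s ∈ S ∧ s * x = x * s :=
  ⟨fun hs => ⟨hE.1.1 hs, h.comm hS hF hE s hs x hx⟩, fun hs => isCentric_self hE.1
    (mem_cIn.2 ⟨hs.1, fun y hy =>
      h.cent' (hE.1.1 hx) hxZ (hE.1.1 hy) hs.1 (h.comm hS hF hE y hy x hx) hs.2⟩)⟩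

theorem Heis.not_le (h : Heis S) (hS : IsPGroup p S) (hF : F.IsSaturated p)
    (hE : F.IsEssential p E) (hQ : F.StronglyClosed Q) (h1 : Q ≠ ⊥) : ¬ Q ≤ centralizerIn S S := by
  intro hQZ
  have := finite_of_le hE.1.1
  have hQE := hQZ.trans (center_le_of_centric hE.1)
  refine h.not_aInv hS hF hE (aInv_of_ti (hS.to_le hE.1.1) (sat_sylIn hS hF hE.2.1)
    (fun t ht => ?_) (fun t ht ht1 e he => ?_) (fun u hu z hz => ?_)
    (Q := Q.subgroupOf E) (comap_mono hQZ) (fun e => h1 ?_) (aInv_of_stronglyClosed hE.1.1 hQ))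
  · obtain ⟨s, hs, hN, rfl⟩ := mem_autInducedBy'.1 ht
    exact h.triv hE.1 hs hN
  · obtain ⟨s, hs, hN, rfl⟩ := mem_autInducedBy'.1 ht
    by_contra heZ
    have h2 : s ∈ E := (h.mem_iff hS hF hE e.2 heZ).2
      ⟨hs, mul_inv_eq_iff_eq_mul.1 (congrArg Subtype.val he)⟩
    exact ht1 ((conjAut_eq_one_iff hN).2 (mem_centralizer_iff.2 fun y hy => h.comm hS hF hE y hy s h2))
  · obtain ⟨s, hs, e⟩ := h.surj' (hE.1.1 u.2) hu hz
    exact ⟨_, conjAut_mem_autInducedBy hs (h.le_normalizer hE.1 hs), Subtype.ext e⟩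
  · rwa [subgroupOf_eq_bot, disjoint_iff, inf_eq_left.2 hQE] at e

theorem Heis.isConstrained (h : Heis S) (hS : IsPGroup p S) (hF : F.IsSaturated p)
    (h1 : F.core ≠ ⊥) : F.IsConstrained p := by
  by_cases hex : ∃ E, F.IsEssential p E
  swap
  · push Not at hex
    exact ⟨hF, S, isNormal_top_of_no_essential hS hF hex, isCentric_top F⟩
  obtain ⟨E, hE⟩ := hex
  have hn := isNormal_core F
  have hsc := stronglyClosed_of_isNormal hn
  have hle : ∀ P, F.IsEssential p P → F.core ≤ P := fun P hP =>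
    IsNormal.le_of_radical hS hn (isCentric_self hP.1) (isRadical_of_isEssential hS hP)
  obtain ⟨x, hx, hxZ⟩ := SetLike.not_le_iff_exists.1 (h.not_le hS hF hE hsc h1)
  refine ⟨hF, E, isNormal_of_essential hS hF ?_, hE.1⟩
  rintro P (rfl | hP)
  · refine ⟨hE.1.1, fun f hf y hy => (h.mem_iff hS hF hE (hle E hE hx) hxZ).2 ⟨hf.maps (hE.1.1 hy), ?_⟩⟩
    have h2 : f⁻¹ x ∈ E := hle E hE (hf.symm.mor.mem_of_stronglyClosed hsc (hn.1 hx) hx)
    have h3 := congrArg f (h.comm hS hF hE y hy _ h2)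
    rwa [hf.map_mul (hE.1.1 hy) (hE.1.1 h2), hf.map_mul (hE.1.1 h2) (hE.1.1 hy), perm_apply_inv] at h3
  · have : P = E := by
      ext s
      rw [h.mem_iff hS hF hE (hle E hE hx) hxZ, h.mem_iff hS hF hP (hle P hP hx) hxZ]
    subst this
    exact ⟨le_rfl, fun f hf y hy => hf.maps hy⟩

theorem isRealizable_of_isConstrained (hS : IsPGroup p S) (h : F.IsConstrained p) :
    F.IsRealizable p := by
  obtain ⟨G, _, ι, h1, h2, h3, -⟩ := Cfsg.Agent.S5090.result p hS F h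
  exact ⟨G, _, h1, ι, h2, h3⟩

end Fus

section Mat

open Matrix

variable {K : Type*} [Field K]

/-- The upper unitriangular matrix with entries `a`, `b`, `c`. -/
def ut3 (a b c : K) : SpecialLinearGroup (Fin 3) K :=
  ⟨!![1, a, c; 0, 1, b; 0, 0, 1], by simp [det_fin_three]⟩

theorem ut3_mul (a b c a' b' c' : K) :
    ut3 a b c * ut3 a' b' c' = ut3 (a + a') (b + b') (c + c' + a * b') := by
  apply Subtype.ext
  rw [Matrix.SpecialLinearGroup.coe_mul]
  simp only [ut3, mul_fin_three]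
  ext i j
  fin_cases i <;> fin_cases j <;> simp <;> ring

theorem ut3_zero : ut3 (0 : K) 0 0 = 1 := by
  ext i j
  fin_cases i <;> fin_cases j <;> simp [ut3]

theorem ut3_inv (a b c : K) : (ut3 a b c)⁻¹ = ut3 (-a) (-b) (a * b - c) :=
  inv_eq_of_mul_eq_one_right (by rw [ut3_mul, ← ut3_zero]; congr 1 <;> ring)

theorem ut3_inj {a b c a' b' c' : K} : ut3 a b c = ut3 a' b' c' ↔ a = a' ∧ b = b' ∧ c = c' := by
  refine ⟨fun h => ?_, by rintro ⟨rfl, rfl, rfl⟩; rfl⟩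
  have e : ∀ i j, (ut3 a b c).1 i j = (ut3 a' b' c').1 i j := fun i j => by rw [h]
  exact ⟨e 0 1, e 1 2, e 0 2⟩

/-- The upper unitriangular subgroup of `SL₃(K)`. -/
def UT3 (K : Type*) [Field K] : Subgroup (SpecialLinearGroup (Fin 3) K) where
  carrier := {g | ∃ a b c, g = ut3 a b c}
  one_mem' := ⟨0, 0, 0, ut3_zero.symm⟩
  mul_mem' := by
    rintro _ _ ⟨a, b, c, rfl⟩ ⟨a', b', c', rfl⟩
    exact ⟨_, _, _, ut3_mul ..⟩
  inv_mem' := by
    rintro _ ⟨a, b, c, rfl⟩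
    exact ⟨_, _, _, ut3_inv ..⟩

theorem card_UT3 : Nat.card (UT3 K) = Nat.card K ^ 3 := by
  have : Function.Bijective fun x : K × K × K => (⟨ut3 x.1 x.2.1 x.2.2, _, _, _, rfl⟩ : UT3 K) := by
    refine ⟨fun x y h => ?_, ?_⟩
    · obtain ⟨h1, h2, h3⟩ := ut3_inj.1 (congrArg Subtype.val h)
      exact Prod.ext h1 (Prod.ext h2 h3)
    · rintro ⟨_, a, b, c, rfl⟩
      exact ⟨(a, b, c), rfl⟩
  rw [← Nat.card_eq_of_bijective _ this, Nat.card_prod, Nat.card_prod]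
  ring

theorem mem_center_UT3 {a b c : K} :
    (⟨ut3 a b c, _, _, _, rfl⟩ : UT3 K) ∈ center (UT3 K) ↔ a = 0 ∧ b = 0 := by
  rw [mem_center_iff]
  constructor
  · intro h
    have h1 := congrArg Subtype.val (h ⟨ut3 0 1 0, _, _, _, rfl⟩)
    have h2 := congrArg Subtype.val (h ⟨ut3 1 0 0, _, _, _, rfl⟩)
    simp only [Subgroup.coe_mul, ut3_mul, ut3_inj] at h1 h2
    exact ⟨by linear_combination -h1.2.2, by linear_combination h2.2.2⟩
  · rintro ⟨rfl, rfl⟩ ⟨_, a', b', c', rfl⟩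
    apply Subtype.ext
    simp only [Subgroup.coe_mul, ut3_mul, ut3_inj]
    exact ⟨by ring, by ring, by ring⟩

theorem heis_UT3 : Heis (UT3 K) := by
  refine ⟨?_, ?_, ?_⟩
  · rintro ⟨_, a, b, c, rfl⟩ ⟨_, a', b', c', rfl⟩
    have : (⟨ut3 a b c, _, _, _, rfl⟩ : UT3 K)⁻¹ * (⟨ut3 a' b' c', _, _, _, rfl⟩ *
        ⟨ut3 a b c, _, _, _, rfl⟩ * (⟨ut3 a' b' c', _, _, _, rfl⟩ : UT3 K)⁻¹) =
        ⟨ut3 0 0 (a' * b - a * b'), _, _, _, rfl⟩ := by
      apply Subtype.ext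
      simp only [Subgroup.coe_mul, Subgroup.coe_inv, ut3_inv, ut3_mul, ut3_inj]
      exact ⟨by ring, by ring, by ring⟩
    exact this ▸ mem_center_UT3.2 ⟨rfl, rfl⟩
  · rintro ⟨_, a, b, c, rfl⟩ hx ⟨_, a', b', c', rfl⟩ ⟨_, a'', b'', c'', rfl⟩ h1 h2
    rw [mem_center_UT3] at hx
    have h1' := congrArg Subtype.val h1
    have h2' := congrArg Subtype.val h2
    apply Subtype.ext
    simp only [Subgroup.coe_mul, ut3_mul, ut3_inj] at h1' h2' ⊢
    refine ⟨by ring, by ring, ?_⟩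
    have e1 : a' * b = a * b' := by linear_combination h1'.2.2
    have e2 : a'' * b = a * b'' := by linear_combination h2'.2.2
    have : a' * b'' = a'' * b' := by
      by_cases ha : a = 0
      · have hb : b ≠ 0 := fun hb => hx ⟨ha, hb⟩
        exact mul_left_cancel₀ hb (by subst ha; linear_combination b'' * e1 - b' * e2)
      · exact mul_left_cancel₀ ha (by linear_combination a'' * e1 - a' * e2)
    linear_combination this
  · rintro ⟨_, a, b, c, rfl⟩ hx ⟨_, a', b', c', rfl⟩ hz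
    rw [mem_center_UT3] at hx hz
    obtain ⟨rfl, rfl⟩ := hz
    by_cases ha : a = 0
    · have hb : b ≠ 0 := fun hb => hx ⟨ha, hb⟩
      refine ⟨⟨ut3 (c' / b) 0 0, _, _, _, rfl⟩, Subtype.ext ?_⟩
      simp only [Subgroup.coe_mul, Subgroup.coe_inv, ut3_inv, ut3_mul, ut3_inj]
      exact ⟨by ring, by ring, by subst ha; field_simp; ring⟩
    · refine ⟨⟨ut3 0 (-c' / a) 0, _, _, _, rfl⟩, Subtype.ext ?_⟩
      simp only [Subgroup.coe_mul, Subgroup.coe_inv, ut3_inv, ut3_mul, ut3_inj]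
      exact ⟨by ring, by ring, by field_simp; ring⟩

theorem nonempty_equiv_of_card {G : Type*} [Group G] [Finite G] {p : ℕ} [hp : Fact p.Prime]
    (T : Sylow p G) {U : Subgroup G} {k m : ℕ} (hU : Nat.card U = p ^ k)
    (hG : Nat.card G = p ^ k * m) (hm : ¬ p ∣ m) : Nonempty (T ≃* U) := by
  have hi : U.index = m := by
    have := U.card_mul_index
    rw [hU, hG] at this
    exact Nat.eq_of_mul_eq_mul_left (pow_pos hp.out.pos k) this
  exact ⟨T.equiv ((IsPGroup.of_card hU).toSylow (hi ▸ hm))⟩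

theorem not_dvd_pow_sub_one {p q k : ℕ} (hp : p.Prime) (hq : p ∣ q) (hq0 : 0 < q) (hk : k ≠ 0) :
    ¬ p ∣ q ^ k - 1 := fun h => by
  have := (Nat.dvd_sub_iff_right (Nat.one_le_pow k q hq0) (dvd_pow hq hk)).1 h
  exact hp.one_lt.ne' (Nat.dvd_one.1 this)

theorem heis_sylow_SL3 [Fintype K] {p : ℕ} [hp : Fact p.Prime] [CharP K p]
    (T : Sylow p (SpecialLinearGroup (Fin 3) K)) : Heis T := by
  obtain ⟨n, -, hn⟩ := FiniteField.card K p
  have hq : p ∣ Fintype.card K := hn ▸ dvd_pow_self p n.ne_zero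
  obtain ⟨e⟩ := nonempty_equiv_of_card T (U := UT3 K) (k := n * 3)
    (m := (Fintype.card K ^ 2 - 1) * (Fintype.card K ^ 3 - 1))
    (by rw [card_UT3, Nat.card_eq_fintype_card, hn, pow_mul])
    (by rw [card_SL_fin_three rfl, pow_mul, ← hn, mul_assoc])
    (fun h => ((Nat.Prime.dvd_mul hp.out).1 h).elim
      (not_dvd_pow_sub_one hp.out hq Fintype.card_pos two_ne_zero)
      (not_dvd_pow_sub_one hp.out hq Fintype.card_pos three_ne_zero))
  exact heis_UT3.of_equiv e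

end Mat

end Cfsg.Lib.Class.FusH
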