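import Cfsg.Agent.Class.OFrameRefl

/-!
Groups containing the reflections in an orthonormal frame of rank at least five and the even
permutations of the frame are monomial or contain `Ω` (the rank five and six cases of
`ROver.le_or_le`).
-/

set_option autoImplicit false

namespace Cfsg.Lib.Class.OMax

open QuadraticMap Module Orth

variable {F V : Type*} [Field F] [AddCommGroup V] [Module F V] {Q : QuadraticForm F V}
  {ι : Type*} {e : ι → V} {X : Subgroup (O Q)} [Fintype ι] [DecidableEq ι]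

/-- Groups containing the reflections in a frame and the even permutations of the frame. -/
structure ROver5 (Q : QuadraticForm F V) (e : ι → V) (X : Subgroup (O Q)) : Prop where
  frame : Frame Q e
  prime : ∀ A : AddSubgroup F, (1 : F) ∈ A → A = ⊤
  card : 5 ≤ Fintype.card ι
  refl : ∀ i, refl Q (e i) ∈ X
  perm : ∀ σ, Equiv.Perm.sign σ = 1 → frame.perm σ ∈ X

variable [Finite F]

theorem ROver5.of_eich (h : ROver5 Q e X) (h3 : (3 : F) ≠ 0) {ρ w : V} (hρ : ρ ≠ 0) (hρ0 : Q ρ = 0)
    (hw : w ∈ rootSp X ρ) (hw1 : w ∉ Submodule.span F {ρ}) :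
    commutator (O Q) ≤ X ∨ X ≤ Mon Q e := by
  have hf := h.frame
  have := hf.finiteDimensional
  have : Finite V := Module.finite_of_finite F
  obtain ⟨ρ₀, ⟨hρ₀, hρ₀'⟩, hmax⟩ := Set.exists_max_image {p : V | p ≠ 0 ∧ Q p = 0}
    (fun p => finrank F (rootSp X p)) (Set.toFinite _) ⟨ρ, hρ, hρ0⟩
  set d := finrank F (rootSp X ρ₀) with hd
  have hd2 : 2 ≤ d := by
    refine le_trans ?_ (hmax ρ ⟨hρ, hρ0⟩)
    have h1 := finrank_sup_span_singleton' hw1
    rw [finrank_span_singleton hρ] at h1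
    rw [show 2 = 1 + 1 from rfl, ← h1]
    exact Submodule.finrank_mono (sup_le ((Submodule.span_singleton_le_iff_mem _ _).2
      (self_mem_rootSp hρ0)) ((Submodule.span_singleton_le_iff_mem _ _).2 hw))
  have A : ∀ S, EL X S → finrank F S = d + 1 → ∀ p ∈ S, p ≠ 0 → Q p = 0 →
      rootSp X p ≤ S ∧ ∃ f ∈ S, Q f = 0 ∧ polar Q p f = 1 := by
    intro S hS hd p hp hp1 hp0
    have h1 := finrank_le_inf_orth_singleton (Q := Q) S p
    have h2 := hmax p ⟨hp1, hp0⟩
    have h4 := hS.inf_le_rootSp hp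
    refine ⟨(Submodule.eq_of_le_of_finrank_le h4 (by omega)).ge.trans inf_le_left,
      ?_⟩
    by_contra hc
    have h5 : S ≤ rootSp X p := le_trans (le_inf le_rfl fun x hx => mem_orth_singleton.2 (by
      by_contra hx'; exact hc (exists_partner_mem hp hx hp0 hx'))) h4
    have := Submodule.finrank_mono h5
    omega
  have C : ∀ S, EL X S → finrank F S = d + 1 → ∀ p ∈ S, p ≠ 0 → Q p = 0 → ∀ i,
      polar Q p (e i) ≠ 0 → e i ∈ S := by
    intro S hS hd p hp hp1 hp0 i hi
    obtain ⟨h1, f, hfS, hf0, hpf⟩ := A S hS hd p hp hp1 hp0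
    obtain ⟨u, hu, hu0⟩ : ∃ u ∈ rootSp X p, Q u ≠ 0 := by
      by_contra! hc
      have h2 := finrank_le_inf_orth_pair (Q := Q) S p f
      obtain ⟨x, hx, hx0⟩ := Submodule.exists_mem_ne_zero_of_ne_bot
        (p := S ⊓ orth Q (Submodule.span F {p, f}))
        (by rintro h; rw [h, finrank_bot] at h2; omega)
      obtain ⟨a1, a2⟩ := mem_orth_pair.1 hx.2
      have hxp : x ∈ rootSp X p := Full.mem_rootSp (hS p hp) hx.1 a1
      obtain ⟨-, y, hy, -, hxy⟩ := A S hS hd x hx.1 hx0 (hc x hxp)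
      have h4 := polar_eq_zero_of_forall hc hxp (Full.mem_rootSp (w := y - polar Q p y • f)
        (hS p hp) (S.sub_mem hy (S.smul_mem _ hfS)) (by qsimp; rw [hpf]; ring))
      qsimp_at h4
      rw [hxy, pc a2] at h4
      simp at h4
    have hS' := el_sup_of_refl hp0 (hf.norm_ne i) hi (h.refl i)
    have b1 : p ∈ rootSp X p ⊔ Submodule.span F {e i} :=
      Submodule.mem_sup_left (self_mem_rootSp hp0)
    have b2 : e i ∈ rootSp X p ⊔ Submodule.span F {e i} :=
      Submodule.mem_sup_right (Submodule.mem_span_singleton_self _)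
    obtain ⟨f', hf', hf0', hpf'⟩ := exists_partner_mem b1 b2 hp0 hi
    have h2 := h1 (sub_mem_rootSp h.prime hp0 hf0 hf0' hpf hpf' (pow_ne_zero 2 hf.two)
      (fun h4 => h3 (by linear_combination h4))
      (hS.tor_mem hf.two hp hfS (h1 hu) hp0 hf0 hpf hu.1 hu0 hf.two)
      (hS'.tor_mem hf.two b1 hf' (Submodule.mem_sup_left hu) hp0 hf0' hpf' hu.1 hu0 hf.two))
    have h4 := h1 (Full.mem_rootSp (w := e i - polar Q p (e i) • f') (hS' p b1)
      (Submodule.sub_mem _ b2 (Submodule.smul_mem _ _ hf')) (by qsimp; rw [hpf']; ring))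
    have h5 := S.sub_mem hfS h2
    rw [sub_sub_cancel] at h5
    simpa using S.add_mem h4 (S.smul_mem (polar Q p (e i)) h5)
  have D : ∀ S, EL X S → finrank F S = d + 1 → ∀ x ∈ S, ∀ i, polar Q x (e i) ≠ 0 → e i ∈ S := by
    intro S hS hd x hx i hi
    obtain ⟨p, hp, hp1, hp0⟩ := exists_singular_mem Q (S := S) (by omega)
    obtain ⟨-, f, hfS, hf0, hpf⟩ := A S hS hd p hp hp1 hp0
    by_contra hc
    refine hi (pc (mem_orth_singleton.1 (le_of_forall_singular (T := orth Q
      (Submodule.span F {e i})) hp hfS hp0 hf0 hpf (fun q hq hq0 _ => ?_) hx)))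
    by_contra hq1
    rw [mem_orth_singleton] at hq1
    exact hc (C S hS hd q hq (by rintro rfl; simp at hq1) hq0 i (pc' hq1))
  obtain ⟨a, ha⟩ := hf.exists_co_ne hρ₀
  have hS := el_sup_of_refl hρ₀' (hf.norm_ne a) ha (h.refl a)
  have hd1 : finrank F ↥(rootSp X ρ₀ ⊔ Submodule.span F {e a}) = d + 1 :=
    finrank_sup_span_singleton' fun hc => ha hc.1
  have haS : e a ∈ rootSp X ρ₀ ⊔ Submodule.span F {e a} :=
    Submodule.mem_sup_right (Submodule.mem_span_singleton_self _)
  generalize rootSp X ρ₀ ⊔ Submodule.span F {e a} = S at hS hd1 haS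
  have hcard := h.card
  by_cases htop : ∀ i, e i ∈ S
  · rw [hf.eq_top htop] at hS
    exact Or.inl (commutator_le_of_el hf.nondeg (by rw [hf.finrank_eq]; omega) hS)
  push Not at htop
  obtain ⟨b, hb⟩ := htop
  refine Or.inr fun g hg => hf.mem_Mon_iff.2 fun i => ?_
  obtain ⟨k, hk⟩ := hf.exists_co_ne (x := g.1 (e i)) (by simpa using hf.ne_zero i)
  have h1 : (g⁻¹).1 (e k) ∈ Submodule.span F {e i} := hf.mem_span_singleton fun j hj => by
    obtain ⟨τ, hτ, h1, h2⟩ := exists_even_perm_pair (by omega) (a := a) (b := b)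
      (by rintro rfl; exact hb haS) hj.symm
    have h4 := h.perm τ hτ
    obtain ⟨x, hx, h5⟩ := D _ (hS.map (X.mul_mem hg h4)) (by rw [LinearEquiv.finrank_map_eq, hd1])
      (g.1 (e i)) ⟨e a, haS, by rw [← h1, ← hf.perm_apply]; rfl⟩ k hk
    by_contra hc
    refine hb (D S hS hd1 x hx b ?_)
    rwa [← h5, ← h2, LinearEquiv.coe_coe, O_mul_apply, O_inv_apply, hf.co_perm] at hc
  obtain ⟨c, hc⟩ := Submodule.mem_span_singleton.1 h1
  have hc0 : c ≠ 0 := by
    rintro rfl
    exact hf.ne_zero k (by simpa using hc.symm)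
  refine ⟨k, Submodule.mem_span_singleton.2 ⟨c⁻¹, ?_⟩⟩
  rw [← O_apply_inv g (e k), ← hc, map_smul, smul_smul, inv_mul_cancel₀ hc0, one_smul]

theorem ROver5.of_three (h : ROver5 Q e X) (h3 : (3 : F) = 0) {u : V} (hu : Q u = 1)
    (hX : Orth.refl Q u ∈ X) (hu1 : ∀ i, u ∉ Submodule.span F {e i}) : commutator (O Q) ≤ X := by
  have hf := h.frame
  have := hf.finiteDimensional
  have hcard := h.card
  have hsq : ∀ x : F, x ≠ 0 → x ^ 2 = 1 := fun x hx => by
    let A : AddSubgroup F :=
      { carrier := {x | x ^ 3 = x}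
        add_mem' := fun {a b} ha hb => by
          simp only [Set.mem_ofPred_eq] at *
          linear_combination ha + hb + (a ^ 2 * b + a * b ^ 2) * h3
        zero_mem' := by simp
        neg_mem' := fun {a} ha => by
          simp only [Set.mem_ofPred_eq] at *
          linear_combination -ha }
    have h1 : x ^ 3 = x := (h.prime A (one_pow 3) ▸ AddSubgroup.mem_top x : x ∈ A)
    exact mul_left_cancel₀ hx (by linear_combination h1)
  classical
  set s := Finset.univ.filter fun i => polar Q u (e i) ≠ 0 with hs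
  have hs1 : (s.card : F) = 1 := by
    have h1 := hf.four_mul_of_subset (x := u) (T := s) fun i hi => by simpa [hs] using hi
    rw [Finset.sum_congr rfl (g := fun _ => 1) fun i hi => hsq _ (Finset.mem_filter.1 hi).2,
      Finset.sum_const, hu, nsmul_eq_mul] at h1
    linear_combination h3 - h1
  have hs4 : 4 ≤ s.card := by
    by_contra! hc
    have h1 : s.card = 1 := by
      interval_cases s.card
      · simp at hs1
      · rfl
      · exact absurd (by push_cast at hs1; linear_combination hs1) (one_ne_zero (α := F))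
      · exact absurd (by push_cast at hs1; linear_combination h3 - hs1) (one_ne_zero (α := F))
    obtain ⟨i, hi⟩ := Finset.card_eq_one.1 h1
    refine hu1 i (hf.mem_span_singleton fun j hj => ?_)
    by_contra hc
    exact hj (Finset.mem_singleton.1 (hi ▸ Finset.mem_filter.2 ⟨Finset.mem_univ j, hc⟩))
  obtain ⟨T, hTs, hT⟩ := Finset.exists_subset_card_eq hs4
  have hT' : ∀ i ∈ T, polar Q u (e i) ^ 2 = 1 := fun i hi =>
    hsq _ (Finset.mem_filter.1 (hTs hi)).2
  have hsg : ∀ T, hf.sg T ∈ X := fun T => hf.sg_mem fun i _ => h.refl i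
  have h1 : Orth.refl Q (∑ i ∈ T, e i) ∈ X := by
    have h2 := refl_apply_mem (hsg (T.filter fun i => polar Q u (e i) = 1))
      (refl_apply_mem hX (refl_apply_mem (hsg T) hX))
    convert h2 using 2
    refine hf.ext fun j => ?_
    have h4 : polar Q ((hf.sg T).1 u) u = 1 := by
      rw [polar_comm, hf.two_mul_polar_sg, Finset.sum_congr rfl hT', Finset.sum_const, hT, hu]
      simp only [nsmul_eq_mul]
      linear_combination -h3
    rw [hf.co_sg, refl_apply, h4, hu, polar_sub_left, polar_smul_left', hf.co_sg,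
      show ∀ z, polar Q z (e j) = (polarBilin Q).flip (e j) z from fun _ => rfl, map_sum]
    simp only [LinearMap.flip_apply, polarBilin_apply_apply, hf.polar_e, Finset.sum_ite_eq',
      Finset.mem_filter]
    by_cases hj : j ∈ T
    · rcases mul_self_eq_one_iff.1 ((pow_two _).symm.trans (hT' j hj)) with h5 | h5
      · simp [hj, h5]; norm_num
      · have : (-1 : F) ≠ 1 := fun h6 => hf.two (by linear_combination -h6)
        simp [hj, h5, this]; norm_num
    · simp [hj]
  have h2 : ∀ T' : Finset ι, T'.card = 4 → Orth.refl Q (∑ i ∈ T', e i) ∈ X := by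
    intro T' hT'
    obtain ⟨σ, hσ⟩ := exists_perm_map_eq (hT.trans hT'.symm)
    obtain ⟨τ, hτ, h4⟩ : ∃ τ : Equiv.Perm ι, Equiv.Perm.sign τ = 1 ∧ ∀ i, τ i ∈ T' ↔ i ∈ T := by
      rcases Int.units_eq_one_or (Equiv.Perm.sign σ) with h5 | h5
      · exact ⟨σ, h5, hσ⟩
      obtain ⟨x, hx, y, hy, hxy⟩ := Finset.one_lt_card.1 (show 1 < T.card by omega)
      refine ⟨σ * Equiv.swap x y, by simp [h5, hxy], fun i => ?_⟩
      rw [Equiv.Perm.mul_apply, hσ, Equiv.swap_apply_def]
      split_ifs with h6 h7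
      · simp [h6, hx, hy]
      · simp [h7, hx, hy]
      · rfl
    have h5 := refl_apply_mem (h.perm τ hτ) h1
    rw [map_sum] at h5
    convert h5 using 2
    refine (Finset.sum_bijective τ τ.bijective (fun i => (h4 i).symm) fun i _ => ?_).symm
    rw [hf.perm_apply]
  obtain ⟨a, b, c, hab, hac, hbc⟩ := Fintype.two_lt_card_iff.1 (show 2 < Fintype.card ι by omega)
  have hρ : Q (e a + e b + e c) = 0 := by
    qsimp
    rw [hf.norm, hf.norm, hf.norm, hf.perp a b hab, hf.perp a c hac, hf.perp b c hbc]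
    linear_combination h3
  have hρa : polar Q (e a + e b + e c) (e a) = 2 := by
    qsimp; rw [hf.norm, hf.perp b a hab.symm, hf.perp c a hac.symm]; ring
  have hS := el_sup_of_refl hρ (hf.norm_ne a) (by rw [hρa]; exact hf.two) (h.refl a)
  have b1 : e a ∈ rootSp X (e a + e b + e c) ⊔ Submodule.span F {e a} :=
    Submodule.mem_sup_right (Submodule.mem_span_singleton_self _)
  have b2 : e b ∈ rootSp X (e a + e b + e c) ⊔ Submodule.span F {e a} := by
    have h4 : polar Q (e a + e b + e c) (e a - e b) = 0 := by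
      rw [polar_sub_right, hρa]
      qsimp; rw [hf.norm, hf.perp a b hab, hf.perp c b hbc.symm]; ring
    have h5 : Q (e a - e b) = 2 := by rw [Q_sub, hf.norm, hf.norm, hf.perp a b hab]; ring
    have h6 := mem_rootSp_of_prime (X := X) h.prime hρ h4 (by
      rw [eich_eq_refl_mul_refl hρ h4 (by rw [h5]; exact hf.two), h5,
        show e a - e b - (2 : F) • (e a + e b + e c) = e c - e a - (3 : F) • (e b + e c) by module,
        h3, zero_smul, sub_zero, ← hf.perm_swap hab, ← hf.perm_swap hac.symm, ← map_mul]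
      exact h.perm _ (by simp [hab, hac.symm]))
    simpa using Submodule.sub_mem _ b1 (Submodule.mem_sup_left h6)
  rw [hf.eq_top (S := rootSp X (e a + e b + e c) ⊔ Submodule.span F {e a}) fun j => ?_] at hS
  · exact commutator_le_of_el hf.nondeg (by rw [hf.finrank_eq]; omega) hS
  by_cases ja : j = a
  · rwa [ja]
  by_cases jb : j = b
  · rwa [jb]
  by_cases jc : j = c
  · have := Submodule.sub_mem _ (Submodule.mem_sup_left (self_mem_rootSp hρ))
      (Submodule.add_mem _ b1 b2)
    rwa [add_sub_cancel_left, jc] at *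
  have h4 : polar Q (e a + e b + e c) (e j) = 0 := by
    qsimp; rw [hf.perp a j (Ne.symm ja), hf.perp b j (Ne.symm jb), hf.perp c j (Ne.symm jc)]; ring
  refine Submodule.mem_sup_left (mem_rootSp_of_prime h.prime hρ h4 ?_)
  rw [eich_eq_refl_mul_refl hρ h4 (hf.norm_ne j), hf.norm, one_smul]
  refine X.mul_mem (h.refl j) ?_
  have h5 := refl_apply_mem (h.refl j) (h2 {j, a, b, c} (by
    rw [Finset.card_eq_succ]
    exact ⟨j, {a, b, c}, by simp [ja, jb, jc], rfl, Finset.card_eq_three.2 ⟨a, b, c, hab, hac, hbc, rfl⟩⟩))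
  rw [Finset.sum_insert (by simp [ja, jb, jc]), Finset.sum_insert (by simp [hab, hac]),
    Finset.sum_pair hbc, ← add_assoc (e a), map_add, refl_apply_self (hf.norm_ne j),
    refl_apply_of_orth h4, ← refl_neg] at h5
  convert h5 using 2
  abel

namespace ROver5

omit [Finite F] in
theorem rt (h : ROver5 Q e X) (i : ι) : Rt X (e i) := ⟨h.frame.norm i, h.refl i⟩

omit [Finite F] in
theorem sg_mem (h : ROver5 Q e X) (T : Finset ι) : h.frame.sg T ∈ X :=
  h.frame.sg_mem fun i _ => h.refl i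

omit [Finite F] in
theorem co_eq_zero (h : ROver5 Q e X) (hN : NoEich X) {u : V} (hu : Rt X u) {T : Finset ι}
    (hT : ∑ i ∈ T, polar Q u (e i) ^ 2 = 4) {k : ι} (hk : k ∉ T) : polar Q u (e k) = 0 := by
  have h1 := hN.eq_neg_of_two hu (hu.apply (h.sg_mem T)) (by
    rw [h.frame.two_mul_polar_sg, hT, hu.1]; ring)
  have h2 := congrArg (polar Q · (e k)) h1
  simp only [polar_neg_left, h.frame.co_sg, if_neg hk] at h2
  exact mul_left_cancel₀ h.frame.two (by linear_combination h2)

open ROver (ne_of_co)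

theorem al_of_three (h : ROver5 Q e X) (hN : NoEich X) {u : V} (hu : Rt X u) {i j k : ι}
    (hij : i ≠ j) (hik : i ≠ k) (hjk : j ≠ k) (hi : polar Q u (e i) ≠ 0) (hj : polar Q u (e j) ≠ 0)
    (hk : polar Q u (e k) ≠ 0) :
    Al (polar Q u (e i) ^ 2) ∧ Al (polar Q u (e i) ^ 2 * polar Q u (e j) ^ 2) := by
  have hf := h.frame
  have := hf.finiteDimensional
  have H := @NoEich.tri _ _ _ _ _ _ _ _ _ hN hf.two hf.nondeg _ _ _ (h.rt i) (h.rt j) hu
    (hf.perp i j hij) hi hj fun hc => by
      obtain ⟨r, s, rfl⟩ := Submodule.mem_span_pair.1 hc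
      refine hk ?_
      qsimp; rw [hf.perp i k hik, hf.perp j k hjk]; ring
  have b1 : e i ∈ Submodule.span F {e i, e j} ⊔ Submodule.span F {u} :=
    Submodule.mem_sup_left (Submodule.subset_span (by simp))
  have b2 : e j ∈ Submodule.span F {e i, e j} ⊔ Submodule.span F {u} :=
    Submodule.mem_sup_left (Submodule.subset_span (by simp))
  have b3 : u ∈ Submodule.span F {e i, e j} ⊔ Submodule.span F {u} :=
    Submodule.mem_sup_right (Submodule.mem_span_singleton_self u)
  obtain ⟨a1, a2⟩ := ne_of_co hk (hf.perp i k hik)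
  refine ⟨H hu (h.rt i) b3 b1 a1 a2, ?_⟩
  have h1 : (Orth.refl Q u).1 (e j) = e j - polar Q u (e j) • u := by
    rw [refl_apply, hu.1, inv_one, one_mul, polar_comm]
  obtain ⟨a3, a4⟩ := ne_of_co (u := (Orth.refl Q u).1 (e j)) (by
    rw [h1]; qsimp; rw [hf.perp j k hjk, zero_sub, neg_ne_zero]; exact mul_ne_zero hj hk)
    (hf.perp i k hik)
  have h2 := H ((h.rt j).apply hu.2) (h.rt i) ((refl_mem_stab b3 _).1 b2) b1 a3 a4
  rw [h1] at h2
  qsimp_at h2
  rw [hf.perp j i hij.symm] at h2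
  convert h2 using 1
  ring

theorem add_eq_three (h : ROver5 Q e X) (hN : NoEich X) (h3 : (3 : F) ≠ 0) {u : V} (hu : Rt X u)
    {i j k : ι} (hij : i ≠ j) (hik : i ≠ k) (hjk : j ≠ k) (hi : polar Q u (e i) ≠ 0)
    (hj : polar Q u (e j) ≠ 0) (hk : polar Q u (e k) ≠ 0) (hi1 : polar Q u (e i) ^ 2 ≠ 1)
    (hj1 : polar Q u (e j) ^ 2 ≠ 1) : polar Q u (e i) ^ 2 + polar Q u (e j) ^ 2 = 3 ∧
      polar Q u (e i) ^ 2 ≠ polar Q u (e j) ^ 2 := by
  obtain ⟨a1, a2⟩ := h.al_of_three hN hu hij hik hjk hi hj hk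
  obtain ⟨a3, -⟩ := h.al_of_three hN hu hij.symm hjk hik hj hi hk
  have hne : polar Q u (e i) ^ 2 ≠ polar Q u (e j) ^ 2 := fun hc => by
    refine hi1 (a1.eq_one h.frame.two h3 (pow_ne_zero 2 hi) (by rwa [← hc] at a2)
      (fun h4 => hk (h.co_eq_zero hN hu (T := {i, j}) ?_ (by simp [hik.symm, hjk.symm])))
      fun h4 => hk (h.co_eq_zero hN hu (T := {i}) (by simpa using h4) (by simp [hik.symm])))
    rw [Finset.sum_pair hij, ← hc, h4]; norm_num
  refine ⟨?_, hne⟩
  rcases a1 with b | b | b | b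
  · exact absurd b (pow_ne_zero 2 hi)
  · exact absurd b hi1
  · rcases a3 with c | c | c | c
    · exact absurd c (pow_ne_zero 2 hj)
    · exact absurd c hj1
    · exact absurd (b.trans c.symm) hne
    · exact absurd (b ▸ a2) (not_al_two_mul h.frame.two h3 c)
  · rcases a3 with c | c | c | c
    · exact absurd c (pow_ne_zero 2 hj)
    · exact absurd c hj1
    · exact absurd (mul_comm _ (2 : F) ▸ c ▸ a2) (not_al_two_mul h.frame.two h3 b)
    · exact mul_left_cancel₀ (sub_ne_zero.2 hne) (by linear_combination b - c)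

theorem move (h : ROver5 Q e X) (hN : NoEich X) {u x : V} (hu : Rt X u) (hx : Rt X x) {i j l : ι}
    (hj : polar Q u (e j) = 0) (hj' : polar Q x (e j) ≠ 0) (hxu : polar Q x u ≠ 0)
    (hl : polar Q u (e l) ≠ 0) (hl' : polar Q x (e l) = 0) (hij : i ≠ j)
    (hi : polar Q x (e i) ≠ 0) {y : V} (hy : Rt X y)
    (hyW : y ∈ Submodule.span F {e j, u} ⊔ Submodule.span F {x}) (h0 : u ≠ y) (h1 : u ≠ -y) :
    Al (polar Q u y ^ 2) := by
  have hf := h.frame
  have := hf.finiteDimensional
  refine hN.tri hf.two hf.nondeg (h.rt j) hu hx (pc hj) hj' hxu (fun hc => ?_) hu hy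
    (Submodule.mem_sup_left (Submodule.subset_span (by simp))) hyW h0 h1
  obtain ⟨r, s, rfl⟩ := Submodule.mem_span_pair.1 hc
  qsimp_at hl'
  qsimp_at hi
  rw [hf.perp j l (by rintro rfl; exact hl hj), mul_zero, zero_add, mul_eq_zero,
    or_iff_left hl] at hl'
  rw [hf.perp j i hij.symm, hl'] at hi
  simp at hi

theorem supp (h : ROver5 Q e X) (hN : NoEich X) (h3 : (3 : F) ≠ 0) {u : V} (hu : Rt X u)
    {s : Finset ι} (hmem : ∀ {i}, i ∈ s ↔ polar Q u (e i) ≠ 0) (hs3 : 2 < s.card) :
    s.card ≤ 4 ∧ (∃ a ∈ s, polar Q u (e a) ^ 2 = 1) ∧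
      (s.card = 4 → ∀ a ∈ s, polar Q u (e a) ^ 2 = 1) := by
  classical
  have hf := h.frame
  have hsub : ∀ T : Finset ι, ∑ i ∈ T, polar Q u (e i) ^ 2 = 4 → s.card ≤ T.card := fun T hT =>
    Finset.card_le_card fun l hl => by_contra fun hc => hmem.1 hl (h.co_eq_zero hN hu hT hc)
  set o := s.filter fun i => polar Q u (e i) ^ 2 = 1 with ho
  set n := s.filter fun i => ¬ polar Q u (e i) ^ 2 = 1 with hn
  have hon : o.card + n.card = s.card := Finset.card_filter_add_card_filter_not _
  have hn2 : n.card ≤ 2 := by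
    by_contra! hc
    obtain ⟨a, b, c, ha, hb, hc, hab, hac, hbc⟩ := Finset.two_lt_card_iff.1 hc
    rw [Finset.mem_filter, hmem] at ha hb hc
    have b1 := (h.add_eq_three hN h3 hu hab hac hbc ha.1 hb.1 hc.1 ha.2 hb.2).1
    have b2 := (h.add_eq_three hN h3 hu hac hab hbc.symm ha.1 hc.1 hb.1 ha.2 hc.2).1
    exact (h.add_eq_three hN h3 hu hbc hab.symm hac.symm hb.1 hc.1 ha.1 hb.2 hc.2).2
      (by linear_combination b1 - b2)
  obtain ⟨a, ha⟩ := Finset.card_pos.1 (show 0 < o.card by omega)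
  obtain ⟨has, ha1⟩ := Finset.mem_filter.1 ha
  have hn3 : 1 < n.card → s.card ≤ 3 := fun hc => by
    obtain ⟨b, hb, c, hc, hbc⟩ := Finset.one_lt_card.1 hc
    rw [Finset.mem_filter, hmem] at hb hc
    have hba : b ≠ a := by rintro rfl; exact hb.2 ha1
    have hca : c ≠ a := by rintro rfl; exact hc.2 ha1
    have b1 := (h.add_eq_three hN h3 hu hbc hba hca hb.1 hc.1 (hmem.1 has) hb.2 hc.2).1
    have b2 := hsub {a, b, c} (by
      rw [Finset.sum_insert (by simp [hba.symm, hca.symm]), Finset.sum_pair hbc, ha1, b1]; norm_num)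
    have := Finset.card_le_three (a := a) (b := b) (c := c)
    omega
  refine ⟨?_, ⟨a, has, ha1⟩, fun h4 b hb => by_contra fun hb1 => ?_⟩
  · by_cases h4 : 4 ≤ o.card
    · obtain ⟨T, hT, hT4⟩ := Finset.exists_subset_card_eq h4
      rw [← hT4]
      refine hsub T ?_
      rw [Finset.sum_congr rfl fun i hi => (Finset.mem_filter.1 (hT hi)).2, Finset.sum_const, hT4]
      simp
    omega
  have hbn : b ∈ n := Finset.mem_filter.2 ⟨hb, hb1⟩
  have h5 := Finset.card_pos.2 ⟨b, hbn⟩
  obtain ⟨c, hc⟩ := Finset.card_eq_one.1 (show n.card = 1 by omega)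
  have h6 := hf.four_mul_of_subset (x := u) (T := s) fun i hi => not_not.1 (mt hmem.2 hi)
  rw [hc, Finset.mem_singleton] at hbn
  rw [← Finset.sum_filter_add_sum_filter_not s fun i => polar Q u (e i) ^ 2 = 1, ← ho, ← hn, hc,
    Finset.sum_congr rfl fun i hi => (Finset.mem_filter.1 hi).2, Finset.sum_const,
    show o.card = 3 by omega, Finset.sum_singleton, ← hbn, hu.1] at h6
  exact hb1 (by simp only [nsmul_eq_mul] at h6; push_cast at h6; linear_combination -h6)

theorem not_four (h : ROver5 Q e X) (hN : NoEich X) (h3 : (3 : F) ≠ 0) {u : V} (hu : Rt X u)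
    {s : Finset ι} (hmem : ∀ {i}, i ∈ s ↔ polar Q u (e i) ≠ 0) (h4 : s.card = 4) : False := by
  classical
  have hf := h.frame
  have hcard := h.card
  have h1 := (h.supp hN h3 hu hmem (by omega)).2.2 h4
  have hv := hu.apply (h.sg_mem (s.filter fun i => polar Q u (e i) = -1))
  have h2 : ∀ i, polar Q ((hf.sg (s.filter fun i => polar Q u (e i) = -1)).1 u) (e i) =
      if i ∈ s then 1 else 0 := fun i => by
    rw [hf.co_sg]
    by_cases hi : i ∈ s
    · rcases mul_self_eq_one_iff.1 ((pow_two _).symm.trans (h1 i hi)) with h5 | h5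
      · have : (1 : F) ≠ -1 := fun h6 => hf.two (by linear_combination h6)
        simp [hi, h5, this]
      · simp [hi, h5]
    · simp [hi, not_not.1 (mt hmem.2 hi)]
  generalize (hf.sg (s.filter fun i => polar Q u (e i) = -1)).1 u = v at hv h2
  obtain ⟨b, hb⟩ := exists_notMem_of_card_lt (A := s) (by omega)
  obtain ⟨a, c, d, ha, hc, hd, hac, had, hcd⟩ := Finset.two_lt_card_iff.1 (show 2 < s.card by omega)
  have hab : a ≠ b := by rintro rfl; exact hb ha
  have hx := hv.apply (h.perm (Equiv.swap c d * Equiv.swap a b)⁻¹ (by simp [hab, hcd]))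
  have h5 : ∀ i, polar Q ((hf.perm (Equiv.swap c d * Equiv.swap a b)⁻¹).1 v) (e i) =
      if i ∈ insert b (s.erase a) then 1 else 0 := fun i => by
    rw [hf.co_perm', h2]
    refine if_congr ?_ rfl rfl
    change Equiv.swap c d (Equiv.swap a b i) ∈ s ↔ _
    have h6 : ∀ j, Equiv.swap c d j ∈ s ↔ j ∈ s := fun j => by
      rw [Equiv.swap_apply_def]
      split_ifs with h6 h7
      · simp [h6, hc, hd]
      · simp [h7, hc, hd]
      · rfl
    rw [h6, Equiv.swap_apply_def]
    split_ifs with h7 h8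
    · simp [h7, hb, hab]
    · simp [h8, ha]
    · simp [h7, h8]
  generalize (hf.perm (Equiv.swap c d * Equiv.swap a b)⁻¹).1 v = x at hx h5
  have h6 : 2 * polar Q x v = 3 := by
    rw [hf.two_mul_polar, Finset.sum_congr rfl (g := fun i => if i ∈ s.erase a then 1 else 0)
      fun i _ => by
        rw [h5, h2]
        by_cases h7 : i = b
        · simp [h7, hb]
        by_cases h8 : i = a <;> by_cases h9 : i ∈ s <;> simp [h7, h8, h9, hab]]
    rw [Finset.sum_ite_mem, Finset.univ_inter, Finset.sum_const, Finset.card_erase_of_mem ha, h4]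
    simp
  have h7 : ∀ i ∈ insert b s, polar Q ((Orth.refl Q v).1 x) (e i) ≠ 0 := fun i hi h7 => by
    rw [refl_apply, hv.1, inv_one, one_mul, polar_sub_left, polar_smul_left', h5, h2] at h7
    by_cases h8 : i = b
    · simp [h8, hb] at h7
    have h9 := (Finset.mem_insert.1 hi).resolve_left h8
    by_cases h10 : i = a
    · simp only [h10, ha, hab, if_true, Finset.mem_insert, Finset.notMem_erase, or_self,
        if_false] at h7
      exact h3 (by linear_combination -2 * h7 - h6)
    · simp only [h10, h9, if_true, Finset.mem_insert, Finset.mem_erase, ne_eq, not_false_eq_true,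
        and_self, or_true] at h7
      exact one_ne_zero (α := F) (by linear_combination -2 * h7 - h6)
  have h8 := Finset.card_le_card (s := insert b s) (t := Finset.univ.filter fun i =>
    polar Q ((Orth.refl Q v).1 x) (e i) ≠ 0) fun i hi => by simpa using h7 i hi
  rw [Finset.card_insert_of_notMem hb] at h8
  have := (h.supp hN h3 (hx.apply hv.2) (s := Finset.univ.filter fun i =>
    polar Q ((Orth.refl Q v).1 x) (e i) ≠ 0) (by simp) (by omega)).1
  omega

theorem not_three (h : ROver5 Q e X) (hN : NoEich X) (h3 : (3 : F) ≠ 0) {u : V} (hu : Rt X u)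
    {i j k : ι} (hij : i ≠ j) (hik : i ≠ k) (hjk : j ≠ k) (hi : polar Q u (e i) ≠ 0)
    (hj : polar Q u (e j) ≠ 0) (hk : polar Q u (e k) ≠ 0) : False := by
  classical
  have hf := h.frame
  have hcard := h.card
  set s := Finset.univ.filter fun i => polar Q u (e i) ≠ 0 with hs
  have hmem : ∀ {i}, i ∈ s ↔ polar Q u (e i) ≠ 0 := by simp [hs]
  have hs3 : 2 < s.card := Finset.two_lt_card_iff.2 ⟨i, j, k, hmem.2 hi, hmem.2 hj, hmem.2 hk, hij,
    hik, hjk⟩
  obtain ⟨hs4, ⟨a, has, ha1⟩, -⟩ := h.supp hN h3 hu hmem hs3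
  have hs5 : s.card ≠ 4 := h.not_four hN h3 hu hmem
  obtain ⟨l, hl, hla⟩ := Finset.exists_mem_ne (show 1 < s.card by omega) a
  have hsum : ∀ τ : Equiv.Perm ι, 2 * polar Q u ((hf.perm τ).1 u) =
      polar Q u (e (τ a)) * polar Q u (e a) +
        ∑ i ∈ s.erase a, polar Q u (e (τ i)) * polar Q u (e i) := fun τ => by
    rw [hf.two_mul_polar_perm, Finset.add_sum_erase s (fun i => polar Q u (e (τ i)) *
      polar Q u (e i)) has]
    exact (Finset.sum_subset (Finset.subset_univ s) fun i _ hi => by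
      rw [not_not.1 (mt hmem.2 hi), mul_zero]).symm
  have hW : ∀ j x, x ∈ Submodule.span F {e j, u} ⊔ Submodule.span F {x} := fun j x =>
    Submodule.mem_sup_right (Submodule.mem_span_singleton_self x)
  -- first move
  obtain ⟨b, hb⟩ := exists_notMem_of_card_lt (A := s) (by omega)
  have hb0 : polar Q u (e b) = 0 := not_not.1 (mt hmem.2 hb)
  obtain ⟨τ, hτ, hτ'⟩ := exists_even_perm (Equiv.swap a b) s (by omega)
  have hτ1 : ∀ i ∈ s.erase a, τ i = i := fun i hi => by
    rw [hτ' i (Finset.mem_of_mem_erase hi), Equiv.swap_apply_of_ne_of_ne (Finset.ne_of_mem_erase hi)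
      (by rintro rfl; exact hb (Finset.mem_of_mem_erase hi))]
  have hτ2 : τ a = b := by rw [hτ' a has, Equiv.swap_apply_left]
  have m1 : 2 * polar Q u ((hf.perm τ).1 u) = 3 := by
    have h4 := hf.four_mul_of_subset (x := u) (T := s) fun i hi => not_not.1 (mt hmem.2 hi)
    rw [← Finset.add_sum_erase s _ has, hu.1, ha1] at h4
    rw [hsum, hτ2, hb0, Finset.sum_congr rfl fun i hi => by rw [hτ1 i hi, ← pow_two]]
    linear_combination -h4
  have m2 : polar Q ((hf.perm τ).1 u) (e a) = 0 := by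
    rw [hf.co_perm']
    by_contra hc
    by_cases h5 : τ.symm a = a
    · rw [Equiv.symm_apply_eq, hτ2] at h5
      exact hb (h5 ▸ has)
    · exact h5 ((hτ1 _ (Finset.mem_erase.2 ⟨h5, hmem.2 hc⟩)).symm.trans (τ.apply_symm_apply a))
  obtain ⟨m3, m4⟩ := ne_of_co (hmem.1 has) m2
  have m5 := h.move hN hu (hu.apply (h.perm τ hτ)) (i := l) hb0
    (by rw [← hτ2, hf.co_perm]; exact hmem.1 has)
    (pc' fun hc => h3 (by rw [← m1, hc, mul_zero])) (hmem.1 has) m2 (by rintro rfl; exact hb hl)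
    (by rw [← hτ1 l (Finset.mem_erase.2 ⟨hla, hl⟩), hf.co_perm]; exact hmem.1 hl)
    (hu.apply (h.perm τ hτ)) (hW _ _) m3 m4
  -- second move
  obtain ⟨B, hB, hB'⟩ := Finset.exists_subset_card_eq (s := sᶜ) (n := s.card - 1)
    (by rw [Finset.card_compl]; omega)
  have haB : a ∉ B := fun hc => Finset.mem_compl.1 (hB hc) has
  obtain ⟨σ, hσ⟩ := exists_perm_map_eq (S := s) (S' := insert a B)
    (by rw [Finset.card_insert_of_notMem haB]; omega)
  obtain ⟨ρ, hρ, hρ'⟩ := exists_even_perm (Equiv.swap (σ a) a * σ) s (by omega)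
  have hρ2 : ρ a = a := by rw [hρ' a has, Equiv.Perm.mul_apply, Equiv.swap_apply_left]
  have hρ1 : ∀ i ∈ s.erase a, polar Q u (e (ρ i)) = 0 := fun i hi => by
    obtain ⟨hi1, hi2⟩ := Finset.mem_erase.1 hi
    have h4 : ρ i ∈ insert a B := by
      rw [hρ' i hi2, Equiv.Perm.mul_apply, Equiv.swap_apply_def]
      split_ifs
      · simp
      · exact (hσ a).2 has
      · exact (hσ i).2 hi2
    have h5 := (Finset.mem_insert.1 h4).resolve_left fun hc =>
      hi1 (ρ.injective (hc.trans hρ2.symm))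
    exact not_not.1 (mt hmem.2 (Finset.mem_compl.1 (hB h5)))
  have n1 : 2 * polar Q u ((hf.perm ρ).1 u) = 1 := by
    rw [hsum, hρ2, Finset.sum_eq_zero fun i hi => by rw [hρ1 i hi, zero_mul]]
    linear_combination ha1
  have n2 : polar Q ((hf.perm ρ).1 u) (e l) = 0 := by
    rw [hf.co_perm']
    by_contra hc
    by_cases h5 : ρ.symm l = a
    · rw [Equiv.symm_apply_eq, hρ2] at h5
      exact hla h5
    · have := hρ1 _ (Finset.mem_erase.2 ⟨h5, hmem.2 hc⟩)
      rw [ρ.apply_symm_apply] at this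
      exact hmem.1 hl this
  obtain ⟨n3, n4⟩ := ne_of_co (hmem.1 hl) n2
  have n5 := h.move hN hu (hu.apply (h.perm ρ hρ)) (i := a)
    (hρ1 l (Finset.mem_erase.2 ⟨hla, hl⟩)) (by rw [hf.co_perm]; exact hmem.1 hl)
    (pc' fun hc => one_ne_zero (α := F) (by rw [← n1, hc, mul_zero])) (hmem.1 hl) n2
    (fun hc => hla (ρ.injective (hc.symm.trans hρ2.symm)))
    (by rw [← hρ2, hf.co_perm]; exact hmem.1 has) (hu.apply (h.perm ρ hρ)) (hW _ _) n3 n4
  exact not_al_pair hf.two h3 m1 n1 m5 n5 fun hc =>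
    n4 (hN.eq_neg_of_two hu (hu.apply (h.perm ρ hρ)) hc)

theorem sq_eq_two (h : ROver5 Q e X) (hN : NoEich X) (h3 : (3 : F) ≠ 0) {u : V} (hu : Rt X u)
    {i j : ι} (hij : i ≠ j) (hi : polar Q u (e i) ≠ 0) (hj : polar Q u (e j) ≠ 0) :
    polar Q u (e i) ^ 2 = 2 := by
  have hf := h.frame
  have hcard := h.card
  have key : ∀ {i j : ι}, i ≠ j → polar Q u (e i) ≠ 0 → polar Q u (e j) ≠ 0 →
      Al (polar Q u (e i) ^ 2) := by
    intro i j hij hi hj
    have h0 : ∀ k, k ≠ i → k ≠ j → polar Q u (e k) = 0 := fun k hki hkj =>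
      by_contra fun hc => h.not_three hN h3 hu hij hki.symm hkj.symm hi hj hc
    obtain ⟨k, hk⟩ := exists_notMem_of_card_lt (A := {i, j})
      (by have := Finset.card_le_two (a := i) (b := j); omega)
    rw [Finset.mem_insert, Finset.mem_singleton, not_or] at hk
    obtain ⟨τ, hτ, h1, h2⟩ := exists_even_perm_pair (by omega) hij (Ne.symm hk.1)
    have c1 : polar Q ((hf.perm τ).1 u) (e i) = polar Q u (e i) := by
      conv_lhs => rw [← h1, hf.co_perm]
    have c2 : polar Q ((hf.perm τ).1 u) (e k) = polar Q u (e j) := by rw [← h2, hf.co_perm]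
    have c3 : ∀ l, l ≠ i → l ≠ k → polar Q ((hf.perm τ).1 u) (e l) = 0 := fun l hl hl' => by
      rw [hf.co_perm']
      refine h0 _ (fun hc => hl ?_) fun hc => hl' ?_
      · rw [← h1, ← hc, τ.apply_symm_apply]
      · rw [← h2, ← hc, τ.apply_symm_apply]
    obtain ⟨a1, a2⟩ := ne_of_co hj (hf.perp i j hij)
    refine h.move hN hu (hu.apply (h.perm τ hτ)) (i := i) (h0 k hk.1 hk.2) (by rwa [c2])
      (fun hc => ?_) hj (c3 j hij.symm (Ne.symm hk.2)) (Ne.symm hk.1) (by rwa [c1]) (h.rt i) ?_ a1 a2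
    · have h4 := hf.two_mul_polar ((hf.perm τ).1 u) u
      rw [hc, Finset.sum_eq_single i (fun l _ hl => ?_) (by simp), c1] at h4
      · exact mul_ne_zero hi hi (by linear_combination -h4)
      · by_cases hlk : l = k
        · rw [hlk, h0 k hk.1 hk.2, mul_zero]
        · rw [c3 l hl hlk, zero_mul]
    · rw [← Submodule.smul_mem_iff _ hi, show polar Q u (e i) • e i = (2 : F) • (hf.perm τ).1 u -
        polar Q u (e j) • e k from hf.ext fun l => ?_]
      · exact Submodule.sub_mem _ (Submodule.smul_mem _ _ (Submodule.mem_sup_right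
          (Submodule.mem_span_singleton_self _))) (Submodule.smul_mem _ _ (Submodule.mem_sup_left
          (Submodule.subset_span (by simp))))
      qsimp
      by_cases hli : l = i
      · rw [hli, c1, hf.polar_self, hf.perp k i hk.1]; ring
      by_cases hlk : l = k
      · rw [hlk, c2, hf.polar_self, hf.perp i k (Ne.symm hk.1)]; ring
      rw [c3 l hli hlk, hf.perp i l (Ne.symm hli), hf.perp k l (Ne.symm hlk)]; ring
  refine (key hij hi hj).eq_two (pow_ne_zero 2 hi) (pow_ne_zero 2 hj) (key hij.symm hj hi) hf.two ?_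
  have h4 := hf.four_mul_of_subset (x := u) (T := {i, j}) fun k hk => by
    rw [Finset.mem_insert, Finset.mem_singleton, not_or] at hk
    exact by_contra fun hc => h.not_three hN h3 hu hij (Ne.symm hk.1) (Ne.symm hk.2) hi hj hc
  rw [Finset.sum_pair hij, hu.1] at h4
  linear_combination -h4

theorem le_Mon (h : ROver5 Q e X) (hN : NoEich X) (h3 : (3 : F) ≠ 0) : X ≤ Mon Q e := by
  classical
  have hf := h.frame
  have hcard := h.card
  refine fun g hg => hf.mem_Mon_iff.2 fun k => ?_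
  have hu := (h.rt k).apply hg
  obtain ⟨a, ha⟩ := hf.exists_co_ne (x := g.1 (e k)) (by simpa using hf.ne_zero k)
  refine ⟨a, hf.mem_span_singleton fun b hba => by_contra fun hb => ?_⟩
  have hs : ∀ u, Rt X u → (Finset.univ.filter fun i => polar Q u (e i) ≠ 0).card ≤ 2 := by
    intro u hu
    by_contra! hc
    obtain ⟨a, b, c, ha, hb, hc, hab, hac, hbc⟩ := Finset.two_lt_card_iff.1 hc
    exact h.not_three hN h3 hu hab hac hbc (Finset.mem_filter.1 ha).2 (Finset.mem_filter.1 hb).2
      (Finset.mem_filter.1 hc).2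
  obtain ⟨l, hl⟩ := exists_notMem_of_card_lt
    (A := (Finset.univ.filter fun i => polar Q ((g⁻¹).1 (e a)) (e i) ≠ 0) ∪
      Finset.univ.filter fun i => polar Q ((g⁻¹).1 (e b)) (e i) ≠ 0) (by
      have h1 := hs _ ((h.rt a).apply (X.inv_mem hg))
      have h2 := hs _ ((h.rt b).apply (X.inv_mem hg))
      refine (Finset.card_union_le _ _).trans_lt ?_
      omega)
  simp only [Finset.mem_union, Finset.mem_filter, Finset.mem_univ, true_and, not_or, not_not,
    ← O_polar_right] at hl
  have hkl : k ≠ l := by rintro rfl; exact ha (pc hl.1)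
  obtain ⟨c, hc⟩ := hf.exists_co_ne (x := g.1 (e l)) (by simpa using hf.ne_zero l)
  have hca : a ≠ c := by rintro rfl; exact hc (pc hl.1)
  have hcb : b ≠ c := by rintro rfl; exact hc (pc hl.2)
  have h0 : ∀ m, m ≠ a → m ≠ b → polar Q (g.1 (e k)) (e m) = 0 := fun m h1 h2 =>
    by_contra fun hm => h.not_three hN h3 hu hba.symm h1.symm h2.symm ha hb hm
  obtain ⟨τ, hτ, h1, h2⟩ := exists_even_perm_pair (by omega) hba.symm hkl
  have hv := (hu.apply (h.perm τ hτ)).apply hg
  have hv1 : (2 : F) • (hf.perm τ).1 (g.1 (e k)) =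
      polar Q (g.1 (e k)) (e a) • e k + polar Q (g.1 (e k)) (e b) • e l := by
    suffices H : (2 : F) • g.1 (e k) =
        polar Q (g.1 (e k)) (e a) • e a + polar Q (g.1 (e k)) (e b) • e b by
      rw [← map_smul, H, map_add, map_smul, map_smul, hf.perm_apply, hf.perm_apply, h1, h2]
    refine hf.ext fun m => ?_
    qsimp
    by_cases hma : m = a
    · rw [hma, hf.polar_self, hf.perp b a hba]; ring
    by_cases hmb : m = b
    · rw [hmb, hf.polar_self, hf.perp a b hba.symm]; ring
    rw [h0 m hma hmb, hf.perp a m (Ne.symm hma), hf.perp b m (Ne.symm hmb)]; ring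
  have hv2 : ∀ m, 2 * polar Q (g.1 ((hf.perm τ).1 (g.1 (e k)))) (e m) =
      polar Q (g.1 (e k)) (e a) * polar Q (g.1 (e k)) (e m) +
        polar Q (g.1 (e k)) (e b) * polar Q (g.1 (e l)) (e m) := fun m => by
    rw [← polar_smul_left', ← map_smul, hv1, map_add, map_smul, map_smul]
    qsimp
  refine h.not_three hN h3 hv hba.symm hca hcb (fun h4 => ?_) (fun h4 => ?_) fun h4 => ?_
  · have := hv2 a
    rw [h4, pc hl.1] at this
    exact mul_ne_zero ha ha (by linear_combination -this)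
  · have := hv2 b
    rw [h4, pc hl.2] at this
    exact mul_ne_zero ha hb (by linear_combination -this)
  · have := hv2 c
    rw [h4, h0 c hca.symm hcb.symm] at this
    exact mul_ne_zero hb hc (by linear_combination -this)

/-- A group containing the reflections in an orthonormal frame (prime field, rank at least five)
and the even permutations of the frame is monomial or contains `Ω`. -/
theorem le_or_le (h : ROver5 Q e X) : commutator (O Q) ≤ X ∨ X ≤ Mon Q e := by
  by_cases h3 : (3 : F) = 0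
  · refine or_iff_not_imp_right.2 fun hc => ?_
    obtain ⟨g, hg, hg1⟩ := SetLike.not_le_iff_exists.1 hc
    rw [h.frame.mem_Mon_iff, not_forall] at hg1
    obtain ⟨i, hi⟩ := hg1
    exact h.of_three h3 ((h.rt i).apply hg).1 ((h.rt i).apply hg).2 (not_exists.1 hi)
  by_cases hN : NoEich X
  · exact Or.inr (h.le_Mon hN h3)
  simp only [NoEich, not_forall] at hN
  obtain ⟨ρ, w, h1, h2, h4, h5, h6⟩ := hN
  exact h.of_eich h3 h1 h2 (mem_rootSp_of_prime h.prime h2 h4 h5) h6

end ROver5

end Cfsg.Lib.Class.OMax
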