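import Cfsg.Agent.Class.OMaxSub
import Cfsg.Agent.Class.MaxSingular
import Cfsg.Agent.Known.OrthLevi

/-!
Geometric subgroups of `Ω` that are not maximal.
-/

set_option autoImplicit false

namespace Cfsg.Lib.Class.OMax

open QuadraticMap Module Orth

variable {F V : Type*} [Field F] [AddCommGroup V] [Module F V] {Q : QuadraticForm F V}

/-- expand quadratic and polar values of linear combinations in a hypothesis -/
scoped macro "qsimp_at " h:ident : tactic =>
  `(tactic| simp only [Q_add, Q_sub, Q_smul, QuadraticMap.map_neg, QuadraticMap.map_zero,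
      polar_add_left, polar_add_right, polar_sub_left, polar_sub_right, polar_neg_left,
      polar_neg_right, polar_smul_left', polar_smul_right', polar_self', polar_zero_left,
      polar_zero_right] at $h:ident)

/-- The stabiliser of a set of vectors. -/
def stabSet (F : Type*) {V : Type*} [Field F] [AddCommGroup V] [Module F V] (S : Set V) :
    Subgroup (V ≃ₗ[F] V) where
  carrier := {g | ∀ v, v ∈ S ↔ g v ∈ S}
  mul_mem' {a b} ha hb v := (hb v).trans (ha _)
  one_mem' _ := Iff.rfl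
  inv_mem' {a} ha v := by
    rw [ha (a⁻¹ v)]
    simp

theorem mem_stabSet_of_finite {S : Set V} (hS : S.Finite) {g : V ≃ₗ[F] V}
    (h : ∀ v ∈ S, g v ∈ S) : g ∈ stabSet F S := fun v => ⟨h v, fun hv => by
  have h1 : Set.MapsTo g S S := h
  have h2 := (hS.injOn_iff_bijOn_of_mapsTo h1).1 g.injective.injOn
  obtain ⟨x, hx, hxv⟩ := h2.surjOn hv
  rwa [← g.injective hxv]⟩

theorem notMaxOm_of_set [Finite F] [FiniteDimensional F V] {N : Subgroup (V ≃ₗ[F] V)} (S : Set V)
    (h1 : ∀ g ∈ commutator (O Q), g.1 ∈ N → ∀ v ∈ S, g.1 v ∈ S)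
    (h2 : ∃ g ∈ commutator (O Q), (∀ v ∈ S, g.1 v ∈ S) ∧ g.1 ∉ N)
    (h3 : ∃ g ∈ commutator (O Q), ∃ v ∈ S, g.1 v ∉ S) : NotMaxOm Q N := by
  have : Finite V := Module.finite_of_finite F
  obtain ⟨g, hg, hg1, hg2⟩ := h2
  obtain ⟨k, hk, v, hv, hkv⟩ := h3
  exact ⟨stabSet F S, fun g hg hN => mem_stabSet_of_finite S.toFinite (h1 g hg hN),
    ⟨g, hg, mem_stabSet_of_finite S.toFinite hg1, hg2⟩, k, hk, fun h => hkv ((h v).1 hv)⟩

theorem notMaxOm_of_sub [Finite F] [FiniteDimensional F V] (hQ : (polarBilin Q).Nondegenerate)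
    (hn : 5 ≤ finrank F V) {N : Subgroup (V ≃ₗ[F] V)} {U : Submodule F V} (hU0 : U ≠ ⊥)
    (hU1 : U ≠ ⊤) (h1 : ∀ g ∈ commutator (O Q), g.1 ∈ N → g ∈ stab Q U)
    (h2 : ∃ g ∈ commutator (O Q), g ∈ stab Q U ∧ g.1 ∉ N) : NotMaxOm Q N := by
  obtain ⟨g, hg, hg1, hg2⟩ := h2
  obtain ⟨k, hk, hkU⟩ := exists_not_stab hQ hn hU0 hU1
  exact ⟨stabSub U, fun g hg hN => mem_stabSub_iff_stab.2 (h1 g hg hN),
    ⟨g, hg, mem_stabSub_iff_stab.2 hg1, hg2⟩, k, hk, fun h => hkU (mem_stabSub_iff_stab.1 h)⟩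

section Fin

variable [FiniteDimensional F V]

theorem dick_eq_one_of_mem_Om (hQ : (polarBilin Q).Nondegenerate) (hn : 5 ≤ finrank F V)
    {g : O Q} (hg : g ∈ commutator (O Q)) : dick g = 1 :=
  commutator_le_ker' (dickHom hQ (not_exc_of_finrank (by omega))) hg

theorem exists_orth_ne (hQ : (polarBilin Q).Nondegenerate) {x y : V}
    (h : y ∉ Submodule.span F {x}) : ∃ w, polar Q x w = 0 ∧ polar Q y w ≠ 0 := by
  by_contra! hc
  refine h ?_
  rw [← orth_orth hQ (Submodule.span F {x}), mem_orth']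
  exact fun w hw => hc w (mem_orth_singleton.1 hw)

/-- Totally singular subspaces of dimension `n/2 - 1` in plus type. -/
theorem notMaxOm_singular [Finite F] (hQ : (polarBilin Q).Nondegenerate) (hn : 5 ≤ finrank F V)
    (hp : Known.IsPlus Q) {W : Submodule F V} (hW : ∀ w ∈ W, Q w = 0)
    (hd : 2 * (finrank F W + 1) = finrank F V) : NotMaxOm Q (stabSub W) := by
  obtain ⟨W₀, W₁, hne, h⟩ := exists_two_maxSingular hQ hp hd.symm rfl hW
  obtain ⟨a0, b0, c0⟩ := (h W₀).2 (Or.inl rfl)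
  obtain ⟨a1, b1, c1⟩ := (h W₁).2 (Or.inr rfl)
  have hE : ¬ Exc Q := not_exc_of_finrank (by omega)
  refine notMaxOm_of_sub hQ hn (U := W₀) ?_ ?_ (fun g hg hN => ?_) ?_
  · rintro rfl; rw [finrank_bot] at a0; omega
  · rintro rfl; rw [finrank_top] at a0; omega
  · rw [mem_stabSub_iff_stab, mem_stab_iff_map] at hN
    rw [mem_stab_iff_map]
    have h1 : finrank F (W₀.map g.1.toLinearMap) = finrank F W + 1 := by
      rw [LinearEquiv.finrank_map_eq, a0]
    refine ((h _).1 ⟨h1, ?_, ?_⟩).resolve_right fun h2 => ?_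
    · rintro _ ⟨x, hx, rfl⟩
      simpa using b0 x hx
    · exact hN.symm.le.trans (Submodule.map_mono c0)
    · have h3 := Known.dick_eq_of_maxSingular hQ hE hd.symm a0 b0 g
      rw [dick_eq_one_of_mem_Om hQ hn hg, h2] at h3
      have h4 : finrank F W ≤ finrank F ↥(W₀ ⊓ W₁) := Submodule.finrank_mono (le_inf c0 c1)
      have h5 : finrank F ↥(W₀ ⊓ W₁) < finrank F W₀ := by
        refine Submodule.finrank_lt_finrank_of_lt (lt_of_le_of_ne inf_le_left fun h6 => hne ?_)
        exact Submodule.eq_of_le_of_finrank_eq (inf_eq_left.1 h6) (by omega)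
      rw [show finrank F W + 1 - finrank F ↥(W₀ ⊓ W₁) = 1 by omega] at h3
      exact absurd h3 (by decide)
  · obtain ⟨x, hx, hxW⟩ := exists_mem_notMem_of_finrank_lt (H := W) (W := W₀) (by omega)
    obtain ⟨y, hy, hyx⟩ := exists_mem_notMem_of_finrank_lt (H := Submodule.span F {x}) (W := W)
      (by have := finrank_span_singleton_le (F := F) x; omega)
    obtain ⟨w, hw1, hw2⟩ := exists_orth_ne hQ hyx
    refine ⟨eich Q x w, eich_mem_Om hQ hn _ _, eich_mem_stab_of_singular b0 hx w, fun hN => ?_⟩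
    have h1 := (mem_stabSub_iff_stab.1 hN y).1 hy
    rw [eich_apply_of_orth (b0 x hx) hw1 (polar_eq_zero_of_forall b0 (c0 hy) hx)] at h1
    have h2 := W.smul_mem (polar Q y w)⁻¹ (W.sub_mem h1 hy)
    rw [add_sub_cancel_left, smul_smul, inv_mul_cancel₀ hw2, one_smul] at h2
    exact hxW h2

/-- Pairs of complementary totally singular subspaces of odd dimension. -/
theorem notMaxOm_pair_odd [Finite F] (hQ : (polarBilin Q).Nondegenerate) (hn : 5 ≤ finrank F V)
    {D : Fin 2 → Submodule F V} {k : ℕ} (hk : Odd k) (hd : ∀ i, finrank F (D i) = k)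
    (hV : finrank F V = 2 * k) (hdis : Disjoint (D 0) (D 1)) (hs : ∀ i, ∀ x ∈ D i, Q x = 0) :
    NotMaxOm Q (stabDec D) := by
  have hE : ¬ Exc Q := not_exc_of_finrank (by omega)
  have hne : D 0 ≠ D 1 := fun h => by
    rw [h, disjoint_self] at hdis
    have := hd 1
    rw [show D 1 = ⊥ from hdis, finrank_bot] at this
    omega
  refine notMaxOm_of_sub hQ hn (U := D 0) ?_ ?_ (fun g hg hN => ?_) ?_
  · intro h; have := hd 0; rw [h, finrank_bot] at this; omega
  · intro h; have := hd 0; rw [h, finrank_top] at this; omega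
  · obtain ⟨σ, hσ⟩ := mem_stabDec.1 hN
    rw [mem_stab_iff_map]
    have h1 := hσ 0
    have h3 := Known.dick_eq_of_maxSingular hQ hE hV (hd 0) (hs 0) g
    rw [dick_eq_one_of_mem_Om hQ hn hg] at h3
    rcases (by decide : ∀ i : Fin 2, i = 0 ∨ i = 1) (σ 0) with h | h
    · rwa [h] at h1
    · rw [h] at h1
      rw [h1, disjoint_iff.1 hdis, finrank_bot, Nat.sub_zero, hk.neg_one_pow] at h3
      exact absurd h3 (by decide)
  · obtain ⟨p, hp, hp0⟩ := Submodule.exists_mem_ne_zero_of_ne_bot (p := D 0)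
      (by intro h; have := hd 0; rw [h, finrank_bot] at this; omega)
    obtain ⟨w, hw, hwp⟩ := exists_mem_notMem_of_finrank_lt (H := Submodule.span F {p}) (W := D 0)
      (by have := finrank_span_singleton_le (F := F) p; have := hd 0; omega)
    have htop : D 0 ⊔ D 1 = ⊤ := Submodule.eq_top_of_finrank_eq (by
      have := Submodule.finrank_sup_add_finrank_inf_eq (D 0) (D 1)
      rw [disjoint_iff.1 hdis, finrank_bot, hd, hd] at this
      omega)
    obtain ⟨y, hy, hyp⟩ : ∃ y ∈ D 1, polar Q y p ≠ 0 := by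
      by_contra! hc
      refine hp0 (nondeg_right hQ fun x => ?_)
      obtain ⟨a, ha, b, hb, rfl⟩ := Submodule.mem_sup.1 (htop ▸ Submodule.mem_top : x ∈ D 0 ⊔ D 1)
      rw [polar_add_left, hc b hb, polar_eq_zero_of_forall (hs 0) ha hp, add_zero]
    have hst := eich_mem_stab_of_singular (hs 0) hp w
    refine ⟨eich Q p w, eich_mem_Om hQ hn _ _, hst, fun hN => ?_⟩
    obtain ⟨σ, hσ⟩ := mem_stabDec.1 hN
    have h0 : σ 0 = 0 := by
      have h1 := hσ 0
      rw [mem_stab_iff_map.1 hst] at h1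
      rcases (by decide : ∀ i : Fin 2, i = 0 ∨ i = 1) (σ 0) with h | h
      · exact h
      · exact absurd (h ▸ h1) hne
    have h1 : σ 1 = 1 := by
      rcases (by decide : ∀ i : Fin 2, i = 0 ∨ i = 1) (σ 1) with h | h
      · exact absurd (σ.injective (h.trans h0.symm)) (by decide)
      · exact h
    have h2 : (eich Q p w).1 y ∈ D 1 := by
      have := hσ 1
      rw [h1] at this
      rw [← this]; exact ⟨y, hy, rfl⟩
    rw [eich_apply_long (hs 0 p hp) (hs 0 w hw) (polar_eq_zero_of_forall (hs 0) hp hw)] at h2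
    have h3 := (D 1).sub_mem h2 hy
    rw [add_sub_cancel_left] at h3
    exact smul_sub_smul_ne_zero hp0 hwp (Or.inr hyp) (Submodule.disjoint_def.1 hdis _
      ((D 0).sub_mem ((D 0).smul_mem _ hp) ((D 0).smul_mem _ hw)) h3)

/-- Coordinates in a hyperbolic plane. -/
theorem eq_hyp_of_finrank_two {W : Submodule F V} (hW : finrank F W ≤ 2) {e f : V} (he : e ∈ W)
    (hf : f ∈ W) (he0 : Q e = 0) (hef : polar Q e f = 1) {x : V} (hx : x ∈ W) :
    ∃ a b : F, x = a • e + b • f := by
  have hli : LinearIndependent F ![e, f] := by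
    refine LinearIndependent.pair_iff.2 fun s t h => ?_
    have h1 := congrArg (polar Q e) h
    qsimp_at h1
    rw [he0, hef] at h1
    have ht : t = 0 := by simpa using h1
    rw [ht, zero_smul, add_zero] at h
    refine ⟨(smul_eq_zero.1 h).resolve_right ?_, ht⟩
    rintro rfl
    simp at hef
  have h1 : Submodule.span F {e, f} = W := Submodule.eq_of_le_of_finrank_le
    (Submodule.span_le.2 (by rintro _ (rfl | rfl) <;> assumption))
    (by rw [finrank_span_pair hli]; exact hW)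
  rw [← h1, Submodule.mem_span_pair] at hx
  obtain ⟨a, b, h⟩ := hx
  exact ⟨a, b, h.symm⟩

omit [FiniteDimensional F V] in
theorem exists_hyp_of_singular {W : Submodule F V} (hW : Disjoint W (orth Q W)) {e : V}
    (he : e ∈ W) (he1 : e ≠ 0) (he0 : Q e = 0) : ∃ f ∈ W, Q f = 0 ∧ polar Q e f = 1 := by
  obtain ⟨x, hx, hex⟩ := exists_ne_of_disjoint hW he he1
  exact exists_partner_mem he hx he0 hex

theorem exists_singular_orth [Finite F] (hQ : (polarBilin Q).Nondegenerate) {W : Submodule F V}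
    (h : finrank F W + 3 ≤ finrank F V) : ∃ p ∈ orth Q W, p ≠ 0 ∧ Q p = 0 :=
  exists_singular_mem Q (by have := finrank_orth hQ W; omega)

omit [FiniteDimensional F V] in
theorem mul_self_eq_one_of_card_le [Fintype F] (hq : Fintype.card F ≤ 3) {a : F} (ha : a ≠ 0) :
    a * a = 1 := by
  have h1 := FiniteField.pow_card_sub_one_eq_one a ha
  have h2 := Fintype.one_lt_card (α := F)
  rcases (by omega : Fintype.card F = 2 ∨ Fintype.card F = 3) with h | h <;> rw [h] at h1
  · rw [show a = 1 by simpa using h1, one_mul]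
  · simpa [pow_two] using h1

/-- Hyperbolic planes over fields with at most three elements. -/
theorem notMaxOm_hyp' [Fintype F] (hQ : (polarBilin Q).Nondegenerate) (hn : 5 ≤ finrank F V)
    (hq : Fintype.card F ≤ 3) {W : Submodule F V} (hW : Disjoint W (orth Q W))
    (hd : finrank F W = 2) {e : V} (he : e ∈ W) (he1 : e ≠ 0) (he0 : Q e = 0) :
    NotMaxOm Q (stabSub W) := by
  obtain ⟨f, hf, hf0, hef⟩ := exists_hyp_of_singular hW he he1 he0
  have hv : Q (e + f) = 1 := by rw [Q_add, he0, hf0, hef]; ring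
  refine notMaxOm_of_sub hQ hn (U := Submodule.span F {e + f}) ?_ ?_ (fun g _ hN => ?_) ?_
  · rw [Ne, Submodule.span_singleton_eq_bot]
    intro h; rw [h] at hv; simp at hv
  · intro h
    have := finrank_span_singleton_le (F := F) (e + f)
    rw [h, finrank_top] at this
    omega
  · refine mem_stab_of_map_le ?_
    rw [Submodule.map_span, Set.image_singleton, Submodule.span_singleton_le_iff_mem]
    have h1 := (mem_stabSub_iff_stab.1 hN _).1 (W.add_mem he hf)
    obtain ⟨a, b, h⟩ := eq_hyp_of_finrank_two hd.le he hf he0 hef h1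
    have h2 : a * b = 1 := by
      have := O_map g (e + f)
      rw [h, hv] at this
      qsimp_at this
      rw [he0, hf0, hef] at this
      linear_combination this
    have h3 := mul_self_eq_one_of_card_le hq (left_ne_zero_of_mul_eq_one h2)
    have h4 : b = a := by linear_combination (-b) * h3 + a * h2
    change g.1 (e + f) ∈ _
    rw [h, h4, ← smul_add]
    exact Submodule.smul_mem _ _ (Submodule.mem_span_singleton_self _)
  · obtain ⟨p, hp, hp1, hp0⟩ := exists_singular_orth hQ (W := W) (by omega)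
    have hpw : polar Q p (e - f) = 0 := mem_orth'.1 hp _ (W.sub_mem he hf)
    refine ⟨eich Q p (e - f), eich_mem_Om hQ hn _ _, fixG_le_stab _ (mem_fixG_span.2 ?_),
      fun hN => ?_⟩
    · rintro _ rfl
      refine eich_apply_of_orth_orth (hp _ (W.add_mem he hf)) ?_
      qsimp
      rw [he0, hf0, hef, pc hef]; ring
    · have h1 := (mem_stabSub_iff_stab.1 hN e).1 he
      rw [eich_apply_of_orth hp0 hpw (hp _ he)] at h1
      have h2 := W.sub_mem h1 he
      rw [add_sub_cancel_left, polar_sub_right, polar_self', he0, hef, mul_zero, zero_sub,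
        neg_smul, one_smul, neg_mem_iff] at h2
      exact hp1 (Submodule.disjoint_def.1 hW _ h2 hp)

end Fin

/-- A family of pairwise orthogonal non-degenerate subspaces. -/
structure PerpFam (Q : QuadraticForm F V) {τ : Type*} (D : τ → Submodule F V) : Prop where
  nondeg : ∀ i, Disjoint (D i) (orth Q (D i))
  perp : ∀ i j, i ≠ j → ∀ x ∈ D i, ∀ y ∈ D j, polar Q x y = 0

section Dec

variable {τ : Type*} {D : τ → Submodule F V}

theorem PerpFam.eq_of_mem (h : PerpFam Q D) {i j : τ} {x : V} (hi : x ∈ D i) (hj : x ∈ D j)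
    (hx : x ≠ 0) : i = j := by
  by_contra hij
  exact hx (Submodule.disjoint_def.1 (h.nondeg i) x hi fun w hw => h.perp i j hij w hw x hj)

theorem PerpFam.notMem_stabDec (h : PerpFam Q D) {i : τ} {g : V ≃ₗ[F] V} {x y : V}
    (hx : x ∈ D i) (hx0 : x ≠ 0) (hgx : g x = x) (hy : y ∈ D i) (hgy : g y ∉ D i) :
    g ∉ stabDec D := fun hg => by
  obtain ⟨σ, hσ⟩ := mem_stabDec.1 hg
  have h1 : x ∈ D (σ i) := by rw [← hσ i]; exact ⟨x, hx, hgx⟩
  have h2 : g y ∈ D (σ i) := by rw [← hσ i]; exact ⟨y, hy, rfl⟩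
  rw [← h.eq_of_mem hx h1 hx0] at h2
  exact hgy h2

/-- The vectors of norm `c` in the members of the family. -/
def normSet (Q : QuadraticForm F V) (D : τ → Submodule F V) (c : F) : Set V :=
  {v | (∃ i, v ∈ D i) ∧ Q v = c}

theorem apply_mem_normSet {c : F} {g : O Q} (hg : g.1 ∈ stabDec D) {v : V}
    (hv : v ∈ normSet Q D c) : g.1 v ∈ normSet Q D c := by
  obtain ⟨σ, hσ⟩ := mem_stabDec.1 hg
  obtain ⟨⟨i, hi⟩, hv⟩ := hv
  exact ⟨⟨σ i, by rw [← hσ i]; exact ⟨v, hi, rfl⟩⟩, by rw [O_map, hv]⟩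

theorem PerpFam.refl_sub_mem (h : PerpFam Q D) (h2 : (2 : F) ≠ 0) {c : F} (hc : c ≠ 0)
    (hf : ∀ i, ∀ u ∈ D i, ∀ v ∈ D i, Q u = c → Q v = c → u = v ∨ u = -v ∨ polar Q u v = 0)
    {i j : τ} (hij : i ≠ j) {a b : V} (ha : a ∈ D i) (hb : b ∈ D j) (ha' : Q a = c) (hb' : Q b = c)
    {v : V} (hv : v ∈ normSet Q D c) : (refl Q (a - b)).1 v ∈ normSet Q D c := by
  obtain ⟨⟨l, hl⟩, hv⟩ := hv
  refine ⟨?_, by rw [O_map, hv]⟩
  have hab : Q (a - b) ≠ 0 := by
    rw [Q_sub, ha', hb', h.perp i j hij a ha b hb, sub_zero, ← two_mul]; exact mul_ne_zero h2 hc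
  have h1 : (refl Q (a - b)).1 a = b := refl_sub_apply (ha'.trans hb'.symm) hab
  have h3 : (refl Q (a - b)).1 b = a := (congrArg _ h1.symm).trans (refl_refl_apply _ _)
  have key : polar Q v a = 0 → polar Q v b = 0 → ∃ i, (refl Q (a - b)).1 v ∈ D i := fun h4 h5 =>
    ⟨l, by rwa [refl_apply_of_orth (by rw [polar_sub_right, h4, h5, sub_zero])]⟩
  by_cases hli : l = i
  · subst hli
    rcases hf l v hl a ha hv ha' with rfl | rfl | h4
    · exact ⟨j, by rwa [h1]⟩
    · exact ⟨j, by rw [map_neg, h1]; exact (D j).neg_mem hb⟩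
    · exact key h4 (h.perp l j hij v hl b hb)
  by_cases hlj : l = j
  · subst hlj
    rcases hf l v hl b hb hv hb' with rfl | rfl | h4
    · exact ⟨i, by rwa [h3]⟩
    · exact ⟨i, by rw [map_neg, h3]; exact (D i).neg_mem ha⟩
    · exact key (h.perp l i hli v hl a ha) h4
  exact key (h.perp l i hli v hl a ha) (h.perp l j hlj v hl b hb)

variable [FiniteDimensional F V] [Finite F]

theorem PerpFam.exists_move (h : PerpFam Q D) (hQ : (polarBilin Q).Nondegenerate)
    (hn : 5 ≤ finrank F V) {i : τ} (hi : finrank F (D i) + 3 ≤ finrank F V) {a : V} (ha : a ∈ D i)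
    (ha0 : a ≠ 0) : ∃ g ∈ commutator (O Q), ∀ j, g.1 a ∉ D j := by
  obtain ⟨p, hp, hp1, hp0⟩ := exists_singular_orth hQ hi
  obtain ⟨w, hw, haw⟩ := exists_ne_of_disjoint (h.nondeg i) ha ha0
  refine ⟨eich Q p w, eich_mem_Om hQ hn _ _, fun j hj => ?_⟩
  rw [eich_apply_of_orth hp0 (mem_orth'.1 hp w hw) (hp a ha)] at hj
  by_cases hij : i = j
  · subst hij
    have h1 := (D i).smul_mem (polar Q a w)⁻¹ ((D i).sub_mem hj ha)
    rw [add_sub_cancel_left, smul_smul, inv_mul_cancel₀ haw, one_smul] at h1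
    exact hp1 (Submodule.disjoint_def.1 (h.nondeg i) p h1 hp)
  · have h1 := h.perp i j hij w hw _ hj
    rw [polar_add_right, polar_smul_right', mem_orth.1 hp w hw, mul_zero, add_zero] at h1
    exact haw (pc h1)

omit [Finite F] in
theorem exists_ne_zero_orth {W : Submodule F V} (h : 2 ≤ finrank F W) (a : V) :
    ∃ x ∈ W, x ≠ 0 ∧ polar Q a x = 0 := by
  have h1 := finrank_le_inf_orth_singleton (Q := Q) W a
  obtain ⟨x, hx, hx0⟩ := Submodule.exists_mem_ne_zero_of_ne_bot
    (p := W ⊓ orth Q (Submodule.span F {a})) (by rintro h; rw [h, finrank_bot] at h1; omega)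
  exact ⟨x, hx.1, hx0, mem_orth_singleton.1 hx.2⟩

/-- The vectors of norm `c` in the members form a frame. -/
theorem PerpFam.notMaxOm_frame (h : PerpFam Q D) (hQ : (polarBilin Q).Nondegenerate)
    (hn : 5 ≤ finrank F V) (h2 : (2 : F) ≠ 0) {c : F} (hc : c ≠ 0)
    (hex : ∀ i, ∃ a ∈ D i, Q a = c)
    (hf : ∀ i, ∀ u ∈ D i, ∀ v ∈ D i, Q u = c → Q v = c → u = v ∨ u = -v ∨ polar Q u v = 0)
    {i j l : τ} (hij : i ≠ j) (hil : i ≠ l) (hjl : j ≠ l) (hi : 2 ≤ finrank F (D i))
    (hi' : finrank F (D i) + 3 ≤ finrank F V) : NotMaxOm Q (stabDec D) := by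
  obtain ⟨a, ha, ha'⟩ := hex i
  obtain ⟨b, hb, hb'⟩ := hex j
  obtain ⟨d, hd, hd'⟩ := hex l
  have ha0 : a ≠ 0 := by rintro rfl; exact hc (by simpa using ha'.symm)
  have hd0 : d ≠ 0 := by rintro rfl; exact hc (by simpa using hd'.symm)
  have hab : Q (a - b) = 2 * c := by rw [Q_sub, ha', hb', h.perp i j hij a ha b hb]; ring
  have had : Q (a - d) = 2 * c := by rw [Q_sub, ha', hd', h.perp i l hil a ha d hd]; ring
  refine notMaxOm_of_set (normSet Q D c) (fun g _ hg v hv => apply_mem_normSet hg hv)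
    ⟨refl Q (a - b) * refl Q (a - d), refl_mul_refl_mem_commutator hQ
      (by rw [hab]; exact mul_ne_zero h2 hc) one_ne_zero (by rw [hab, had]; ring),
      fun v hv => h.refl_sub_mem h2 hc hf hij ha hb ha' hb'
        (h.refl_sub_mem h2 hc hf hil ha hd ha' hd' hv), ?_⟩ ?_
  · obtain ⟨x, hx, hx0, hax⟩ := exists_ne_zero_orth (Q := Q) hi a
    refine h.notMem_stabDec hx hx0 ?_ ha fun h1 => ?_
    · rw [O_mul_apply, refl_apply_of_orth (x := x), refl_apply_of_orth]
      · rw [polar_sub_right, pc hax, h.perp i j hij x hx b hb, sub_zero]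
      · rw [polar_sub_right, pc hax, h.perp i l hil x hx d hd, sub_zero]
    · rw [O_mul_apply, refl_sub_apply (ha'.trans hd'.symm) (by rw [had]; exact mul_ne_zero h2 hc),
        refl_apply_of_orth (by
          rw [polar_sub_right, h.perp l i hil.symm d hd a ha, h.perp l j hjl.symm d hd b hb,
            sub_zero])] at h1
      exact hil (h.eq_of_mem h1 hd hd0)
  · obtain ⟨g, hg, hga⟩ := h.exists_move hQ hn hi' ha ha0
    exact ⟨g, hg, a, ⟨⟨i, ha⟩, ha'⟩, fun ⟨⟨j, hj⟩, _⟩ => hga j hj⟩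

/-- Members of dimension four and plus type over the field with two elements. -/
theorem PerpFam.notMaxOm_four (h : PerpFam Q D) (hQ : (polarBilin Q).Nondegenerate)
    (hn : 5 ≤ finrank F V) (h2 : (2 : F) = 0)
    (hex : ∀ i, ∃ a ∈ D i, ∃ b ∈ D i, Q a = 1 ∧ Q b = 1 ∧ polar Q a b = 1 ∧ ∀ v ∈ D i, Q v = 1 →
      v = polar Q v b • a + polar Q v a • b ∨ (polar Q v a = 0 ∧ polar Q v b = 0))
    {i j : τ} (hij : i ≠ j) (hi : 3 ≤ finrank F (D i))
    (hi' : finrank F (D i) + 3 ≤ finrank F V) : NotMaxOm Q (stabDec D) := by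
  obtain ⟨a, ha, b, hb, ha1, hb1, hab, H⟩ := hex i
  obtain ⟨c, hc, d, hd, hc1, hd1, hcd, H'⟩ := hex j
  have ha0 : a ≠ 0 := by rintro rfl; simp at ha1
  have hc0 : c ≠ 0 := by rintro rfl; simp at hc1
  have p1 := h.perp i j hij
  have p2 := h.perp j i hij.symm
  have hp : Q (a + c) = 0 := by rw [Q_add, ha1, hc1, p1 a ha c hc]; linear_combination h2
  have hw : Q (b + d) = 0 := by rw [Q_add, hb1, hd1, p1 b hb d hd]; linear_combination h2
  have hpw : polar Q (a + c) (b + d) = 0 := by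
    qsimp; rw [hab, hcd, p1 a ha d hd, p2 c hc b hb]; linear_combination h2
  have hV2 : ∀ x : V, x + x = 0 := fun x => by rw [← two_smul F, h2, zero_smul]
  have hneg : ∀ x : V, -x = x := fun x => by rw [neg_eq_iff_add_eq_zero, hV2]
  have happ : ∀ v, (eich Q (a + c) (b + d)).1 v =
      v + ((polar Q v b + polar Q v d) • (a + c) + (polar Q v a + polar Q v c) • (b + d)) := by
    intro v
    rw [eich_apply_long hp hw hpw, sub_eq_add_neg, hneg, polar_add_right, polar_add_right]
  refine notMaxOm_of_set (normSet Q D 1) (fun g _ hg v hv => apply_mem_normSet hg hv)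
    ⟨eich Q (a + c) (b + d), eich_mem_Om hQ hn _ _, fun v hv => ?_, ?_⟩ ?_
  · obtain ⟨⟨l, hl⟩, hv⟩ := hv
    refine ⟨?_, by rw [O_map, hv]⟩
    rw [happ]
    by_cases hli : l = i
    · subst hli
      rw [p1 v hl c hc, p1 v hl d hd, add_zero, add_zero]
      rcases H v hl hv with h3 | ⟨h3, h4⟩
      · refine ⟨j, ?_⟩
        rw [show ∀ s t : F, v + (s • (a + c) + t • (b + d)) = (v + (s • a + t • b)) + (s • c + t • d)
          from fun s t => by module, ← h3, hV2, zero_add]
        exact (D j).add_mem ((D j).smul_mem _ hc) ((D j).smul_mem _ hd)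
      · exact ⟨l, by simpa [h3, h4] using hl⟩
    by_cases hlj : l = j
    · subst hlj
      rw [p2 v hl a ha, p2 v hl b hb, zero_add, zero_add]
      rcases H' v hl hv with h3 | ⟨h3, h4⟩
      · refine ⟨i, ?_⟩
        rw [show ∀ s t : F, v + (s • (a + c) + t • (b + d)) = (v + (s • c + t • d)) + (s • a + t • b)
          from fun s t => by module, ← h3, hV2, zero_add]
        exact (D i).add_mem ((D i).smul_mem _ ha) ((D i).smul_mem _ hb)
      · exact ⟨l, by simpa [h3, h4] using hl⟩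
    exact ⟨l, by
      simpa [h.perp l i hli v hl a ha, h.perp l i hli v hl b hb, h.perp l j hlj v hl c hc,
        h.perp l j hlj v hl d hd] using hl⟩
  · have h1 := finrank_le_inf_orth_pair (Q := Q) (D i) a b
    obtain ⟨x, hx, hx0⟩ := Submodule.exists_mem_ne_zero_of_ne_bot
      (p := D i ⊓ orth Q (Submodule.span F {a, b})) (by rintro h; rw [h, finrank_bot] at h1; omega)
    obtain ⟨h3, h4⟩ := mem_orth_pair.1 hx.2
    refine h.notMem_stabDec hx.1 hx0 ?_ ha fun h5 => ?_
    · rw [happ, pc h3, pc h4, p1 x hx.1 c hc, p1 x hx.1 d hd]; simp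
    · rw [happ, hab, p1 a ha c hc, p1 a ha d hd, polar_self', h2] at h5
      simp only [add_zero, one_smul, zero_mul, zero_smul] at h5
      rw [← add_assoc, hV2, zero_add] at h5
      exact hij (h.eq_of_mem h5 hc hc0)
  · obtain ⟨g, hg, hga⟩ := h.exists_move hQ hn hi' ha ha0
    exact ⟨g, hg, a, ⟨⟨i, ha⟩, ha1⟩, fun ⟨⟨j, hj⟩, _⟩ => hga j hj⟩

/-- Hyperbolic planes over the fields with two and four elements. -/
theorem PerpFam.notMaxOm_two (h : PerpFam Q D) (hQ : (polarBilin Q).Nondegenerate)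
    (hn : 5 ≤ finrank F V) (h2 : (2 : F) = 0) (A : AddSubgroup F) (hA : A ≠ ⊤)
    (hA1 : ∀ x ∈ A, x = 0 ∨ x = 1)
    (hex : ∀ i, ∃ e ∈ D i, ∃ a ∈ D i, Q e = 0 ∧ Q a = 1 ∧ polar Q e a = 1)
    (hB : ∀ i, ∀ u ∈ D i, ∀ v ∈ D i, Q u = 1 → Q v = 1 → polar Q u v ∈ A)
    {i j l : τ} (hij : i ≠ j) (hil : i ≠ l) (hjl : j ≠ l) : NotMaxOm Q (stabDec D) := by
  obtain ⟨e, he, a, ha, he0, ha1, hea⟩ := hex i
  obtain ⟨f, hf, b, hb, hf0, hb1, hfb⟩ := hex j
  obtain ⟨-, -, c, hc, -, hc1, -⟩ := hex l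
  set S := AddSubgroup.closure (normSet Q D 1) with hS
  have hmem : ∀ {m x}, x ∈ D m → Q x = 1 → x ∈ S := fun hx hx1 =>
    AddSubgroup.subset_closure ⟨⟨_, hx⟩, hx1⟩
  have hBS : ∀ x ∈ S, ∀ m, ∀ v ∈ D m, Q v = 1 → polar Q x v ∈ A := by
    intro x hx m v hv hv1
    induction hx using AddSubgroup.closure_induction with
    | mem x hx =>
      obtain ⟨⟨m', hm'⟩, hx1⟩ := hx
      by_cases hm : m' = m
      · subst hm; exact hB _ x hm' v hv hx1 hv1
      · rw [h.perp m' m hm x hm' v hv]; exact A.zero_mem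
    | zero => simp
    | add x y _ _ hx hy => rw [polar_add_left]; exact A.add_mem hx hy
    | neg x _ hx => rw [polar_neg_left]; exact A.neg_mem hx
  have hsm : ∀ t ∈ A, ∀ x ∈ S, t • x ∈ S := fun t ht x hx => by
    rcases hA1 t ht with rfl | rfl
    · simp
    · simpa using hx
  have hp : Q (a + b) = 0 := by
    rw [Q_add, ha1, hb1, h.perp i j hij a ha b hb]; linear_combination h2
  have hpw : polar Q (a + b) c = 0 := by
    rw [polar_add_left, h.perp i l hil a ha c hc, h.perp j l hjl b hb c hc, add_zero]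
  refine notMaxOm_of_set (S : Set V) (fun g _ hg v hv => ?_)
    ⟨eich Q (a + b) c, eich_mem_Om hQ hn _ _, fun v hv => ?_, ?_⟩ ?_
  · induction hv using AddSubgroup.closure_induction with
    | mem x hx => exact AddSubgroup.subset_closure (apply_mem_normSet hg hx)
    | zero => simp
    | add x y _ _ hx hy => rw [map_add]; exact S.add_mem hx hy
    | neg x _ hx => rw [map_neg]; exact S.neg_mem hx
  · rw [eich_apply hp hpw, hc1, one_mul]
    have h3 : polar Q v (a + b) ∈ A := by
      rw [polar_add_right]; exact A.add_mem (hBS v hv i a ha ha1) (hBS v hv j b hb hb1)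
    exact S.sub_mem (S.add_mem hv (hsm _ (A.sub_mem (hBS v hv l c hc hc1) h3) _
      (S.add_mem (hmem ha ha1) (hmem hb hb1)))) (hsm _ h3 _ (hmem hc hc1))
  · refine h.notMem_stabDec ha (by rintro rfl; simp at ha1) (eich_apply_of_orth_orth ?_
      (h.perp i l hil a ha c hc)) he fun h3 => ?_
    · rw [polar_add_right, polar_self', h2, h.perp i j hij a ha b hb]; ring
    · have h4 := h.perp j i hij.symm f hf _ h3
      rw [eich_apply hp hpw] at h4
      qsimp_at h4
      rw [hc1, hea, hfb, h.perp i j hij e he b hb, h.perp i l hil e he c hc,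
        h.perp j i hij.symm f hf e he, h.perp j i hij.symm f hf a ha, h.perp j l hjl f hf c hc] at h4
      simp at h4
  · obtain ⟨t, ht⟩ : ∃ t, t ∉ A := by
      by_contra! hc; exact hA (eq_top_iff.2 fun t _ => hc t)
    refine ⟨eich Q f (t • e), eich_mem_Om hQ hn _ _, a, hmem ha ha1, fun h3 => ht ?_⟩
    have h4 := hBS _ h3 j b hb hb1
    rw [eich_apply_of_orth hf0 (h.perp j i hij.symm f hf _ ((D i).smul_mem t he))
      (h.perp i j hij a ha f hf)] at h4
    qsimp_at h4
    rwa [h.perp i j hij a ha b hb, pc hea, hfb, mul_one, mul_one, zero_add] at h4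

section Small

variable {W : Submodule F V}

omit [Finite F] in
theorem natCast_card_eq_zero [Fintype F] {k : ℕ} (h : Fintype.card F = k) : (k : F) = 0 := by
  rw [← h]; exact FiniteField.cast_card_eq_zero F

omit [Finite F] in
theorem pow_eq_one_of_card [Fintype F] {k : ℕ} (h : Fintype.card F = k + 1) {a : F} (ha : a ≠ 0) :
    a ^ k = 1 := by
  have := FiniteField.pow_card_sub_one_eq_one a ha
  rwa [h] at this

omit [Finite F] in
theorem eq_or_of_card_three [Fintype F] (h : Fintype.card F = 3) (a : F) :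
    a = 0 ∨ a = 1 ∨ a = -1 := by
  by_cases ha : a = 0
  · exact Or.inl ha
  · exact Or.inr (mul_self_eq_one_iff.1 (mul_self_eq_one_of_card_le h.le ha))

omit [Finite F] in
/-- In a non-degenerate plane a singular vector orthogonal to a non-singular one vanishes. -/
theorem eq_zero_of_orth_plane (hW : Disjoint W (orth Q W)) (hd : finrank F W = 2) {u p : V}
    (hu : u ∈ W) (hp : p ∈ W) (hu0 : Q u ≠ 0) (hp0 : Q p = 0)
    (hup : polar Q u p = 0) : p = 0 := by
  by_contra hp1
  obtain ⟨f, hf, hf0, hpf⟩ := exists_hyp_of_singular hW hp hp1 hp0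
  obtain ⟨a, b, rfl⟩ := eq_hyp_of_finrank_two hd.le hp hf hp0 hpf hu
  qsimp_at hup
  qsimp_at hu0
  rw [hp0, pc hpf] at hup
  rw [hp0, hf0, hpf, show b = 0 by linear_combination hup] at hu0
  simp at hu0

omit [FiniteDimensional F V] [Finite F] in
theorem frame_of_three [Fintype F] (hq : Fintype.card F = 3) {c : F} (hc : c ≠ 0)
    (h : ∀ u ∈ W, ∀ p ∈ W, Q u = c → Q p = 0 → polar Q u p = 0 → p = 0) {u : V} (hu : u ∈ W)
    {v : V} (hv : v ∈ W) (hu' : Q u = c) (hv' : Q v = c) : u = v ∨ u = -v ∨ polar Q u v = 0 := by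
  have h3 : (3 : F) = 0 := by simpa using natCast_card_eq_zero hq
  have h1 := mul_self_eq_one_of_card_le hq.le hc
  rcases eq_or_of_card_three hq (polar Q u v * c) with h4 | h4 | h4
  · exact Or.inr (Or.inr ((mul_eq_zero.1 h4).resolve_right hc))
  · have h5 : polar Q u v = c := by linear_combination c * h4 - polar Q u v * h1
    refine Or.inr (Or.inl (eq_neg_of_add_eq_zero_left (h u hu _ (W.add_mem hu hv) hu' ?_ ?_)))
    · qsimp; rw [hu', hv', h5]; linear_combination c * h3
    · qsimp; rw [hu', h5]; linear_combination c * h3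
  · have h5 : polar Q u v = -c := by linear_combination c * h4 - polar Q u v * h1
    refine Or.inl (sub_eq_zero.1 (h u hu _ (W.sub_mem hu hv) hu' ?_ ?_))
    · qsimp; rw [hu', hv', h5]; linear_combination c * h3
    · qsimp; rw [hu', h5]; linear_combination c * h3

omit [Finite F] in
/-- A norm class in a non-degenerate solid whose perpendicular planes are anisotropic. -/
theorem exists_aniso_perp [Fintype F] (hq : Fintype.card F = 3) (hW : Disjoint W (orth Q W))
    (hd : finrank F W = 3) :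
    ∃ c : F, c ≠ 0 ∧ ∀ u ∈ W, ∀ p ∈ W, Q u = c → Q p = 0 → polar Q u p = 0 → p = 0 := by
  obtain ⟨e, he, f, hf, w, hw, he0, hf0, hef, hew, hfw, hw0⟩ := tri_of_three_le hW hd.ge
  have h3 : (3 : F) = 0 := by simpa using natCast_card_eq_zero hq
  have hco : ∀ x ∈ W, ∃ a b c : F, x = a • e + b • f + c • w := by
    intro x hx
    obtain ⟨h1, h2⟩ := hyp_proj_orth he0 hf0 hef x
    have hd1 := finrank_inf_orth_add hW (U := Submodule.span F {e, f})
      (Submodule.span_le.2 (by rintro _ (rfl | rfl) <;> assumption))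
    have hd2 : finrank F (Submodule.span F {e, f}) = 2 := by
      have h4 := finrank_orth_hyp (Q := Q.restrict W) (restrict_nondeg_iff.2 hW) (e := ⟨e, he⟩)
        (f := ⟨f, hf⟩) he0 hef
      refine finrank_span_pair (LinearIndependent.pair_iff.2 fun s t h => ?_)
      have h5 := congrArg (polar Q e) h
      have h6 := congrArg (polar Q f) h
      qsimp_at h5
      qsimp_at h6
      rw [he0, hef] at h5
      rw [hf0, pc hef] at h6
      exact ⟨by simpa using h6, by simpa using h5⟩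
    have hw1 : w ≠ 0 := by rintro rfl; simp at hw0
    obtain ⟨c, hc⟩ := (finrank_eq_one_iff_of_nonzero' (K := F)
      (⟨w, hw, mem_orth_pair.2 ⟨hew, hfw⟩⟩ : (W ⊓ orth Q (Submodule.span F {e, f}) : Submodule F V))
      (fun h => hw1 (congrArg Subtype.val h))).1 (by omega)
      ⟨_, W.sub_mem (W.sub_mem hx (W.smul_mem _ he)) (W.smul_mem _ hf), mem_orth_pair.2 ⟨h1, h2⟩⟩
    refine ⟨polar Q f x, polar Q e x, c, ?_⟩
    have := congrArg Subtype.val hc
    simp only [SetLike.val_smul] at this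
    rw [this]; abel
  refine ⟨-Q w, neg_ne_zero.2 hw0, fun u hu p hp hu' hp' hup => ?_⟩
  obtain ⟨x, y, z, rfl⟩ := hco u hu
  obtain ⟨x', y', z', rfl⟩ := hco p hp
  qsimp_at hu'
  qsimp_at hp'
  qsimp_at hup
  rw [he0, hf0, hef, hew, hfw] at hu' hp' hup
  rw [pc hef, pc hew, pc hfw] at hup
  have key : ∀ s t : F, s ^ 2 + t ^ 2 = 0 → s = 0 := by
    intro s t h
    have h2 : (2 : F) ≠ 0 := fun h2 => one_ne_zero (α := F) (by linear_combination h3 - h2)
    rcases eq_or_of_card_three hq s with rfl | rfl | rfl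
    · rfl
    all_goals
      exfalso
      rcases eq_or_of_card_three hq t with rfl | rfl | rfl
      · exact one_ne_zero (α := F) (by linear_combination h)
      · exact h2 (by linear_combination h)
      · exact h2 (by linear_combination h)
  have hy : y' = 0 := key y' (z * y' - y * z') (mul_right_cancel₀ hw0 (by
    linear_combination y' ^ 2 * hu' + y ^ 2 * hp' - y * y' * hup))
  have hx : x' = 0 := key x' (z * x' - x * z') (mul_right_cancel₀ hw0 (by
    linear_combination x' ^ 2 * hu' + x ^ 2 * hp' - x * x' * hup))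
  have hz : z' = 0 := pow_eq_zero_iff two_ne_zero |>.1 (mul_right_cancel₀ hw0 (by
    rw [hy, hx] at hp'; linear_combination hp'))
  simp [hx, hy, hz]

omit [Finite F] in
/-- Vectors of norm one in a hyperbolic plane. -/
theorem polar_eq_of_hyp (hd : finrank F W = 2) {e f : V} (he : e ∈ W) (hf : f ∈ W) (he0 : Q e = 0)
    (hf0 : Q f = 0) (hef : polar Q e f = 1) {u v : V} (hu : u ∈ W) (hv : v ∈ W) (hu1 : Q u = 1)
    (hv1 : Q v = 1) : ∃ s : F, s ≠ 0 ∧ polar Q u v = s + s⁻¹ ∧ (s = 1 → u = v) ∧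
      (s = -1 → u = -v) := by
  obtain ⟨a, b, rfl⟩ := eq_hyp_of_finrank_two hd.le he hf he0 hef hu
  obtain ⟨c, d, rfl⟩ := eq_hyp_of_finrank_two hd.le he hf he0 hef hv
  qsimp_at hu1
  qsimp_at hv1
  rw [he0, hf0, hef] at hu1 hv1
  have h1 : a * b = 1 := by linear_combination hu1
  have h2 : c * d = 1 := by linear_combination hv1
  have h3 : (a * d)⁻¹ = b * c := inv_eq_of_mul_eq_one_right (by linear_combination c * d * h1 + h2)
  refine ⟨a * d, mul_ne_zero (left_ne_zero_of_mul_eq_one h1) (right_ne_zero_of_mul_eq_one h2),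
    ?_, fun h => ?_, fun h => ?_⟩
  · qsimp; rw [he0, hf0, hef, pc hef, h3]; ring
  · rw [show a = c by linear_combination c * h - a * h2, show b = d by
      linear_combination d * h1 - b * h]
  · rw [show a = -c by linear_combination c * h - a * h2, show b = -d by
      linear_combination b * h - d * h1]
    module

omit [FiniteDimensional F V] [Finite F] in
theorem exists_hyp_of_plus (hW : Disjoint W (orth Q W)) (hd : finrank F W = 2)
    (hp : ∃ U ≤ W, (∀ u ∈ U, Q u = 0) ∧ 2 * finrank F U = finrank F W) :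
    ∃ e ∈ W, ∃ f ∈ W, Q e = 0 ∧ Q f = 0 ∧ polar Q e f = 1 := by
  obtain ⟨U, hU, hs, h⟩ := hp
  obtain ⟨e, he, he1⟩ := Submodule.exists_mem_ne_zero_of_ne_bot (p := U)
    (by rintro rfl; rw [finrank_bot] at h; omega)
  obtain ⟨f, hf, h⟩ := exists_hyp_of_singular hW (hU he) he1 (hs e he)
  exact ⟨e, hU he, f, hf, hs e he, h⟩

omit [Finite F] in
theorem exists_four_of_plus [Fintype F] (hq : Fintype.card F = 2) (hW : Disjoint W (orth Q W))
    (hd : finrank F W = 4) (hp : ∃ U ≤ W, (∀ u ∈ U, Q u = 0) ∧ 2 * finrank F U = finrank F W) :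
    ∃ a ∈ W, ∃ b ∈ W, Q a = 1 ∧ Q b = 1 ∧ polar Q a b = 1 ∧ ∀ v ∈ W, Q v = 1 →
      v = polar Q v b • a + polar Q v a • b ∨ (polar Q v a = 0 ∧ polar Q v b = 0) := by
  obtain ⟨U, hU, hs, h⟩ := hp
  have h2 : (2 : F) = 0 := by simpa using natCast_card_eq_zero hq
  have h01 : ∀ x : F, x = 0 ∨ x = 1 := fun x =>
    or_iff_not_imp_left.2 fun hx => by simpa using pow_eq_one_of_card (k := 1) hq hx
  obtain ⟨e, he, he1⟩ := Submodule.exists_mem_ne_zero_of_ne_bot (p := U)
    (by rintro rfl; rw [finrank_bot] at h; omega)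
  obtain ⟨f, hf, hf0, hef⟩ := exists_hyp_of_singular hW (hU he) he1 (hs e he)
  obtain ⟨e', he', he1', hfe'⟩ := exists_ne_zero_orth (Q := Q) (W := U) (by omega) f
  have he0 := hs e he
  have he0' := hs e' he'
  have hee' := polar_eq_zero_of_forall hs he he'
  set W' := W ⊓ orth Q (Submodule.span F {e, f}) with hW'
  have hproj : ∀ x ∈ W, x - polar Q f x • e - polar Q e x • f ∈ W' := fun x hx =>
    ⟨W.sub_mem (W.sub_mem hx (W.smul_mem _ (hU he))) (W.smul_mem _ hf),
      mem_orth_pair.2 (hyp_proj_orth he0 hf0 hef x)⟩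
  have he'W : e' ∈ W' := ⟨hU he', mem_orth_pair.2 ⟨hee', hfe'⟩⟩
  obtain ⟨x, hx, hx'⟩ := exists_ne_of_disjoint hW (hU he') he1'
  obtain ⟨f', hf', hf0', hef'⟩ := exists_partner_mem he'W (hproj x hx) he0' (by
    qsimp; rw [pc hee', pc hfe']; simpa using hx')
  obtain ⟨a1, a2⟩ := mem_orth_pair.1 hf'.2
  have hd' : finrank F W' ≤ 2 := by
    have hd1 := finrank_inf_orth_add hW (U := Submodule.span F {e, f})
      (Submodule.span_le.2 (by rintro _ (rfl | rfl); exacts [hU he, hf]))
    have : finrank F (Submodule.span F {e, f}) = 2 := by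
      refine finrank_span_pair (LinearIndependent.pair_iff.2 fun s t h => ?_)
      have h5 := congrArg (polar Q e) h
      have h6 := congrArg (polar Q f) h
      qsimp_at h5
      qsimp_at h6
      rw [he0, hef] at h5
      rw [hf0, pc hef] at h6
      exact ⟨by simpa using h6, by simpa using h5⟩
    rw [hW']; omega
  have h11 : (1 : F) + 1 = 0 := by linear_combination h2
  refine ⟨e + f, W.add_mem (hU he) hf, e + e' + f', W.add_mem (W.add_mem (hU he) (hU he')) hf'.1,
    ?_, ?_, ?_, fun v hv hv1 => ?_⟩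
  · qsimp; rw [he0, hf0, hef]; ring
  · qsimp; rw [he0, he0', hf0', hee', a1, hef']; ring
  · qsimp; rw [he0, hee', a1, pc hef, hfe', a2]; ring
  obtain ⟨z, w, h3⟩ := eq_hyp_of_finrank_two hd' he'W hf' he0' hef' (hproj v hv)
  obtain ⟨x, y, h4⟩ : ∃ x y : F, v = x • e + y • f + z • e' + w • f' :=
    ⟨polar Q f v, polar Q e v, by rw [add_assoc, ← h3]; abel⟩
  clear h3
  subst h4
  have hV2 : e + e = 0 := by rw [← two_smul F, h2, zero_smul]
  qsimp_at hv1
  qsimp
  rw [he0, hf0, he0', hf0', hef, hee', a1, hfe', a2, hef'] at hv1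
  rw [he0, hf0, he0', hf0', hef, hee', a1, hfe', a2, hef', pc hef, pc hee', pc a1, pc hfe', pc a2,
    pc hef']
  rcases h01 x with rfl | rfl <;> rcases h01 y with rfl | rfl <;> rcases h01 z with rfl | rfl <;>
    rcases h01 w with rfl | rfl <;> simp [h11] at hv1 ⊢
  rw [show e + f + (e + e' + f') = (e + e) + (f + e' + f') by abel, hV2, zero_add]

end Small

omit [Finite F] in
/-- The non-maximal imprimitive subgroups. -/
theorem PerpFam.notMaxOm_dec [Fintype F] (h : PerpFam Q D) (hQ : (polarBilin Q).Nondegenerate)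
    {k : ℕ} (hn : 5 ≤ finrank F V) (hk : k + 3 ≤ finrank F V) (hd : ∀ i, finrank F (D i) = k)
    (hiso : ∀ i j, ∃ e : D i ≃ₗ[F] D j, ∀ w, Q (e w : V) = Q (w : V))
    {i j l : τ} (hij : i ≠ j) (hil : i ≠ l) (hjl : j ≠ l)
    (hcase : (k = 2 ∧ (Fintype.card F = 3 ∨
      ((∀ i, ∃ U ≤ D i, (∀ u ∈ U, Q u = 0) ∧ 2 * finrank F U = finrank F (D i)) ∧
        (Fintype.card F = 2 ∨ Fintype.card F = 4 ∨ Fintype.card F = 5)))) ∨
      (k = 3 ∧ Fintype.card F = 3) ∨ (k = 4 ∧ Fintype.card F = 2 ∧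
        ∀ i, ∃ U ≤ D i, (∀ u ∈ U, Q u = 0) ∧ 2 * finrank F U = finrank F (D i))) :
    NotMaxOm Q (stabDec D) := by
  have h23 : Fintype.card F = 3 → (2 : F) ≠ 0 := fun hq h2 => one_ne_zero (α := F) (by
    have h3 : (3 : F) = 0 := by simpa using natCast_card_eq_zero hq
    linear_combination h3 - h2)
  have two : k = 2 →
      (∀ i, ∃ U ≤ D i, (∀ u ∈ U, Q u = 0) ∧ 2 * finrank F U = finrank F (D i)) → (2 : F) = 0 →
      ∀ A : AddSubgroup F, A ≠ ⊤ → (∀ x ∈ A, x = 0 ∨ x = 1) → (∀ s : F, s ≠ 0 → s + s⁻¹ ∈ A) →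
      NotMaxOm Q (stabDec D) := by
    rintro rfl hp h2 A hA hA1 hA2
    refine h.notMaxOm_two hQ hn h2 A hA hA1 (fun i => ?_) (fun i u hu v hv hu1 hv1 => ?_) hij hil hjl
    · obtain ⟨e, he, f, hf, he0, hf0, hef⟩ := exists_hyp_of_plus (h.nondeg i) (hd i) (hp i)
      refine ⟨e, he, e + f, (D i).add_mem he hf, he0, ?_, ?_⟩
      · qsimp; rw [he0, hf0, hef]; ring
      · qsimp; rw [he0, hef]; ring
    · obtain ⟨e, he, f, hf, he0, hf0, hef⟩ := exists_hyp_of_plus (h.nondeg i) (hd i) (hp i)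
      obtain ⟨s, hs, h1, -⟩ := polar_eq_of_hyp (hd i) he hf he0 hf0 hef hu hv hu1 hv1
      rw [h1]; exact hA2 s hs
  rcases hcase with ⟨hk2, hq | ⟨hp, hq | hq | hq⟩⟩ | ⟨rfl, hq⟩ | ⟨rfl, hq, hp⟩
  · subst hk2
    exact h.notMaxOm_frame hQ hn (h23 hq) one_ne_zero
      (fun i => exists_norm_mem (h.nondeg i) (hd i).ge 1)
      (fun i u hu v hv => frame_of_three hq one_ne_zero (fun u hu p hp hu1 =>
        eq_zero_of_orth_plane (h.nondeg i) (hd i) hu hp (by rw [hu1]; exact one_ne_zero)) hu hv)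
      hij hil hjl (hd i).ge (by rw [hd]; exact hk)
  · have h2 : (2 : F) = 0 := by simpa using natCast_card_eq_zero hq
    refine two hk2 hp h2 ⊥ bot_ne_top (fun x hx => Or.inl hx) fun s hs => ?_
    rw [show s = 1 by simpa using pow_eq_one_of_card (k := 1) hq hs, inv_one, AddSubgroup.mem_bot]
    linear_combination h2
  · have h2 : (2 : F) = 0 := pow_eq_zero_iff two_ne_zero |>.1 (by
      have : (4 : F) = 0 := by simpa using natCast_card_eq_zero hq
      linear_combination this)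
    let A : AddSubgroup F :=
      { carrier := {x | x * x = x}
        add_mem' := fun {a b} ha hb => by
          simp only [Set.mem_ofPred_eq] at *
          linear_combination ha + hb + a * b * h2
        zero_mem' := by simp
        neg_mem' := fun {a} ha => by
          simp only [Set.mem_ofPred_eq] at *
          linear_combination ha + a * h2 }
    have hA1 : ∀ x ∈ A, x = 0 ∨ x = 1 := fun x hx => or_iff_not_imp_left.2 fun h0 =>
      mul_left_cancel₀ h0 (hx.trans (mul_one x).symm)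
    refine two hk2 hp h2 A (fun hA => ?_) hA1 fun s hs => ?_
    · classical
      have : (Finset.univ : Finset F) ⊆ {0, 1} := fun x _ => by
        simpa using hA1 x (hA ▸ AddSubgroup.mem_top x)
      have h1 := (Finset.card_le_card this).trans Finset.card_le_two
      rw [Finset.card_univ, hq] at h1
      omega
    · have h1 := pow_eq_one_of_card (k := 3) hq hs
      have h3 : s⁻¹ = s ^ 2 := inv_eq_of_mul_eq_one_right (by linear_combination h1)
      change _ * _ = _
      rw [h3]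
      linear_combination s * h1 + s ^ 3 * h2
  · subst hk2
    have h5 : (5 : F) = 0 := by simpa using natCast_card_eq_zero hq
    refine h.notMaxOm_frame hQ hn (fun h2 => one_ne_zero (α := F) (by
      linear_combination h5 - 2 * h2)) one_ne_zero
      (fun i => exists_norm_mem (h.nondeg i) (hd i).ge 1) (fun i u hu v hv hu1 hv1 => ?_)
      hij hil hjl (hd i).ge (by rw [hd]; exact hk)
    obtain ⟨e, he, f, hf, he0, hf0, hef⟩ := exists_hyp_of_plus (h.nondeg i) (hd i) (hp i)
    obtain ⟨s, hs, h1, h2, h3⟩ := polar_eq_of_hyp (hd i) he hf he0 hf0 hef hu hv hu1 hv1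
    by_cases a1 : s = 1
    · exact Or.inl (h2 a1)
    by_cases a2 : s = -1
    · exact Or.inr (Or.inl (h3 a2))
    refine Or.inr (Or.inr ?_)
    have h4 := pow_eq_one_of_card (k := 4) hq hs
    have h6 : s ^ 2 + 1 = 0 := by
      refine mul_left_cancel₀ (mul_ne_zero (sub_ne_zero.2 a1) (sub_ne_zero.2 a2)) ?_
      linear_combination h4
    rw [h1, inv_eq_of_mul_eq_one_right (a := s) (b := -s) (by linear_combination -h6)]
    ring
  · obtain ⟨c, hc, H⟩ := exists_aniso_perp hq (h.nondeg i) (hd i)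
    refine h.notMaxOm_frame hQ hn (h23 hq) hc
      (fun i => exists_norm_mem (h.nondeg i) (by rw [hd]; omega) c)
      (fun m u hu v hv => frame_of_three hq hc (fun u hu p hp hu1 hp0 hup => ?_) hu hv)
      hij hil hjl (by rw [hd]; omega) (by rw [hd]; exact hk)
    obtain ⟨e, he⟩ := hiso m i
    have h1 := polar_of_sim (Q := Q.restrict (D m)) (Q' := Q.restrict (D i)) (c := 1)
      e.toLinearMap (fun v => by simpa using he v) ⟨u, hu⟩ ⟨p, hp⟩
    rw [polar_restrict, polar_restrict, hup, mul_zero] at h1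
    have h2 := H _ (e ⟨u, hu⟩).2 _ (e ⟨p, hp⟩).2 (by rw [he, hu1]) (by rw [he, hp0]) h1
    exact congrArg Subtype.val (e.map_eq_zero_iff.1 (Subtype.ext h2))
  · exact h.notMaxOm_four hQ hn (by simpa using natCast_card_eq_zero hq)
      (fun i => exists_four_of_plus hq (h.nondeg i) (hd i) (hp i)) hij (by rw [hd]; omega)
      (by rw [hd]; exact hk)

end Dec

section Mat

open Cfsg.Geo

variable {ι : Type} [Fintype ι] [DecidableEq ι] {Q : QuadraticForm F (ι → F)}

theorem perpFam_of {t k : ℕ} {D : Fin t → Submodule F (ι → F)}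
    (hD : IsOrthogonalMDecomposition Q k D) : PerpFam Q D :=
  ⟨fun i => disjoint_orth_of_isNondegenerateOn (hD.decomp.nondegenerate i), hD.decomp.orthogonal⟩

omit [DecidableEq ι] in
theorem card_eq_of_isMDecomposition {t k : ℕ} {D : Fin t → Submodule F (ι → F)}
    (hD : IsMDecomposition k D) : Fintype.card ι = t * k := by
  classical
  have h1 := (DirectSum.isInternal_submodule_of_iSupIndep_of_iSup_eq_top hD.indep hD.iSup_eq_top)
  have h2 := (LinearEquiv.ofBijective (DirectSum.coeLinearMap D) h1).finrank_eq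
  rw [finrank_directSum] at h2
  simpa [hD.finrank_eq] using h2.symm

theorem exists_lt_dec [Fintype F] (hQ : (polarBilin Q).Nondegenerate) (hn : 9 ≤ Fintype.card ι)
    {t k : ℕ} {D : Fin t → Submodule F (ι → F)} (hD : IsOrthogonalMDecomposition Q k D)
    (hcase : (k = 2 ∧ (Fintype.card F = 3 ∨ ((∀ i, IsPlusTypeOn Q (D i)) ∧
        (Fintype.card F = 2 ∨ Fintype.card F = 4 ∨ Fintype.card F = 5)))) ∨
      (k = 3 ∧ Fintype.card F = 3) ∨ (k = 4 ∧ Fintype.card F = 2 ∧ ∀ i, IsPlusTypeOn Q (D i))) :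
    ∃ K : Subgroup (GL ι F), decompositionStabilizer D ⊓ omegaGL Q < K ∧ K < omegaGL Q := by
  have h1 := card_eq_of_isMDecomposition hD.decomp.decomp
  have hk : k ≤ 4 := by omega
  have ht : 3 ≤ t := by
    by_contra! h
    have : t * k ≤ 2 * 4 := Nat.mul_le_mul (by omega) hk
    omega
  exact ((perpFam_of hD).notMaxOm_dec hQ (by simp; omega) (by simp; omega)
    hD.decomp.decomp.finrank_eq hD.isometric (i := ⟨0, by omega⟩) (j := ⟨1, by omega⟩)
    (l := ⟨2, by omega⟩) (by simp) (by simp) (by simp) hcase).exists_lt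
    (mem_decompositionStabilizer_iff_glLin D)

theorem exists_lt_hyp [Fintype F] (hQ : (polarBilin Q).Nondegenerate) (hn : 5 ≤ Fintype.card ι)
    (hq : Fintype.card F ≤ 3) {W : Submodule F (ι → F)} (hd : finrank F W = 2)
    (hW : IsNondegenerateOn (polar Q) W) (hp : IsPlusTypeOn Q W) :
    ∃ K : Subgroup (GL ι F), subspaceStabilizer W ⊓ omegaGL Q < K ∧ K < omegaGL Q := by
  have h := disjoint_orth_of_isNondegenerateOn hW
  obtain ⟨e, he, f, -, he0, -, hef⟩ := exists_hyp_of_plus h hd hp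
  exact (notMaxOm_hyp' hQ (by simpa) hq h hd he (by rintro rfl; simp at hef) he0).exists_lt
    (mem_subspaceStabilizer_iff_glLin W)

end Mat

end Cfsg.Lib.Class.OMax
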