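import Cfsg.Agent.Class.ONotMax

/-!
The stabiliser in `Ω` of a pair of complementary totally singular subspaces of even dimension
`k ≥ 5` is maximal.
-/

set_option autoImplicit false

namespace Cfsg.Lib.Class.OMax

open QuadraticMap Module Orth

variable {F V : Type*} [Field F] [AddCommGroup V] [Module F V] {Q : QuadraticForm F V}
  {X : Subgroup (O Q)}

/-- The vectors `w ⊥ p` all of whose multiples give Eichler transformations in `X`. -/
def rootSp (X : Subgroup (O Q)) (p : V) : Submodule F V where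
  carrier := {w | polar Q p w = 0 ∧ ∀ c : F, eich Q p (c • w) ∈ X}
  add_mem' {a b} ha hb := ⟨by rw [polar_add_right, ha.1, hb.1, add_zero], fun c => by
    by_cases hp : Q p = 0
    · rw [smul_add, eich_add hp (by rw [polar_smul_right', ha.1, mul_zero])
        (by rw [polar_smul_right', hb.1, mul_zero])]
      exact X.mul_mem (ha.2 c) (hb.2 c)
    · rw [eich_of_not fun h => hp h.1]; exact X.one_mem⟩
  zero_mem' := ⟨polar_zero_right _ _, fun c => by simp⟩
  smul_mem' d a ha := ⟨by rw [polar_smul_right', ha.1, mul_zero], fun c => by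
    rw [smul_smul]; exact ha.2 _⟩

theorem mem_rootSp {p w : V} :
    w ∈ rootSp X p ↔ polar Q p w = 0 ∧ ∀ c : F, eich Q p (c • w) ∈ X := Iff.rfl

theorem eich_mem_of_mem_rootSp {p w : V} (h : w ∈ rootSp X p) : eich Q p w ∈ X := by
  simpa using h.2 1

theorem self_mem_rootSp {p : V} (hp : Q p = 0) : p ∈ rootSp X p :=
  ⟨by rw [polar_self', hp, mul_zero], fun c => by rw [eich_smul_self]; exact X.one_mem⟩

theorem apply_mem_rootSp {g : O Q} (hg : g ∈ X) {p w : V} (h : w ∈ rootSp X p) :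
    g.1 w ∈ rootSp X (g.1 p) :=
  ⟨by rw [O_polar, h.1], fun c => by
    rw [← map_smul, ← conj_eich]
    exact X.mul_mem (X.mul_mem hg (h.2 c)) (X.inv_mem hg)⟩

theorem apply_mem_rootSp_of_fix {g : O Q} (hg : g ∈ X) {p w : V} (hp : g.1 p = p)
    (h : w ∈ rootSp X p) : g.1 w ∈ rootSp X p := by
  have := apply_mem_rootSp hg h
  rwa [hp] at this

theorem mem_rootSp_smul {p w : V} {c : F} (hc : c ≠ 0) :
    w ∈ rootSp X (c • p) ↔ w ∈ rootSp X p := by
  simp only [mem_rootSp, polar_smul_left', mul_eq_zero, hc, false_or, eich_smul_left' _ _ hc,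
    smul_smul]
  refine and_congr_right fun _ => ⟨fun h d => ?_, fun h d => h _⟩
  have := h (c⁻¹ * d)
  rwa [mul_inv_cancel_left₀ hc] at this

theorem mem_rootSp_swap {p w : V} (hp : Q p = 0) (hw : Q w = 0) (h : w ∈ rootSp X p) :
    p ∈ rootSp X w :=
  ⟨pc h.1, fun c => by
    by_cases hc : c = 0
    · simp [hc]
    rw [← eich_smul_left' _ _ hc, eich_swap hp (by rw [Q_smul, hw, mul_zero])
      (by rw [polar_smul_right', h.1, mul_zero]), ← neg_smul]
    exact h.2 _⟩

theorem full_of_rootSp {p : V} {S : Submodule F V}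
    (h : ∀ w ∈ S, polar Q p w = 0 → w ∈ rootSp X p) : Full X S p :=
  full_of p fun _ w hw hpw => eich_mem_of_mem_rootSp (h w hw hpw)

theorem Full.mem_rootSp {p w : V} {S : Submodule F V} (h : Full X S p) (hw : w ∈ S)
    (hpw : polar Q p w = 0) : w ∈ rootSp X p :=
  ⟨hpw, fun c => h _ (S.smul_mem c hw)⟩

variable [FiniteDimensional F V]

section Pair

variable {A B : Submodule F V}

/-- A pair of complementary totally singular subspaces. -/
structure SingPair (Q : QuadraticForm F V) (A B : Submodule F V) : Prop where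
  compl : IsCompl A B
  left : ∀ x ∈ A, Q x = 0
  right : ∀ x ∈ B, Q x = 0

omit [FiniteDimensional F V] in
theorem SingPair.symm (h : SingPair Q A B) : SingPair Q B A := ⟨h.compl.symm, h.right, h.left⟩

omit [FiniteDimensional F V] in
theorem SingPair.exists_add (h : SingPair Q A B) (x : V) : ∃ a ∈ A, ∃ b ∈ B, a + b = x :=
  Submodule.mem_sup.1 (h.compl.sup_eq_top ▸ Submodule.mem_top)

theorem SingPair.exists_orth_ne (h : SingPair Q A B) (hQ : (polarBilin Q).Nondegenerate)
    {p x : V} (hp : p ∈ A) (hx : x ∈ A) (hxp : x ∉ Submodule.span F {p}) :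
    ∃ b ∈ B, polar Q p b = 0 ∧ polar Q x b = 1 := by
  obtain ⟨w, h1, h2⟩ := OMax.exists_orth_ne hQ hxp
  obtain ⟨a, ha, b, hb, rfl⟩ := h.exists_add w
  rw [polar_add_right, polar_eq_zero_of_forall h.left hp ha, zero_add] at h1
  rw [polar_add_right, polar_eq_zero_of_forall h.left hx ha, zero_add] at h2
  exact ⟨_, B.smul_mem (polar Q x b)⁻¹ hb, by rw [polar_smul_right', h1, mul_zero],
    by rw [polar_smul_right', inv_mul_cancel₀ h2]⟩

theorem SingPair.exists_polar_eq_one (h : SingPair Q A B) (hQ : (polarBilin Q).Nondegenerate)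
    {x : V} (hx : x ∈ A) (hx0 : x ≠ 0) : ∃ b ∈ B, polar Q x b = 1 := by
  obtain ⟨b, hb, -, h2⟩ := h.exists_orth_ne hQ A.zero_mem hx (by simpa using hx0)
  exact ⟨b, hb, h2⟩

omit [FiniteDimensional F V] in
theorem SingPair.eich_mem_stab (h : SingPair Q A B) {a b : V} (ha : a ∈ A) (hb : b ∈ B) :
    eich Q a b ∈ stab Q A ∧ eich Q a b ∈ stab Q B := by
  refine ⟨eich_mem_stab_of_singular h.left ha b, ?_⟩
  by_cases hab : polar Q a b = 0
  · rw [eich_swap (h.right b hb) (h.left a ha) (pc hab)]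
    exact eich_mem_stab_of_singular h.right hb _
  · rw [eich_of_not fun h' => hab h'.2]; exact Subgroup.one_mem _

/-- An isometry interchanging the two subspaces. -/
theorem SingPair.exists_swap (h : SingPair Q A B) (hQ : (polarBilin Q).Nondegenerate)
    (hd : finrank F A = finrank F B) :
    ∃ g : O Q, A.map g.1.toLinearMap = B ∧ B.map g.1.toLinearMap = A := by
  let φ : A ≃ₗ[F] B := LinearEquiv.ofFinrankEq _ _ hd
  let β : A →ₗ[F] Dual F B := (polarBilin Q).compl₁₂ A.subtype B.subtype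
  let γ : B →ₗ[F] Dual F B :=
    (polarBilin Q).compl₁₂ B.subtype (A.subtype ∘ₗ φ.symm.toLinearMap)
  have hβ : Function.Injective β := by
    rw [injective_iff_map_eq_zero]
    intro x hx
    by_contra h0
    obtain ⟨b, hb, h1⟩ := h.exists_polar_eq_one hQ x.2 fun h => h0 (Subtype.ext h)
    exact one_ne_zero (h1.symm.trans (LinearMap.congr_fun hx ⟨b, hb⟩))
  have hγ : Function.Injective γ := by
    rw [injective_iff_map_eq_zero]
    intro x hx
    by_contra h0
    obtain ⟨a, ha, h1⟩ := h.symm.exists_polar_eq_one hQ x.2 fun h => h0 (Subtype.ext h)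
    have h2 : polar Q x (φ.symm (φ ⟨a, ha⟩) : V) = 0 := LinearMap.congr_fun hx (φ ⟨a, ha⟩)
    rw [φ.symm_apply_apply] at h2
    exact one_ne_zero (h1.symm.trans h2)
  let β' := LinearMap.linearEquivOfInjective β hβ (by rw [Subspace.dual_finrank_eq, hd])
  let γ' := LinearMap.linearEquivOfInjective γ hγ Subspace.dual_finrank_eq.symm
  let ψ : B ≃ₗ[F] A := γ'.trans β'.symm
  have hψ : ∀ (a : A) (b : B), polar Q (ψ b : V) (φ a) = polar Q (b : V) a := by
    intro a b
    have h1 : β (ψ b) = γ b := β'.apply_symm_apply (γ' b)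
    have h2 : polar Q (ψ b : V) (φ a) = polar Q (b : V) (φ.symm (φ a) : V) :=
      LinearMap.congr_fun h1 (φ a)
    rwa [φ.symm_apply_apply] at h2
  let e := Submodule.prodEquivOfIsCompl A B h.compl
  let g : V ≃ₗ[F] V := e.symm.trans ((φ.prodCongr ψ).trans ((LinearEquiv.prodComm F B A).trans e))
  have hg : ∀ (a : A) (b : B), g (a + b) = (ψ b : V) + φ a := by
    intro a b
    have : (a : V) + b = e (a, b) := rfl
    rw [this]
    simp [g, e, add_comm]
  have hA : ∀ a ∈ A, g a ∈ B := fun a ha => by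
    have := hg ⟨a, ha⟩ 0
    simp only [ZeroMemClass.coe_zero, add_zero, map_zero, zero_add] at this
    rw [this]; exact (φ _).2
  have hB : ∀ b ∈ B, g b ∈ A := fun b hb => by
    have := hg 0 ⟨b, hb⟩
    simp only [ZeroMemClass.coe_zero, add_zero, map_zero, zero_add] at this
    rw [this]; exact (ψ _).2
  refine ⟨⟨g, mem_O.2 fun v => ?_⟩, map_eq_of_forall_mem g hA hd.ge,
    map_eq_of_forall_mem g hB hd.le⟩
  obtain ⟨a, ha, b, hb, rfl⟩ := h.exists_add v
  rw [hg ⟨a, ha⟩ ⟨b, hb⟩, Q_add, Q_add, hψ, h.left _ (ψ _).2, h.right _ (φ _).2, h.left a ha,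
    h.right b hb, polar_comm]

theorem SingPair.finrank_eq (h : SingPair Q A B) (hQ : (polarBilin Q).Nondegenerate) :
    finrank F V = 2 * finrank F A ∧ finrank F B = finrank F A := by
  have h1 := two_mul_finrank_le hQ h.left
  have h2 := two_mul_finrank_le hQ h.right
  have h3 := Submodule.finrank_add_eq_of_isCompl h.compl
  omega

theorem SingPair.exists_swap_mem [Finite F] (h : SingPair Q A B)
    (hQ : (polarBilin Q).Nondegenerate) (hn : 5 ≤ finrank F V) (hev : Even (finrank F A)) :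
    ∃ g ∈ commutator (O Q), A.map g.1.toLinearMap = B ∧ B.map g.1.toLinearMap = A := by
  obtain ⟨hV, hB⟩ := h.finrank_eq hQ
  obtain ⟨g, h1, h2⟩ := h.exists_swap hQ hB.symm
  have hE : ¬ Exc Q := not_exc_of_finrank (by omega)
  have hd := Known.dick_eq_of_maxSingular hQ hE hV rfl h.left g
  rw [h1, h.compl.inf_eq_bot, finrank_bot, Nat.sub_zero, hev.neg_one_pow] at hd
  obtain ⟨k, hk, hgk⟩ := Known.exists_mul_mem_commutator hQ hE (stab Q A ⊓ stab Q B) g (Or.inl hd)
    fun h2 => by
      obtain ⟨e, he, he0⟩ := Submodule.exists_mem_ne_zero_of_ne_bot (p := A)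
        (by intro h; rw [h, finrank_bot] at hV; omega)
      obtain ⟨f, hf, hef⟩ := h.exists_polar_eq_one hQ he he0
      obtain ⟨t, ht⟩ := Known.exists_not_isSquare h2
      have ht0 : t ≠ 0 := by rintro rfl; exact ht IsSquare.zero
      refine ⟨Known.hypScale Q e f t, ⟨mem_stab_of_forall_mem fun v hv => ?_,
        mem_stab_of_forall_mem fun v hv => ?_⟩,
        Known.dick_hypScale hQ (h.left e he) (h.right f hf) hef ht0, ?_⟩
      · rw [Known.hypScale_apply (h.left e he) (h.right f hf) hef ht0,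
          polar_eq_zero_of_forall h.left hv he, mul_zero, zero_smul, add_zero]
        exact A.add_mem hv (A.smul_mem _ he)
      · rw [Known.hypScale_apply (h.left e he) (h.right f hf) hef ht0,
          polar_eq_zero_of_forall h.right hv hf, mul_zero, zero_smul, add_zero]
        exact B.add_mem hv (B.smul_mem _ hf)
      · rw [Known.spinA_hypScale hQ (h.left e he) (h.right f hf) hef ht0,
          Known.sqs_of_not_isSquare ht]
  exact ⟨g * k, hgk, by rw [Known.map_mul_of_mem_stab g hk.1, h1],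
    by rw [Known.map_mul_of_mem_stab g hk.2, h2]⟩

/-- One extra vector in a root space makes the point full. -/
theorem SingPair.full (h : SingPair Q A B) (hQ : (polarBilin Q).Nondegenerate)
    (hX : ∀ a ∈ A, ∀ b ∈ B, eich Q a b ∈ X) {p x : V} (hp : p ∈ A) (hx : x ∈ A)
    (hxp : x ∉ Submodule.span F {p}) (hL : x ∈ rootSp X p) : Full X ⊤ p := by
  obtain ⟨b, hb, hpb, hxb⟩ := h.exists_orth_ne hQ hp hx hxp
  have key : ∀ a ∈ A, polar Q a b = 0 → a ∈ rootSp X p := fun a ha hab => by
    have h1 := apply_mem_rootSp_of_fix (hX a ha b hb)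
      (eich_apply_of_orth_orth (polar_eq_zero_of_forall h.left hp ha) hpb) hL
    rw [eich_apply_of_orth (h.left a ha) hab (polar_eq_zero_of_forall h.left hx ha), hxb,
      one_smul] at h1
    simpa using (rootSp X p).sub_mem h1 hL
  refine full_of_rootSp fun w _ hpw => ?_
  obtain ⟨a, ha, c, hc, rfl⟩ := h.exists_add w
  rw [polar_add_right, polar_eq_zero_of_forall h.left hp ha, zero_add] at hpw
  refine (rootSp X p).add_mem ?_ ⟨hpw, fun t => hX p hp _ (B.smul_mem t hc)⟩
  rw [show a = (a - polar Q a b • x) + polar Q a b • x by abel]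
  refine (rootSp X p).add_mem (key _ (A.sub_mem ha (A.smul_mem _ hx)) ?_)
    ((rootSp X p).smul_mem _ hL)
  qsimp; rw [hxb]; ring

/-- A long root element whose line projects injectively to `A`. -/
theorem SingPair.full_of_long (h : SingPair Q A B) (hQ : (polarBilin Q).Nondegenerate)
    (h5 : 5 ≤ finrank F A) (hX : ∀ a ∈ A, ∀ b ∈ B, eich Q a b ∈ X) {a a' b b' : V} (ha : a ∈ A)
    (ha' : a' ∈ A) (hb : b ∈ B) (hb' : b' ∈ B) (h1 : Q (a + b) = 0) (h2 : Q (a' + b') = 0)
    (h3 : polar Q (a + b) (a' + b') = 0) (hg : eich Q (a + b) (a' + b') ∈ X) (ha0 : a ≠ 0)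
    (haa : a' ∉ Submodule.span F {a}) : ∀ p ∈ A, Full X ⊤ p := by
  have h4 := finrank_le_inf_orth_pair (Q := Q) A b b'
  have h5' := finrank_span_pair_le (F := F) a a'
  obtain ⟨p, hp, hpa⟩ := exists_mem_notMem_of_finrank_lt (H := Submodule.span F {a, a'})
    (W := A ⊓ orth Q (Submodule.span F {b, b'})) (by omega)
  obtain ⟨hbp, hbp'⟩ := mem_orth_pair.1 hp.2
  have hle : ∀ x ∈ Submodule.span F {a, a'}, x ≠ 0 → x ∉ Submodule.span F {p} := by
    intro x hx hx0 hxp
    obtain ⟨c, rfl⟩ := Submodule.mem_span_singleton.1 hxp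
    exact hpa (((Submodule.span F {a, a'}).smul_mem_iff (left_ne_zero_of_smul hx0)).1 hx)
  have hm : a ∈ Submodule.span F {a, a'} := Submodule.subset_span (by simp)
  have hm' : a' ∈ Submodule.span F {a, a'} := Submodule.subset_span (by simp)
  obtain ⟨y, hy, hpy, hay⟩ := h.exists_orth_ne hQ hp.1 ha (hle a hm ha0)
  have hfix : (eich Q (a + b) (a' + b')).1 p = p := eich_apply_of_orth_orth
    (by rw [polar_add_right, polar_eq_zero_of_forall h.left hp.1 ha, pc hbp, add_zero])
    (by rw [polar_add_right, polar_eq_zero_of_forall h.left hp.1 ha', pc hbp', add_zero])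
  have hB : ∀ z ∈ B, polar Q p z = 0 → z ∈ rootSp X p := fun z hz hpz =>
    ⟨hpz, fun t => hX p hp.1 _ (B.smul_mem t hz)⟩
  have h6 := apply_mem_rootSp_of_fix hg hfix (hB y hy hpy)
  rw [eich_apply_long h1 h2 h3, polar_add_right, polar_add_right, pc hay,
    polar_eq_zero_of_forall h.right hy hb, polar_eq_zero_of_forall h.right hy hb', add_zero,
    add_zero] at h6
  have h7 := (rootSp X p).sub_mem h6 (hB (y + (polar Q y a' • b - b'))
    (B.add_mem hy (B.sub_mem (B.smul_mem _ hb) hb')) (by qsimp; rw [hpy, pc hbp, pc hbp']; ring))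
  rw [show y + (polar Q y a' • (a + b) - (1 : F) • (a' + b')) - (y + (polar Q y a' • b - b')) =
    polar Q y a' • a - (1 : F) • a' by module] at h7
  have h8 := h.full hQ hX hp.1 (A.sub_mem (A.smul_mem _ ha) (A.smul_mem _ ha'))
    (hle _ (Submodule.sub_mem _ (Submodule.smul_mem _ _ hm) (Submodule.smul_mem _ _ hm'))
      (smul_sub_smul_ne_zero ha0 haa (Or.inr one_ne_zero))) h7
  intro q hq
  by_cases hqp : p ∈ Submodule.span F {q}
  · obtain ⟨c, rfl⟩ := Submodule.mem_span_singleton.1 hqp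
    have hc : c ≠ 0 := by rintro rfl; simp at hpa
    have := h8.smul c⁻¹
    rwa [smul_smul, inv_mul_cancel₀ hc, one_smul] at this
  · exact h.full hQ hX hq hp.1 hqp (mem_rootSp_swap (h.left p hp.1) (h.left q hq)
      (h8.mem_rootSp Submodule.mem_top (polar_eq_zero_of_forall h.left hp.1 hq)))

theorem SingPair.apply_mem_or [Finite F] (h : SingPair Q A B) (hQ : (polarBilin Q).Nondegenerate)
    (h5 : 5 ≤ finrank F A) (hX : ∀ a ∈ A, ∀ b ∈ B, eich Q a b ∈ X)
    (hs : ∃ s ∈ X, A.map s.1.toLinearMap = B ∧ B.map s.1.toLinearMap = A)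
    (hX' : ¬ commutator (O Q) ≤ X) {g : O Q} (hg : g ∈ X) {p : V} (hp : p ∈ A) :
    g.1 p ∈ A ∨ g.1 p ∈ B := by
  obtain ⟨hV, hBA⟩ := h.finrank_eq hQ
  obtain ⟨s, hs, hs1, hs2⟩ := hs
  have hXB : ∀ b ∈ B, ∀ a ∈ A, eich Q b a ∈ X := fun b hb a ha => by
    by_cases hab : polar Q a b = 0
    · rw [eich_swap (h.left a ha) (h.right b hb) hab]; exact hX a ha _ (B.neg_mem hb)
    · rw [eich_of_not fun h' => hab (pc h'.2)]; exact X.one_mem
  have nf : ∀ {A B : Submodule F V}, SingPair Q A B → 0 < finrank F B →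
      A.map s.1.toLinearMap = B → ¬ ∀ p ∈ A, Full X ⊤ p := by
    intro A B h hB hs1 hf
    obtain ⟨e, he, he0⟩ := Submodule.exists_mem_ne_zero_of_ne_bot (p := B)
      (by intro h; rw [h, finrank_bot] at hB; omega)
    obtain ⟨f, hf', hef⟩ := h.symm.exists_polar_eq_one hQ he he0
    refine hX' (commutator_le_of_two_full hQ (by omega) (h.right e he) (h.left f hf')
      (by rw [hef]; exact one_ne_zero) ?_ (hf f hf'))
    rw [← hs1] at he
    obtain ⟨x, hx, rfl⟩ := he
    exact (hf x hx).apply hs fun _ => Iff.rfl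
  obtain ⟨a, ha, b, hb, hab⟩ := h.exists_add (g.1 p)
  by_cases ha0 : a = 0
  · exact Or.inr (by rwa [← hab, ha0, zero_add])
  by_cases hb0 : b = 0
  · exact Or.inl (by rwa [← hab, hb0, add_zero])
  exfalso
  have key : B ⊓ orth Q (Submodule.span F {p}) ≤
      (Submodule.span F {a, b}).comap g.1.toLinearMap := by
    intro w hw
    obtain ⟨a', ha', b', hb', hab'⟩ := h.exists_add (g.1 w)
    have h1 : Q (a + b) = 0 := by rw [hab, O_map, h.left p hp]
    have h2 : Q (a' + b') = 0 := by rw [hab', O_map, h.right w hw.1]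
    have h3 : polar Q (a + b) (a' + b') = 0 := by
      rw [hab, hab', O_polar, mem_orth_singleton.1 hw.2]
    have h4 : eich Q (a + b) (a' + b') ∈ X := by
      rw [hab, hab', ← conj_eich]
      exact X.mul_mem (X.mul_mem hg (hX p hp w hw.1)) (X.inv_mem hg)
    have h6 : a' ∈ Submodule.span F {a} := by
      by_contra hc
      exact nf h (by omega) hs1 (h.full_of_long hQ h5 hX ha ha' hb hb' h1 h2 h3 h4 ha0 hc)
    have h7 : b' ∈ Submodule.span F {b} := by
      by_contra hc
      rw [add_comm a] at h1 h3 h4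
      rw [add_comm a'] at h2 h3 h4
      exact nf h.symm (by omega) hs2
        (h.symm.full_of_long hQ (by omega) hXB hb hb' ha ha' h1 h2 h3 h4 hb0 hc)
    change g.1 w ∈ Submodule.span F {a, b}
    rw [← hab']
    exact Submodule.add_mem _ (Submodule.span_mono (by simp) h6) (Submodule.span_mono (by simp) h7)
  have h1 := Submodule.finrank_mono key
  have h2 := finrank_le_inf_orth_singleton (Q := Q) B p
  have h3 := finrank_span_pair_le (F := F) a b
  rw [Submodule.comap_equiv_eq_map_symm, LinearEquiv.finrank_map_eq] at h1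
  omega

end Pair

/-- The stabiliser of a pair of complementary totally singular subspaces of even dimension. -/
theorem maxOm_pair [Finite F] (hQ : (polarBilin Q).Nondegenerate) {D : Fin 2 → Submodule F V}
    (h : SingPair Q (D 0) (D 1)) (h5 : 5 ≤ finrank F (D 0)) (hev : Even (finrank F (D 0))) :
    MaxOm Q (stabDec D) := by
  obtain ⟨hV, hBA⟩ := h.finrank_eq hQ
  have hn : 5 ≤ finrank F V := by omega
  have two : ∀ i : Fin 2, i = 0 ∨ i = 1 := by decide
  have hst : ∀ g : O Q, g ∈ stab Q (D 0) → g ∈ stab Q (D 1) → g.1 ∈ stabDec D := fun g h0 h1 =>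
    mem_stabDec.2 ⟨1, fun i => by
      rcases two i with rfl | rfl
      exacts [mem_stab_iff_map.1 h0, mem_stab_iff_map.1 h1]⟩
  have hsw : ∀ g : O Q, (D 0).map g.1.toLinearMap = D 1 → (D 1).map g.1.toLinearMap = D 0 →
      g.1 ∈ stabDec D := fun g h0 h1 =>
    mem_stabDec.2 ⟨Equiv.swap 0 1, fun i => by
      rcases two i with rfl | rfl
      exacts [h0, h1]⟩
  refine ⟨?_, fun X hX hN hX' g hg => ?_⟩
  · obtain ⟨a, ha, ha0⟩ := Submodule.exists_mem_ne_zero_of_ne_bot (p := D 0)
      (by intro h; rw [h, finrank_bot] at h5; omega)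
    obtain ⟨b, hb, hb0, hab⟩ := exists_ne_zero_orth (Q := Q) (W := D 1) (by omega) a
    obtain ⟨w, hw1, hw2⟩ := exists_orth_ne hQ (x := b) (y := a) fun hc =>
      ha0 (Submodule.disjoint_def.1 h.compl.disjoint a ha
        ((Submodule.span_singleton_le_iff_mem _ _).2 hb hc))
    refine ⟨eich Q b w, eich_mem_Om hQ hn _ _, fun hN => ?_⟩
    obtain ⟨σ, hσ⟩ := mem_stabDec.1 hN
    have h1 : (eich Q b w).1 a ∈ D (σ 0) := by rw [← hσ 0]; exact ⟨a, ha, rfl⟩
    rw [eich_apply_of_orth (h.right b hb) hw1 hab] at h1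
    rcases two (σ 0) with h2 | h2 <;> rw [h2] at h1
    · exact smul_ne_zero hw2 hb0 (Submodule.disjoint_def.1 h.compl.disjoint _
        (by simpa using (D 0).sub_mem h1 ha) ((D 1).smul_mem _ hb))
    · exact ha0 (Submodule.disjoint_def.1 h.compl.disjoint _ ha
        (by simpa using (D 1).sub_mem h1 ((D 1).smul_mem (polar Q a w) hb)))
  have hX1 : ∀ a ∈ D 0, ∀ b ∈ D 1, eich Q a b ∈ X := fun a ha b hb =>
    hN _ (eich_mem_Om hQ hn _ _) (hst _ (h.eich_mem_stab ha hb).1 (h.eich_mem_stab ha hb).2)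
  have hX2 : ∀ a ∈ D 1, ∀ b ∈ D 0, eich Q a b ∈ X := fun a ha b hb =>
    hN _ (eich_mem_Om hQ hn _ _)
      (hst _ (h.symm.eich_mem_stab ha hb).2 (h.symm.eich_mem_stab ha hb).1)
  obtain ⟨s, hs, hs1, hs2⟩ := h.exists_swap_mem hQ hn hev
  have hsX := hN s hs (hsw s hs1 hs2)
  have key : ∀ i, (D i).map g.1.toLinearMap = D 0 ∨ (D i).map g.1.toLinearMap = D 1 := by
    intro i
    have h1 : ∀ p ∈ D i, g.1 p ∈ D 0 ∨ g.1 p ∈ D 1 := fun p hp => by
      rcases two i with rfl | rfl
      · exact h.apply_mem_or hQ h5 hX1 ⟨s, hsX, hs1, hs2⟩ hX' hg hp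
      · exact (h.symm.apply_mem_or hQ (by omega) hX2 ⟨s, hsX, hs2, hs1⟩ hX' hg hp).symm
    have h2 : finrank F ((D i).map g.1.toLinearMap) = finrank F (D 0) := by
      rw [LinearEquiv.finrank_map_eq]
      rcases two i with rfl | rfl
      exacts [rfl, hBA]
    by_contra! hc
    obtain ⟨_, ⟨u, hu, rfl⟩, h3, h4⟩ := exists_mem_notMem_notMem
      (U := (D i).map g.1.toLinearMap) (A := D 0) (A' := D 1)
      (fun h => hc.1 (Submodule.eq_of_le_of_finrank_eq h h2))
      (fun h => hc.2 (Submodule.eq_of_le_of_finrank_eq h (h2.trans hBA.symm)))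
    exact (h1 u hu).elim h3 h4
  have hne : (D 0).map g.1.toLinearMap ≠ (D 1).map g.1.toLinearMap := fun hc => by
    have h1 := Submodule.map_injective_of_injective g.1.injective hc
    have h2 := h.compl.disjoint
    rw [← h1, disjoint_self] at h2
    rw [show D 0 = ⊥ from h2, finrank_bot] at h5
    omega
  rcases key 0 with h0 | h0 <;> rcases key 1 with h1 | h1
  · exact absurd (h0.trans h1.symm) hne
  · exact hst g (mem_stab_iff_map.2 h0) (mem_stab_iff_map.2 h1)
  · exact hsw g h0 h1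
  · exact absurd (h0.trans h1.symm) hne

theorem singPair_of {ι : Type} [Fintype ι] [DecidableEq ι] {Q : QuadraticForm F (ι → F)} {k : ℕ}
    {D : Fin 2 → Submodule F (ι → F)} (hD : Cfsg.Geo.IsMDecomposition k D)
    (hs : ∀ i, Cfsg.Geo.IsTotallySingularQuad Q (D i)) : SingPair Q (D 0) (D 1) :=
  ⟨⟨hD.indep.pairwiseDisjoint (by decide), codisjoint_iff.2 (by
    rw [eq_top_iff, ← hD.iSup_eq_top]
    exact iSup_le (Fin.forall_fin_two.2 ⟨le_sup_left, le_sup_right⟩))⟩, hs 0, hs 1⟩

end Cfsg.Lib.Class.OMax
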