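import Cfsg.Agent.Class.OPair
import Cfsg.Agent.Class.SO3
import Cfsg.Agent.Class.PGL2Borel
import Cfsg.Agent.Class.OrthTwo

/-!
Dickson's theorem in the form needed for subgroups of `SO₃(q)`.
-/

set_option autoImplicit false

namespace Cfsg.Lib.Class.OMax

open QuadraticMap Module Orth Matrix
open scoped MatrixGroups

theorem perm_five_pow : ∀ g : Equiv.Perm (Fin 5), Equiv.Perm.sign g = 1 →
    g ^ 3 = 1 ∨ g ^ 4 = 1 ∨ g ^ 5 = 1 := by decide +kernel

theorem perm_four_pow : ∀ g : Equiv.Perm (Fin 4), g ^ 3 = 1 ∨ g ^ 4 = 1 ∨ g ^ 5 = 1 := by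
  decide +kernel

theorem pow_of_injective {G H : Type*} [Group G] [Group H] (φ : G →* H)
    (hφ : Function.Injective φ) {g : G} (h : φ g ^ 3 = 1 ∨ φ g ^ 4 = 1 ∨ φ g ^ 5 = 1) :
    g ^ 3 = 1 ∨ g ^ 4 = 1 ∨ g ^ 5 = 1 := by
  simpa only [← map_pow, map_eq_one_iff φ hφ] using h

theorem pgl2_trichotomy {F : Type*} [Field F] [Finite F] (p : ℕ) [Fact p.Prime] [CharP F p]
    (H : Subgroup PGL(2, F)) : (∃ h ∈ H, h ≠ 1 ∧ h ^ p = 1) ∨
      (∃ t ∈ H, t ≠ 1 ∧ ∀ h ∈ H, h * t * h⁻¹ = t ∨ h * t * h⁻¹ = t⁻¹) ∨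
      ∀ h ∈ H, h ^ 3 = 1 ∨ h ^ 4 = 1 ∨ h ^ 5 = 1 := by
  have key : ∀ {G : Type} [Group G], (∀ g : G, g ^ 3 = 1 ∨ g ^ 4 = 1 ∨ g ^ 5 = 1) →
      Nonempty (H ≃* G) → ∀ h ∈ H, h ^ 3 = 1 ∨ h ^ 4 = 1 ∨ h ^ 5 = 1 := by
    rintro G _ hG ⟨e⟩ h hh
    have := pow_of_injective e.toMonoidHom e.injective (hG (e ⟨h, hh⟩))
    simpa only [Subtype.ext_iff, SubgroupClass.coe_pow, OneMemClass.coe_one] using this
  have a5 : ∀ g : alternatingGroup (Fin 5), g ^ 3 = 1 ∨ g ^ 4 = 1 ∨ g ^ 5 = 1 := fun g =>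
    pow_of_injective (alternatingGroup (Fin 5)).subtype Subtype.val_injective
      (perm_five_pow g g.2)
  rcases dickson_pgl' p H with ⟨x, hx⟩ | ⟨x, y, hxy, ⟨t, ht, ht1, ht2⟩, hH⟩ | ⟨-, h | h | h⟩ |
    ⟨-, h⟩ | ⟨F₀, c, -, h⟩
  · by_cases h1 : ∃ h ∈ H, h ≠ 1 ∧ h ^ p = 1
    · exact Or.inl h1
    by_cases h2 : ∃ t ∈ H, t ≠ 1
    · obtain ⟨t, ht, ht1⟩ := h2
      refine Or.inr (Or.inl ⟨t, ht, ht1, fun h hh => Or.inl ?_⟩)
      by_contra hc
      exact h1 ⟨h * t * h⁻¹ * t⁻¹, H.mul_mem (H.mul_mem (H.mul_mem hh ht) (H.inv_mem hh))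
        (H.inv_mem ht), fun h3 => hc (mul_inv_eq_one.1 h3),
        (commutator_mem_unip p (hx hh) (hx ht)).2⟩
    · push Not at h2
      exact Or.inr (Or.inr fun h hh => Or.inl (by rw [h2 h hh, one_pow]))
  · exact Or.inr (Or.inl ⟨t, ht, ht2, fun h hh => conj_eq_or_inv hxy.ne (hH hh) ht1⟩)
  · exact Or.inr (Or.inr (key (fun g => pow_of_injective (alternatingGroup (Fin 4)).subtype
      Subtype.val_injective (perm_four_pow g)) h))
  · exact Or.inr (Or.inr (key perm_four_pow h))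
  · exact Or.inr (Or.inr (key a5 h))
  · exact Or.inr (Or.inr (key a5 h))
  · have h1 : aff 1 1 ∈ pslSub F₀ := aff_one_mem_pslSub F₀.one_mem
    refine Or.inl ⟨c * aff 1 1 * c⁻¹, ?_, ?_, ?_⟩
    · rcases h with rfl | rfl
      · exact ⟨_, pslSub_le_pglSub F₀ h1, rfl⟩
      · exact ⟨_, h1, rfl⟩
    · rw [Ne, conj_eq_one_iff, aff_eq_one_iff]; simp
    · rw [conj_pow, (aff_pow_char_eq_one_iff p 1 1).2 rfl]; simp

variable {F V : Type*} [Field F] [AddCommGroup V] [Module F V] {Q : QuadraticForm F V}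
  [FiniteDimensional F V]

theorem not_dvd_card_O_two [Finite F] (p : ℕ) [Fact p.Prime] [CharP F p] (h2 : (2 : F) ≠ 0)
    (hQ : (polarBilin Q).Nondegenerate) (hn : finrank F V = 2) : ¬ p ∣ Nat.card (O Q) := by
  have hq : ((Nat.card F : ℕ) : F) = 0 := by
    have := Fintype.ofFinite F
    rw [Nat.card_eq_fintype_card]; exact FiniteField.cast_card_eq_zero F
  rw [← CharP.cast_eq_zero_iff F p]
  by_cases hp : Known.IsPlus Q
  · rw [card_O_plus hQ (m := 0) hn hp]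
    have : 1 ≤ Nat.card F := Nat.card_pos
    simp [Nat.cast_sub this, hq, h2]
  · rw [card_O_minus hQ (m := 0) hn hp]
    simp [hq, h2]

theorem exists_fixs_eq_span (hn : finrank F V = 3) {g : O Q} (hg : dick g = 1) (h1 : g ≠ 1) :
    ∃ v, v ≠ 0 ∧ fixs g = Submodule.span F {v} := by
  refine exists_eq_span_of_finrank_eq_one ?_
  have h2 : finrank F (fixs g) < finrank F V := Submodule.finrank_lt fun h =>
    h1 (O_ext fun v => mem_fixs.1 (h ▸ Submodule.mem_top))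
  rw [dick, hn] at hg
  rw [hn] at h2
  interval_cases finrank F (fixs g)
  · exact absurd hg (by decide)
  · rfl
  · exact absurd hg (by decide)

theorem exists_eich_of_pow_char [Finite F] (p : ℕ) [Fact p.Prime] [CharP F p] (h2 : (2 : F) ≠ 0)
    (hQ : (polarBilin Q).Nondegenerate) (hn : finrank F V = 3) {g : O Q} (hg : dick g = 1)
    (h1 : g ≠ 1) (hp : g ^ p = 1) :
    ∃ ρ w, ρ ≠ 0 ∧ Q ρ = 0 ∧ polar Q ρ w = 0 ∧ w ∉ Submodule.span F {ρ} ∧ g = eich Q ρ w := by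
  obtain ⟨ρ, hρ, hf⟩ := exists_fixs_eq_span hn hg h1
  have hgρ : g.1 ρ = ρ := mem_fixs.1 (hf ▸ Submodule.mem_span_singleton_self ρ)
  have hE : ¬ Exc Q := not_exc_of_two_ne_zero h2
  by_cases h0 : Q ρ = 0
  · obtain ⟨f, hf0, hρf⟩ := exists_partner hQ hρ h0
    obtain ⟨h3, h4⟩ := eich_apply_eq (p := ρ) (x := f) (y := g.1 f) h0 (O_map g f).symm
      (by conv_rhs => rw [← hgρ, O_polar]) (by rw [hρf]; exact one_ne_zero)
    set w := (polar Q ρ f)⁻¹ • (f - g.1 f)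
    obtain ⟨u, -, hu⟩ := exists_eq_span_of_finrank_eq_one
      (W := orth Q (Submodule.span F {ρ, f})) (by have := finrank_orth_hyp hQ h0 hρf; omega)
    have h5 : (eich Q ρ w)⁻¹ * g ∈ fixG Q (Submodule.span F {ρ, f}) := mem_fixG_span.2 (by
      rintro _ (rfl | rfl)
      · rw [O_mul_apply, hgρ, O_inv_apply_of_eq (eich_apply_self _ _)]
      · rw [O_mul_apply, O_inv_apply_of_eq h4])
    have h6 : (eich Q ρ w)⁻¹ * g = 1 := by
      have h7 := fixG_le_zpowers hQ hu h5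
      have h8 : dick ((eich Q ρ w)⁻¹ * g) = 1 := by
        rw [← eich_neg, dick_mul hQ hE, hg,
          dick_eq_one_of_mem_commutator hQ hE (eich_mem_commutator hQ hE _ _), one_mul]
      by_cases hu0 : Q u = 0
      · simpa [refl_of_eq_zero hu0] using h7
      classical
      rw [mem_zpowers_iff_mem_range_orderOf, orderOf_refl hQ hu0, Finset.mem_image] at h7
      obtain ⟨k, hk, h9⟩ := h7
      rw [Finset.mem_range] at hk
      interval_cases k
      · simpa using h9.symm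
      · rw [← h9, pow_one, dick_refl hQ hu0] at h8
        exact absurd h8 (by decide)
    have h7 : g = eich Q ρ w := (inv_mul_eq_one.1 h6).symm
    refine ⟨ρ, w, hρ, h0, h3, fun hw => h1 ?_, h7⟩
    obtain ⟨c, hc⟩ := Submodule.mem_span_singleton.1 hw
    rw [h7, ← hc, eich_smul_self]
  · exfalso
    have hd := disjoint_span_singleton_orth (Q := Q) (v := ρ)
      (by rw [polar_self']; exact mul_ne_zero h2 h0)
    have h3 : g ∈ fixG Q (Submodule.span F {ρ}) := mem_fixG_span.2 (by rintro _ rfl; exact hgρ)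
    obtain ⟨k, rfl⟩ : ∃ k, extend hQ (restrict_nondeg_iff.1 (restrict_orth_nondeg hQ hd)) k = g := by
      rw [← MonoidHom.mem_range, range_extend, orth_orth hQ]; exact h3
    rw [← map_pow, map_eq_one_iff _ (extend_injective _ _)] at hp
    have h4 := not_dvd_card_O_two p h2 (restrict_orth_nondeg hQ hd) (by
      have := finrank_orth hQ (Submodule.span F {ρ})
      rw [finrank_span_singleton hρ] at this
      omega)
    have h5 : k ≠ 1 := by rintro rfl; exact h1 (map_one _)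
    exact h4 (orderOf_eq_prime hp h5 ▸ orderOf_dvd_natCard k)

theorem exists_so3_embed [Finite F] (h2 : (2 : F) ≠ 0) (hQ : (polarBilin Q).Nondegenerate)
    (hn : finrank F V = 3) : ∃ φ : PGL(2, F) →* O Q, Function.Injective φ ∧
      ∀ g, dick g = 1 → g ∈ φ.range := by
  have := Fintype.ofFinite F
  obtain ⟨c, e, hc, he⟩ := Known.exists_equiv_odd_sim hQ (m := 1) hn
  obtain ⟨ψ⟩ := nonempty_pgl_two_equiv_so3 (F := F) (by
    rw [← Nat.not_even_iff_odd, Nat.even_iff, ← FiniteField.even_card_iff_char_two]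
    exact fun h => h2 (by rw [← Nat.cast_ofNat, ← h]; exact ringChar.Nat.cast_ringChar))
  rw [← coe_quadOdd] at he ψ
  let χ : isometryGroup F (quadOdd 1 F) ≃* O Q :=
    (oEquivIsom (quadOdd 1 F)).trans (OCongr (Q := quadOdd 1 F) e hc he)
  refine ⟨χ.toMonoidHom.comp ((Subgroup.subtype _).comp ψ.toMonoidHom),
    χ.injective.comp (Subtype.val_injective.comp ψ.injective), fun g hg => ?_⟩
  have h1 : χ.symm g ∈ specialIsometryGroup F (quadOdd 1 F) := by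
    rw [mem_specialIsometryGroup_iff]
    have h3 := (detO_eq_one_iff hQ h2 g).2 hg
    rw [← χ.apply_symm_apply g] at h3
    have h4 := (detO_OCongr (Q := quadOdd 1 F) e hc he _).symm.trans h3
    exact congrArg Units.val ((detO_oEquivIsom _).symm.trans h4)
  exact ⟨ψ.symm ⟨_, h1⟩, by simp⟩

/-- Subgroups of `SO₃(q)`, `q` odd: they contain an Eichler transformation, or fix a point, or
all their elements have order at most five. -/
theorem so3_trichotomy [Finite F] (h2 : (2 : F) ≠ 0) (hQ : (polarBilin Q).Nondegenerate)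
    (hn : finrank F V = 3) (K : Subgroup (O Q)) (hK : ∀ k ∈ K, dick k = 1) :
    (∃ ρ w, ρ ≠ 0 ∧ Q ρ = 0 ∧ polar Q ρ w = 0 ∧ w ∉ Submodule.span F {ρ} ∧ eich Q ρ w ∈ K) ∨
      (∃ v, v ≠ 0 ∧ ∀ k ∈ K, k.1 v ∈ Submodule.span F {v}) ∨
      ∀ k ∈ K, k ^ 3 = 1 ∨ k ^ 4 = 1 ∨ k ^ 5 = 1 := by
  obtain ⟨φ, hφ, hr⟩ := exists_so3_embed h2 hQ hn
  obtain ⟨p, hp⟩ := CharP.exists F
  have := Fact.mk (CharP.char_is_prime F p)
  rcases pgl2_trichotomy p (K.comap φ) with ⟨h, hh, h1, h3⟩ | ⟨t, ht, h1, h3⟩ | h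
  · obtain ⟨ρ, w, a1, a2, a3, a4, a5⟩ := exists_eich_of_pow_char p h2 hQ hn (hK _ hh)
      (by rwa [Ne, map_eq_one_iff φ hφ]) (by rw [← map_pow, h3, map_one])
    exact Or.inl ⟨ρ, w, a1, a2, a3, a4, a5 ▸ hh⟩
  · obtain ⟨v, hv, hf⟩ := exists_fixs_eq_span hn (hK _ ht) (by rwa [Ne, map_eq_one_iff φ hφ])
    refine Or.inr (Or.inl ⟨v, hv, fun k hk => ?_⟩)
    obtain ⟨h, rfl⟩ := hr k (hK k hk)
    have h4 : (φ t).1 v = v := mem_fixs.1 (hf ▸ Submodule.mem_span_singleton_self v)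
    rw [← hf, mem_fixs]
    rcases h3 h hk with h5 | h5
    · conv_lhs => rw [← h5]
      simp [h4]
    · conv_lhs => rw [← inv_inv t, ← h5]
      have h6 : (φ t).1.symm v = v := O_inv_apply_of_eq h4
      simp [h6]
  · refine Or.inr (Or.inr fun k hk => ?_)
    obtain ⟨g, rfl⟩ := hr k (hK k hk)
    simpa only [← map_pow, map_eq_one_iff φ hφ] using h g hk

end Cfsg.Lib.Class.OMax
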