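import Cfsg.Agent.Class.OddTrL2
import Cfsg.Agent.Inst.S1175
import Cfsg.Agent.Trans.CentralTransfer

/-!
# Odd transpositions with a connected commuting graph: the root groups
-/

set_option autoImplicit false

namespace Cfsg.Lib.Class.RI

open Subgroup Cfsg.Lib.Local Cfsg.Lib.Solv Cfsg.Lib.Chev.RankOne Cfsg.Lib.Chev.Core

universe u

variable {G : Type u} [Group G] {D : Set G}

theorem Ln.coe (hD : Rt D) {X : Subgroup G} (hX : X ≤ closure D) {x : G} (hx : x ∈ D) {a b : X}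
    (l : Ln (clsIn X x) a b) : Ln D (a : G) b :=
  ⟨mem_of_clsIn hD hX hx l.l, mem_of_clsIn hD hX hx l.r, fun e => l.ne (Subtype.ext e),
    commute_coe.2 l.c, mem_of_clsIn hD hX hx l.m⟩

theorem closure_preimage_eq_top {S : Set G} {x : G} {X : Subgroup G} (eX : closure (S ∪ {x}) = X)
    (hxX : x ∈ X) : closure ((Subtype.val ⁻¹' S : Set X) ∪ {⟨x, hxX⟩}) = ⊤ := by
  subst eX
  rw [← closure_closure_coe_preimage (k := S ∪ {x})]
  congr 1
  ext g
  simp [Subtype.ext_iff]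

variable [Finite G]

theorem od_quot (hD : Rt D) (dg : Dg D) (ht : closure D = ⊤) (hc : Cls D) {a w : G} (l : Ln D a w)
    (hn : ∀ a ∈ D, ∀ b ∈ D, Cc D a b) : Od (QuotientGroup.mk' (pCore 2 G) '' D) := by
  have hne := hD.map_ne_one ht hc l ker_mk_pCore_le
  refine ⟨hD.map hne, Dg.map hD dg _, closure_map_eq_top ht (QuotientGroup.mk'_surjective _),
    hc.map _, fun d hd => (hD.map hne).exists_ln_at (hc.map _) (l.map hD hne) hd,
    pCore_quotient_pCore 2 G, ?_⟩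
  rintro _ ⟨a, ha, rfl⟩ _ ⟨b, hb, rfl⟩
  have := hn a ha b hb
  clear hb
  induction this with
  | refl => exact Relation.ReflTransGen.refl
  | @tail b c _ h2 ih =>
    by_cases e : QuotientGroup.mk' (pCore 2 G) b = QuotientGroup.mk' (pCore 2 G) c
    · exact e ▸ ih
    · exact ih.tail ⟨⟨b, h2.1, rfl⟩, ⟨c, h2.2.1, rfl⟩, e, (Commute.map h2.2.2.2 _).eq⟩

namespace Od

variable (h : Od D)
include h

theorem exists_loc {b η x : G} (hb : b ∈ D) (hη : η ∈ D) (hx : x ∈ D) (c : Commute b η)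
    (hn : ¬ SameC D b η) (o : Op b x) (o' : Op η x) :
    ∃ (K : Subgroup G) (hxK : x ∈ K) (Hb : Type u) (_ : Group Hb) (_ : Finite Hb) (f : K →* Hb)
      (Ω : Type u) (_ : MulAction Hb Ω) (_ : FaithfulSMul Hb Ω) (a : Ω) (Q T : Subgroup Hb),
      Loc (clsIn K x) f a ⟨x, hxK⟩ Q T ∧ Suz.CaseA Q ∧ Suz.Ord3 Q (f ⟨x, hxK⟩) ∧
      Suz.LL Q (f ⟨x, hxK⟩) = ⊤ ∧ pCore 2 Hb = ⊥ ∧
      ∀ s ∈ Eb D b ∪ Eb D η, ∃ hs : s ∈ K, (⟨s, hs⟩ : K) ∈ Ph0 (clsIn K x) f Q := by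
  obtain ⟨a', t, s, tr⟩ := h.exists_tr hb hη hx c hn o o'
  obtain ⟨K, eK⟩ : ∃ K, closure (Eb D b ∪ Eb D η ∪ {x}) = K := ⟨_, rfl⟩
  have hK : K ≤ closure D := h.top ▸ le_top
  have mS : ∀ s ∈ Eb D b ∪ Eb D η, s ∈ K := fun s hs => eK ▸ subset_closure (Or.inl hs)
  have hxK : x ∈ K := eK ▸ subset_closure (Or.inr rfl)
  have hz : ∀ g ∈ K, Commute (a' * η * t) g := fun g hg => by
    rw [← eK] at hg
    refine (commute_of_mem_closure hg ?_).symm
    rintro e ((he | he) | rfl)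
    · exact (((he.2 a' tr.ha).1 (s.commute tr.ha)).mul_right ((he.2 η hη).1 c)).mul_right
        ((he.2 t tr.hc).1 ((s t tr.hc).2 tr.ac))
    · exact (((he.2 a' tr.ha).1 tr.ab.symm).mul_right ((he.2 η hη).1 (Commute.refl η))).mul_right
        ((he.2 t tr.hc).1 tr.bc)
    · exact tr.z.symm
  have mb : b ∈ Eb D b ∪ Eb D η := Or.inl ⟨hb, SameC.refl D b⟩
  have sub : Eb D b ∪ Eb D η ⊆ D := by rintro e (he | he) <;> exact he.1
  have g := genOp_quot h.rt h.dg mb hx sub o eK (by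
    rintro e (he | he) c hc hcK
    · exact he.2 c hc
    · refine (s c hc).trans (Iff.trans ⟨h.rt.tr_commute h.dg tr hc (hz c hcK),
        h.rt.tr_commute h.dg tr.swap hc (tr.ab.eq ▸ hz c hcK)⟩ (he.2 c hc))) (mS b mb) hxK
  have h1 := rt_clsIn h.rt h.dg hK hx
  have mC : ∀ s (hs : s ∈ Eb D b ∪ Eb D η), (⟨s, mS s hs⟩ : K) ∈ clsIn K x := by
    rintro e (he | he)
    · exact clsIn_of_op h.rt hx he.1 hxK (h.rt.op_of_sameC h.dg hb he.1 hx he.2 o)
    · exact clsIn_of_op h.rt hx he.1 hxK (h.rt.op_of_sameC h.dg hη he.1 hx he.2 o')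
  have mem : ∀ a ∈ clsIn K x, ∀ e ∈ D, SameC D a e → ∃ he : e ∈ K, (⟨e, he⟩ : K) ∈ clsIn K x := by
    rintro a ⟨g, hg, e1⟩ e he s
    obtain ⟨r, hr, e2⟩ := mC b mb
    have m : r * g⁻¹ * e * (r * g⁻¹)⁻¹ ∈ Eb D b ∪ Eb D η := by
      refine Or.inl ⟨h.rt.cj_mem h.top he _, ?_⟩
      have := s.cj (g := r * g⁻¹) fun d hd => h.rt.cj_mem' h.top hd _
      rwa [show r * g⁻¹ * a * (r * g⁻¹)⁻¹ = b by rw [e1, show b = _ from e2]; group] at this
    obtain ⟨k, hk, e3⟩ := mC _ m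
    have e4 : e = g * r⁻¹ * k * x * (g * r⁻¹ * k)⁻¹ := by
      calc e = g * r⁻¹ * (r * g⁻¹ * e * (r * g⁻¹)⁻¹) * (g * r⁻¹)⁻¹ := by group
        _ = _ := by rw [show r * g⁻¹ * e * (r * g⁻¹)⁻¹ = _ from e3]; group
    have m' := mul_mem (mul_mem hg (inv_mem hr)) hk
    exact ⟨e4 ▸ mul_mem (mul_mem m' hxK) (inv_mem m'), _, m', e4⟩
  have ln : ∀ a ∈ clsIn K x, ∀ w : K, Ln D (a : G) w → Ln (clsIn K x) a w := fun a ha w l =>
    ⟨ha, (mem a ha w l.r (h.rt.sameC_of_ln h.dg l)).2, fun e => l.ne (congrArg Subtype.val e),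
      commute_coe.1 l.c, (mem a ha _ l.m (h.rt.sameC_of_ln h.dg (h.rt.ln_third l))).2⟩
  have ln' : ∀ a ∈ clsIn K x, ∃ w, Ln (clsIn K x) a w := fun a ha => by
    obtain ⟨w, l⟩ := h.ln a (mem_of_clsIn h.rt hK hx ha)
    exact ⟨⟨w, (mem a ha w l.r (h.rt.sameC_of_ln h.dg l)).1⟩, ln a ha _ l⟩
  have hne : ∀ d ∈ clsIn K x, QuotientGroup.mk' (pCore 2 K) d ≠ 1 :=
    fun d hd => g.rt.ne _ ⟨d, hd, rfl⟩
  obtain ⟨w, l⟩ := ln' _ (mC b mb)
  obtain ⟨-, Ω, i1, i2, a, Q, T, hH, hS, hQ, hAB, hL⟩ := g.rkOne (l.map h1 hne)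
  have mP : ∀ s (hs : s ∈ Eb D b ∪ Eb D η),
      (⟨s, mS s hs⟩ : K) ∈ Ph0 (clsIn K x) (QuotientGroup.mk' (pCore 2 K)) Q :=
    fun s hs => ⟨mC s hs, hS ⟨_, hs, rfl⟩⟩
  have L : Loc (clsIn K x) (QuotientGroup.mk' (pCore 2 K)) a ⟨x, hxK⟩ Q T := by
    refine ⟨h1, dg_clsIn h.rt h.dg hK hx, fun d hd g => clsIn_cj hd g, ln', fun a b c l l' hn => ?_,
      ⟨1, one_mem _, by simp⟩, QuotientGroup.mk'_surjective _,
      by rw [QuotientGroup.ker_mk']; exact pCore_isPGroup 2 K, hne, hH, ?_⟩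
    · have l1 := l.coe h.rt hK hx
      have l2 := l'.coe h.rt hK hx
      exact ln a l.l c (h.ln_of_sameC l1.l l2.r ((h.rt.sameC_of_ln h.dg l1).trans
        (h.rt.sameC_of_ln h.dg l2)) fun e => hn (Subtype.ext e))
    · rw [eq_top_iff, ← closure_preimage_eq_top eK hxK]
      exact closure_mono (Set.union_subset_union_left _ fun s hs => mP s hs)
  refine ⟨K, hxK, _, inferInstance, inferInstance, _, Ω, i1, i2, a, Q, T, L, ?_⟩
  rcases L.dich hQ hAB hL with k | k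
  · exact ⟨k.1, k.2, hL, g.hO, fun s hs => ⟨mS s hs, mP s hs⟩⟩
  · refine absurd (h.rt.sameC_of_ln h.dg ((k _ (mP b mb) _ (mP η (Or.inr ⟨hη, SameC.refl D η⟩))
      fun e => hn ?_).coe h.rt hK hx)) hn
    rw [show b = η from congrArg Subtype.val e]
    exact SameC.refl D η

theorem exists_bad {b η x : G} (hb : b ∈ D) (hη : η ∈ D) (hx : x ∈ D) (c : Commute b η)
    (hn : ¬ SameC D b η) (o : Op b x) (o' : Op η x) :
    ∃ α ∈ D, SameC D b α ∧ Commute x (sm α η x) := by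
  obtain ⟨K, hxK, Hb, _, _, f, Ω, _, _, a, Q, T, L, -, h3, -, -, mP⟩ :=
    h.exists_loc hb hη hx c hn o o'
  have hK : K ≤ closure D := h.top ▸ le_top
  obtain ⟨hbK, m1⟩ := mP b (Or.inl ⟨hb, SameC.refl D b⟩)
  obtain ⟨hηK, m2⟩ := mP η (Or.inr ⟨hη, SameC.refl D η⟩)
  have key : ∀ α ∈ Ph0 (clsIn K x) f Q, f α = f ⟨η, hηK⟩ → Commute x (sm α η x) := fun α m e =>
    commute_coe.2 (L.commute_of_map L.hx (L.rt.sm_mem L.hx m.1 m2.1 (L.commute m m2)) (by
      unfold sm; simp [e, L.fsq m2.1]))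
  by_cases e : f ⟨b, hbK⟩ = f ⟨η, hηK⟩
  · exact ⟨b, hb, SameC.refl D b, key _ m1 e⟩
  · obtain ⟨α, l, e⟩ := L.cover (Or.inl h3) m1 m2 e
    have l' := l.coe h.rt hK hx
    exact ⟨α, l'.r, h.rt.sameC_of_ln h.dg l', key _ (L.mem_of_ln m1 l) e⟩

/-- Any two members have a common neighbour. -/
theorem exists_common {a x : G} (ha : a ∈ D) (hx : x ∈ D) : ∃ e ∈ D, Commute e a ∧ Commute e x := by
  have := h.conn x hx a ha
  clear ha
  induction this with
  | refl => exact ⟨x, hx, Commute.refl x, Commute.refl x⟩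
  | @tail b a _ h2 ih =>
    obtain ⟨hb, ha, -, c⟩ := h2
    obtain ⟨e, he, c1, c2⟩ := ih
    by_cases k1 : Commute a x
    · exact ⟨a, ha, Commute.refl a, k1⟩
    by_cases k2 : Commute b x
    · exact ⟨b, hb, c, k2⟩
    by_cases k3 : SameC D a b
    · exact ⟨e, he, ((k3 e he).2 c1.symm).symm, c2⟩
    have o := h.rt.op_of_nc h.dg ha hx k1
    obtain ⟨α, hα, s, k⟩ := h.exists_bad ha hb hx (Commute.symm c) k3 o
      (h.rt.op_of_nc h.dg hb hx k2)
    obtain ⟨x', hx', c3, e1⟩ := h.rt.psi h.dg hα hb hx (h.rt.op_of_sameC h.dg ha hα hx s o)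
      ((s b hb).1 (Commute.symm c)) k
    have hu := sq_mul_of_commute (h.rt.sq x hx) (h.rt.sq x' hx') c3
    have m := h.rt.sm_mem he hx hx' c3
    refine ⟨_, m, ((s _ m).2 ?_).symm, ?_⟩
    · have := commute_cji c1.symm hu
      rwa [e1, sm, cji_cji hu] at this
    · have := commute_cji c2 hu
      rwa [cji_eq ((Commute.refl x).mul_left c3.symm) hu] at this

theorem exists_nbr {d x : G} (hd : d ∈ D) (hx : x ∈ D) (o : Op d x) :
    ∃ η ∈ D, Commute d η ∧ ¬ SameC D d η ∧ Op η x := by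
  by_contra hn
  push Not at hn
  have k : ∀ c ∈ D, Commute d c → ¬ SameC D d c → ∀ g ∈ Eb D d ∪ {x}, Commute c g := by
    rintro c hc c1 n g (hg | rfl)
    · exact ((hg.2 c hc).1 c1).symm
    · exact h.rt.commute_of_not_op h.dg hc hx (hn c hc c1 n)
  haveI : (closure (Eb D d ∪ {x})).Normal := by
    have k1 : ∀ g ∈ Eb D d ∪ {x}, ∀ s ∈ Eb D d ∪ {x}, g * s * g ∈ closure (Eb D d ∪ {x}) :=
      fun g hg s hs => mul_mem (mul_mem (subset_closure hg) (subset_closure hs)) (subset_closure hg)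
    refine normal_of_gens (h.gen hd hx o) ?_ ?_
    · rintro t (ht | rfl)
      · exact h.rt.sq t ht.1
      · exact h.rt.sq t hx
    rintro t (ht | rfl) s hs
    · by_cases n : SameC D d t
      · exact k1 t (Or.inl ⟨ht.1, n⟩) s hs
      · rw [cji_eq (k t ht.1 ht.2 n s hs) (h.rt.sq t ht.1)]
        exact subset_closure hs
    · exact k1 t (Or.inr rfl) s hs
  have top := h.rt.eq_top_of_mem h.top h.cls hx (N := closure (Eb D d ∪ {x}))
    (subset_closure (Or.inr rfl))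
  obtain ⟨c, hc, c1, c2⟩ := h.exists_common hd hx
  exact h.rt.ne c hc (h.eq_one top (h.rt.sq c hc) (k c hc c1.symm fun s =>
    h.rt.nc hd hx o ((s x hx).2 c2)))

omit [Finite G] in
theorem commute_Eb {d : G} : ∀ a ∈ Eb D d, ∀ b ∈ Eb D d, Commute a b :=
  fun _ ha b hb => (ha.2.symm.trans hb.2).commute hb.1

theorem mem_closure_Eb {d g : G} : g ∈ closure (Eb D d) ↔ g ∈ Eb D d ∨ g = 1 := by
  refine ⟨fun hg => ?_, ?_⟩
  · induction hg using closure_induction with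
    | mem e he => exact Or.inl he
    | one => exact Or.inr rfl
    | mul a b _ _ iha ihb =>
      rcases iha with ha | rfl
      · rcases ihb with hb | rfl
        · by_cases e : a = b
          · exact Or.inr (e ▸ h.rt.sq a ha.1)
          · have l := h.rt.ln_third (h.ln_of_sameC ha.1 hb.1 (ha.2.symm.trans hb.2) e)
            exact Or.inl ⟨l.r, ha.2.trans (h.rt.sameC_of_ln h.dg l)⟩
        · exact Or.inl (by rwa [mul_one])
      · rwa [one_mul]
    | inv a _ ih =>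
      rcases ih with ha | rfl
      · exact Or.inl (by rwa [h.rt.inv ha.1])
      · exact Or.inr inv_one
  · rintro (hg | rfl)
    · exact subset_closure hg
    · exact one_mem _

theorem exists_map {d η x : G} (hd : d ∈ D) (hη : η ∈ D) (hx : x ∈ D) (c : Commute d η)
    (hn : ¬ SameC D d η) (o : Op d x) (o' : Op η x) {X : Subgroup G}
    (eX : closure (Eb D d ∪ {x}) = X) (hxX : x ∈ X) :
    ∃ (Hb : Type u) (_ : Group Hb) (_ : Finite Hb) (f : X →* Hb)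
      (Ω : Type u) (_ : MulAction Hb Ω) (_ : FaithfulSMul Hb Ω) (a : Ω) (Q T : Subgroup Hb),
      Suz.Hyp Hb Ω a (f ⟨x, hxX⟩) Q T ∧ Suz.CaseA Q ∧ Suz.LL Q (f ⟨x, hxX⟩) = ⊤ ∧
      Function.Surjective f ∧ f.ker = pCore 2 X ∧
      (∀ q ∈ Q, q ≠ 1 → ∃ e : X, (e : G) ∈ Eb D d ∧ f e = q) ∧
      (∀ e : X, (e : G) ∈ Eb D d → f e ∈ Q ∧ f e ≠ 1) ∧
      ∀ g : X, f g = 1 → ∀ α ∈ Eb D d, ∀ s ∈ Eb D d ∪ Eb D η, Commute s (g * α * g⁻¹) := by
  obtain ⟨K, hxK, Hb, i1, i2, f, Ω, i3, i4, a, Q, T, L, hA, h3, hL, hO, mP⟩ :=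
    h.exists_loc hd hη hx c hn o o'
  have hK : K ≤ closure D := h.top ▸ le_top
  have hXK : X ≤ K := by
    rw [← eX, closure_le]
    rintro e (he | rfl)
    · exact (mP e (Or.inl he)).1
    · exact hxK
  have mX : ∀ e ∈ Eb D d, e ∈ X := fun e he => eX ▸ subset_closure (Or.inl he)
  have md : d ∈ Eb D d := ⟨hd, SameC.refl D d⟩
  have k1 : ∀ q ∈ Q, q ≠ 1 → ∃ e : X, (e : G) ∈ Eb D d ∧ f (inclusion hXK e) = q := by
    intro q hq h1
    obtain ⟨w, hw, rfl⟩ := L.lift h1 (hA q hq)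
    obtain ⟨hdK, m⟩ := mP d (Or.inl md)
    by_cases e : f ⟨d, hdK⟩ = f w
    · exact ⟨⟨d, mX d md⟩, md, e⟩
    · obtain ⟨α, l, e⟩ := L.cover (Or.inl h3) m ⟨hw, hq⟩ e
      have l' := l.coe h.rt hK hx
      have m' : (α : G) ∈ Eb D d := ⟨l'.r, h.rt.sameC_of_ln h.dg l'⟩
      exact ⟨⟨α, mX α m'⟩, m', e⟩
  have surj : Function.Surjective (f.comp (inclusion hXK)) := by
    rw [← MonoidHom.range_eq_top, eq_top_iff, ← hL, Suz.LL, closure_le]
    rintro q (rfl | hq)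
    · exact ⟨⟨x, hxX⟩, rfl⟩
    · by_cases h1 : q = 1
      · exact h1 ▸ one_mem _
      · obtain ⟨e, -, e1⟩ := k1 q hq h1
        exact ⟨e, e1⟩
  refine ⟨Hb, i1, i2, f.comp (inclusion hXK), Ω, i3, i4, a, Q, T, L.hyp, hA, hL, surj, ?_, k1,
    fun e he => ⟨(mP e (Or.inl he)).2.2, L.ne _ (mP e (Or.inl he)).2.1⟩, fun g hg α hα s hs => ?_⟩
  · refine le_antisymm (le_pCore inferInstance ?_) fun g hg => ?_
    · exact L.ker.comap_of_injective _ (inclusion_injective hXK)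
    · have := map_pCore_le _ surj ⟨g, hg, rfl⟩
      rwa [hO] at this
  · exact commute_coe.2 (L.commute (mP s hs).2 (L.cj_mem (mP α (Or.inl hα)).2
      (g := inclusion hXK g) (by rw [show f (inclusion hXK g) = 1 from hg, one_smul])))

/-- The group generated by `E_d` and an opposite member is an image of `SL₂(q)`. -/
theorem exists_sl2 {d x : G} (hd : d ∈ D) (hx : x ∈ D) (o : Op d x) :
    ∃ (F : Type) (_ : Field F) (_ : Fintype F), Fintype.card F = Nat.card (closure (Eb D d)) ∧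
      ∃ ψ : Matrix.SpecialLinearGroup (Fin 2) F →* G, ψ.range = closure (Eb D d ∪ {x}) ∧
        ψ.ker = center _ ∧ ψ sl2W = x ∧ ∀ g, g ∈ closure (Eb D d) ↔ ∃ c, ψ (sl2U c) = g := by
  haveI : Fact (Nat.Prime 2) := ⟨Nat.prime_two⟩
  obtain ⟨X, eX⟩ : ∃ X, closure (Eb D d ∪ {x}) = X := ⟨_, rfl⟩
  have hxX : x ∈ X := eX ▸ subset_closure (Or.inr rfl)
  have mX : ∀ e ∈ Eb D d, e ∈ X := fun e he => eX ▸ subset_closure (Or.inl he)
  have md : d ∈ Eb D d := ⟨hd, SameC.refl D d⟩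
  obtain ⟨η, hη, c, hn, o'⟩ := h.exists_nbr hd hx o
  obtain ⟨Hb, _, _, f, Ω, _, _, a, Q, T, hH, hA, hL, surj, ker, k1, k2, k3⟩ :=
    h.exists_map hd hη hx c hn o o' eX hxX
  have gen := closure_preimage_eq_top eX hxX
  have c1 : ∀ g : X, f g = 1 → ∀ α ∈ Eb D d, Commute (g : G) α := by
    intro g hg α hα
    have m := h.rt.cj_mem h.top hα.1 g
    have s : SameC D d (g * α * g⁻¹) := by
      refine h.rt.sameC_of_le h.cls hd m fun e he c => Commute.symm ?_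
      by_cases n : SameC D d e
      · exact k3 g hg α hα e (Or.inl ⟨he, n⟩)
      by_cases c' : Commute e x
      · have : (g : G) * α * g⁻¹ ∈ closure (Eb D d ∪ {x}) :=
          eX.ge (mul_mem (mul_mem g.2 (mX α hα)) (inv_mem g.2))
        refine (commute_of_mem_closure this ?_).symm
        rintro t (ht | rfl)
        · exact (ht.2 e he).1 c
        · exact c'.symm
      obtain ⟨_, _, _, f', _, _, _, _, _, _, -, -, -, -, ker', -, -, k⟩ :=
        h.exists_map hd he hx c n o (h.rt.op_of_nc h.dg he hx c') eX hxX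
      exact k g (by rw [← MonoidHom.mem_ker, ker', ← ker]; exact hg) α hα e
        (Or.inr ⟨he, SameC.refl D e⟩)
    refine commute_of_cj_eq (by_contra fun hne => ?_)
    have l := h.rt.ln_third (h.ln_of_sameC m hα.1 (s.symm.trans hα.2) hne)
    refine (k2 (g * ⟨α, mX α hα⟩ * g⁻¹ * ⟨α, mX α hα⟩)
      ⟨l.r, s.trans (h.rt.sameC_of_ln h.dg l)⟩).2 ?_
    rw [map_mul, map_mul, map_mul, map_inv, hg, one_mul, inv_one, mul_one]
    exact hA _ (k2 _ hα).1
  have c2 : ∀ g : X, f g = 1 → ∀ y, Commute g y := by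
    intro g hg
    refine commute_of_gens gen ?_
    rintro t (ht | rfl)
    · exact commute_coe.1 (c1 g hg t ht)
    · obtain ⟨r, hr, m, e⟩ := h.rt.exists_swap hd hx o
      have hrX := mem_of_mem_closure_pair (mX d md) hxX m
      have sr := h.rt.sq r hr
      have := commute_cji (c1 (⟨r, hrX⟩ * g * ⟨r, hrX⟩) (by
        rw [map_mul, map_mul, hg, mul_one, ← map_mul, show (⟨r, hrX⟩ * ⟨r, hrX⟩ : X) = 1 from
          Subtype.ext sr, map_one]) d md) sr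
      rw [e] at this
      refine commute_coe.1 ?_
      simpa only [Subgroup.coe_mul, cji_cji sr] using this
  have c3 : ∀ y : X, f y ∈ Q → ∃ e z : X, (e : G) ∈ closure (Eb D d) ∧ f z = 1 ∧ y = e * z := by
    intro y hy
    by_cases h1 : f y = 1
    · exact ⟨1, y, one_mem _, h1, (one_mul y).symm⟩
    · obtain ⟨e, he, e1⟩ := k1 _ hy h1
      exact ⟨e, e⁻¹ * y, subset_closure he, by simp [e1], by group⟩
  have c4 : ∀ a ∈ closure (Eb D d), ∀ b ∈ closure (Eb D d), Commute a b := fun a ha b hb =>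
    commute_of_mem_closure ha fun s hs => (commute_of_mem_closure hb fun t ht =>
      h.commute_Eb t ht s hs).symm
  have inj : Function.Injective f := by
    obtain ⟨P⟩ : Nonempty (Sylow 2 X) := inferInstance
    have hP : IsMulCommutative P := by
      obtain ⟨g, hg⟩ := exists_conj_le_Q hH.setup (P.2.map f)
      obtain ⟨g, rfl⟩ := surj g
      refine ⟨⟨fun u v => Subtype.ext ((commute_cj_iff g).1 ?_)⟩⟩
      obtain ⟨e, z, he, hz, e1⟩ := c3 (g * u * g⁻¹) (by simpa using hg _ ⟨u, u.2, rfl⟩)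
      obtain ⟨e', z', he', hz', e2⟩ := c3 (g * v * g⁻¹) (by simpa using hg _ ⟨v, v.2, rfl⟩)
      rw [e1, e2]
      exact ((commute_coe.1 (c4 _ he _ he')).mul_right (c2 z' hz' e).symm).mul_left (c2 z hz _)
    have hX : X ≤ closure D := h.top ▸ le_top
    have mC : ∀ s : X, (s : G) ∈ Eb D d → s ∈ clsIn X x := fun s hs =>
      clsIn_of_op h.rt hx hs.1 hxX (h.rt.op_of_sameC h.dg hd hs.1 hx hs.2 o)
    have top : closure (clsIn X x) = ⊤ := by
      rw [eq_top_iff, ← gen]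
      exact closure_mono (Set.union_subset mC (Set.singleton_subset_iff.2 ⟨1, one_mem _, by simp⟩))
    obtain ⟨w, l⟩ := h.ln d hd
    have m1 : w ∈ Eb D d := ⟨l.r, h.rt.sameC_of_ln h.dg l⟩
    have hp : _root_.commutator X = ⊤ := by
      refine (rt_clsIn h.rt h.dg hX hx).commutator_eq_top top ?_ (a := ⟨d, mX d md⟩)
        (w := ⟨w, mX w m1⟩) ⟨mC _ md, mC _ m1, fun e => l.ne (congrArg Subtype.val e),
          commute_coe.1 l.c, mC _ ⟨l.m, h.rt.sameC_of_ln h.dg (h.rt.ln_third l)⟩⟩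
      rintro a ⟨g, hg, e⟩ c ⟨k, hk, e'⟩
      refine ⟨⟨k, hk⟩ * ⟨g, hg⟩⁻¹, top ▸ mem_top _, Subtype.ext ?_⟩
      push_cast
      rw [e, e']; group
    have := Trans.not_dvd_card_center_inf_commutator P hP
    rw [hp, inf_top_eq] at this
    rw [injective_iff_map_eq_one]
    intro g hg
    refine eq_one_of_odd_mem (pCore_isPGroup 2 X) (ker ▸ hg) (Nat.not_even_iff_odd.1 fun e => this ?_)
    exact (even_iff_two_dvd.1 e).trans
      (orderOf_dvd_natCard _ (mem_center_iff.2 fun y => (c2 g hg y).symm))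
  obtain ⟨F, i1, i2, hF, ψ, s1, s2, s3, s4⟩ := RI.exists_sl2 hH hA hL
  let e := MulEquiv.ofBijective f ⟨inj, surj⟩
  have e0 : ∀ y : X, (y : G) ∈ closure (Eb D d) ↔ f y ∈ Q := fun y => by
    refine ⟨fun hy => ?_, fun hy => ?_⟩
    · rcases h.mem_closure_Eb.1 hy with hy | hy
      · exact (k2 y hy).1
      · rw [show y = 1 from Subtype.ext hy, map_one]; exact one_mem _
    · obtain ⟨e, z, he, hz, rfl⟩ := c3 y hy
      rwa [inj (hz.trans (map_one f).symm), mul_one]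
  have le : closure (Eb D d) ≤ X := (closure_le _).2 mX
  refine ⟨F, i1, i2, hF.trans (Nat.card_congr (Equiv.ofBijective
    (fun y : closure (Eb D d) => (⟨f ⟨y, le y.2⟩, (e0 _).1 y.2⟩ : Q)) ⟨fun y y' k => ?_, fun q => ?_⟩)).symm,
    X.subtype.comp (e.symm.toMonoidHom.comp ψ), ?_, ?_, ?_, fun g => ⟨fun hg => ?_, ?_⟩⟩
  · exact Subtype.ext (congrArg (Subtype.val : X → G) (inj (congrArg Subtype.val k)))
  · obtain ⟨y, hy⟩ := surj q
    exact ⟨⟨y, (e0 y).2 (hy ▸ q.2)⟩, Subtype.ext hy⟩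
  · rw [MonoidHom.range_comp, MonoidHom.range_eq_top.2 (e.symm.surjective.comp s1), eX,
      ← MonoidHom.range_eq_map, range_subtype]
  · rw [← s2]
    ext g
    simp [MonoidHom.mem_ker]
  · exact congrArg Subtype.val (e.symm_apply_eq.2 s3)
  · obtain ⟨c, hc⟩ := (s4 _).1 ((e0 ⟨g, le hg⟩).1 hg)
    exact ⟨c, congrArg Subtype.val (e.symm_apply_eq.2 hc)⟩
  · rintro ⟨c, rfl⟩
    exact (e0 _).2 ((s4 _).2 ⟨c, (e.apply_symm_apply _).symm⟩)

end Od

end Cfsg.Lib.Class.RI
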