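import Mathlib
import Cfsg.Agent.Class.QuadSL2
import Cfsg.Agent.Class.RootTransfer

/-!
The root subgroups of a group generated by quadratic elements form a set of abstract root subgroups.
-/

set_option autoImplicit false

namespace Cfsg.Lib.Class

variable {k : Type*} [Field k] {M : Type*} [AddCommGroup M] [Module k M]
variable {G : Subgroup (LinearMap.GeneralLinearGroup k M)} [FiniteDimensional k M]

theorem isRankOnePair_EG_iff (hk2 : ringChar k ≠ 2) (hk3 : Nat.card k ≠ 3) {s t : Module.End k M}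
    (hs : s ∈ QD G) (ht : t ∈ QD G) : IsRankOnePair (EG G t) (EG G s) ↔ t * s * t ≠ 0 := by
  refine ⟨fun h h0 => ?_, isRankOnePair_EG hk2 hk3 hs ht⟩
  have h3 := augSpan_sup_EG_cube hk2 hk3 ht hs (nonopp_symm hk2 hk3 hs ht.1 h0)
  exact not_isRankOnePair_of_central (EG_ne_bot ht.1 ht.2.1) (isMulCommutative_EG s)
    (fun c hc x hx => mul_comm_of_mem_sq h3 (augSpan_commutator_le h3 (sub_one_mem_augSpan
      (Subgroup.commutator_mono le_sup_left le_sup_right hc))) hx) h

theorem EG_trichotomy (hk2 : ringChar k ≠ 2) (hk3 : Nat.card k ≠ 3) (hG : NU G) {s t : Module.End k M}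
    (hs : s ∈ QD G) (ht : t ∈ QD G) {S : Set (Subgroup (LinearMap.GeneralLinearGroup k M))}
    (hS : t * s * t = 0 → s * t - t * s ≠ 0 → EG G (s * t - t * s) ∈ S) :
    ⁅EG G s, EG G t⁆ = ⊥ ∨ IsRankOnePair (EG G s) (EG G t) ∨ RootCommutatorCase S (EG G s) (EG G t) := by
  by_cases h : t * s * t = 0
  · by_cases hne : s * t - t * s = 0
    · exact Or.inl (commutator_EG_eq_bot hk2 hk3 hs ht hne)
    · exact Or.inr (Or.inr (rootCommutatorCase_EG hk2 hk3 hG hs ht h hne (hS h hne)))
  · exact Or.inr (Or.inl (RankOnePair_symm (isRankOnePair_EG hk2 hk3 hs ht h)))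

theorem biSup_quadraticRootSubgroups_le : (⨆ B ∈ quadraticRootSubgroups G, B) ≤ G :=
  iSup₂_le fun B hB => by
    obtain ⟨t, -, rfl⟩ := mem_quadraticRootSubgroups_iff.1 hB
    exact EG_le t

theorem conjBy_mem_quadraticRootSubgroups {A : Subgroup (LinearMap.GeneralLinearGroup k M)}
    (hA : A ∈ quadraticRootSubgroups G) {g : LinearMap.GeneralLinearGroup k M} (hg : g ∈ G) :
    conjBy A g ∈ quadraticRootSubgroups G := by
  obtain ⟨t, ht, rfl⟩ := mem_quadraticRootSubgroups_iff.1 hA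
  rw [conjBy_EG t hg]
  exact EG_mem_quadraticRootSubgroups (QD.conj ht hg)

theorem isRootSubgroupSet_quadratic (hk2 : ringChar k ≠ 2) (hk3 : Nat.card k ≠ 3) (hG : NU G) :
    IsRootSubgroupSet ((fun A : Subgroup (LinearMap.GeneralLinearGroup k M) =>
      A.subgroupOf (⨆ B ∈ quadraticRootSubgroups G, B)) '' quadraticRootSubgroups G) := by
  refine isRootSubgroupSet_subgroupOf rfl ?_ ?_ (fun A hA g hg =>
    conjBy_mem_quadraticRootSubgroups hA (biSup_quadraticRootSubgroups_le hg)) ?_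
  · intro A hA
    obtain ⟨t, -, rfl⟩ := mem_quadraticRootSubgroups_iff.1 hA
    exact isMulCommutative_EG t
  · intro A hA
    obtain ⟨t, ht, rfl⟩ := mem_quadraticRootSubgroups_iff.1 hA
    exact EG_ne_bot ht.1 ht.2.1
  · intro A hA B hB
    obtain ⟨s, hs, rfl⟩ := mem_quadraticRootSubgroups_iff.1 hA
    obtain ⟨t, ht, rfl⟩ := mem_quadraticRootSubgroups_iff.1 hB
    exact EG_trichotomy hk2 hk3 hG hs ht fun h hne =>
      EG_mem_quadraticRootSubgroups (comm_struct hk2 hk3 hs ht h hne).1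

end Cfsg.Lib.Class
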