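import Mathlib
import Cfsg.Agent.Class.QuadSigma
import Cfsg.Agent.Trans.Quasisimple

/-!
The connected components of the opposition graph on the root subgroups of a group generated by quadratic elements
generate commuting quasisimple groups.
-/

set_option autoImplicit false

namespace Cfsg.Lib.Class

open Matrix
open scoped MatrixGroups commutatorElement

variable {k : Type*} [Field k] {M : Type*} [AddCommGroup M] [Module k M]

theorem nu_of_normal [FiniteDimensional k M] {G H : Subgroup (LinearMap.GeneralLinearGroup k M)}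
    (hG : NU G) (hH : H ≤ G) (hn : ∀ g ∈ G, ∀ h ∈ H, g * h * g⁻¹ ∈ H) : NU H := by
  intro U hU hUn hu
  let W : Set (Subgroup (LinearMap.GeneralLinearGroup k M)) := {A | ∃ g ∈ G, A = conjBy U g}
  have hWH : ∀ A ∈ W, A ≤ H := by
    rintro _ ⟨g, hg, rfl⟩ _ ⟨u, hu, rfl⟩
    exact hn g hg u (hU hu)
  have hconj : ∀ A ∈ W, ∀ g ∈ G, conjBy A g ∈ W := by
    rintro _ ⟨g, hg, rfl⟩ g' hg'
    exact ⟨g' * g, G.mul_mem hg' hg, conjBy_conjBy _ _ _⟩
  have hW := isUnipotentOn_biSup (fun A hA => (hWH A hA).trans hH) (by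
    rintro A ⟨g, hg, rfl⟩ B ⟨g', hg', rfl⟩
    refine isUnipotentOn_sup (isUnipotentOn_conjBy hu g) (isUnipotentOn_conjBy hu g') ?_
    intro p hp q hq
    rw [mem_conjBy] at hq ⊢
    have := hUn _ (hn _ (G.inv_mem hg') p (hWH _ ⟨g, hg, rfl⟩ hp)) _ hq
    convert this using 1
    group) hconj
  have := hG _ (iSup₂_le fun A hA => (hWH A hA).trans hH) (fun g hg n hn =>
    conj_mem_biSup_of_forall (fun B hB => hconj B hB g hg) hn) hW
  rw [eq_bot_iff, ← this]
  exact le_iSup₂_of_le (f := fun B (_ : B ∈ W) => B) U ⟨1, G.one_mem, (conjBy_one U).symm⟩ le_rfl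

/-- Reachability in the opposition graph on `QD G`. -/
def Conn (G : Subgroup (LinearMap.GeneralLinearGroup k M)) : Module.End k M → Module.End k M → Prop :=
  Relation.ReflTransGen fun a b => a ∈ QD G ∧ b ∈ QD G ∧ b * a * b ≠ 0

/-- The root subgroups in the component of `t`. -/
def partQ (G : Subgroup (LinearMap.GeneralLinearGroup k M)) (t : Module.End k M) :
    Set (Subgroup (LinearMap.GeneralLinearGroup k M)) := {A | ∃ s, Conn G t s ∧ A = EG G s}

/-- The group generated by the root subgroups in the component of `t`. -/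
def GQ (G : Subgroup (LinearMap.GeneralLinearGroup k M)) (t : Module.End k M) :
    Subgroup (LinearMap.GeneralLinearGroup k M) := ⨆ A ∈ partQ G t, A

variable {G : Subgroup (LinearMap.GeneralLinearGroup k M)}

theorem Conn.refl (t : Module.End k M) : Conn G t t := Relation.ReflTransGen.refl

theorem Conn.trans {a b c : Module.End k M} (h : Conn G a b) (h' : Conn G b c) : Conn G a c :=
  Relation.ReflTransGen.trans h h'

theorem Conn.qd {a b : Module.End k M} (h : Conn G a b) (ha : a ∈ QD G) : b ∈ QD G := by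
  induction h with
  | refl => exact ha
  | tail _ h _ => exact h.2.1

theorem conn_of_opp {a b : Module.End k M} (ha : a ∈ QD G) (hb : b ∈ QD G) (h : b * a * b ≠ 0) :
    Conn G a b := Relation.ReflTransGen.single ⟨ha, hb, h⟩

theorem EG_le_GQ {t s : Module.End k M} (h : Conn G t s) : EG G s ≤ GQ G t :=
  le_iSup₂_of_le (f := fun B (_ : B ∈ partQ G t) => B) _ ⟨s, h, rfl⟩ le_rfl

theorem GQ_le_iff {t : Module.End k M} {H : Subgroup (LinearMap.GeneralLinearGroup k M)} :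
    GQ G t ≤ H ↔ ∀ s, Conn G t s → EG G s ≤ H :=
  ⟨fun h _ hs => (EG_le_GQ hs).trans h, fun h => iSup₂_le (by rintro _ ⟨s, hs, rfl⟩; exact h s hs)⟩

theorem GQ_le (t : Module.End k M) : GQ G t ≤ G := GQ_le_iff.2 fun s _ => EG_le s

variable [FiniteDimensional k M]

theorem Conn.symm (hk2 : ringChar k ≠ 2) (hk3 : Nat.card k ≠ 3) {a b : Module.End k M}
    (h : Conn G a b) : Conn G b a := by
  induction h with
  | refl => exact Conn.refl _
  | tail _ h ih => exact (conn_of_opp h.2.1 h.1 (opp_symm hk2 hk3 h.1.1 h.2.1 h.2.2)).trans ih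

theorem partQ_eq_of_conn (hk2 : ringChar k ≠ 2) (hk3 : Nat.card k ≠ 3) {a b : Module.End k M}
    (h : Conn G a b) : partQ G a = partQ G b := by
  ext A
  exact ⟨fun ⟨s, hs, e⟩ => ⟨s, (h.symm hk2 hk3).trans hs, e⟩, fun ⟨s, hs, e⟩ => ⟨s, h.trans hs, e⟩⟩

theorem GQ_eq_of_conn (hk2 : ringChar k ≠ 2) (hk3 : Nat.card k ≠ 3) {a b : Module.End k M}
    (h : Conn G a b) : GQ G a = GQ G b := by rw [GQ, GQ, partQ_eq_of_conn hk2 hk3 h]

theorem conn_of_mem_Esp (hk2 : ringChar k ≠ 2) (hk3 : Nat.card k ≠ 3) (hG : NU G)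
    {t x : Module.End k M} (ht : t ∈ QD G) (hx : x ∈ Esp G t) (h0 : x ≠ 0) : Conn G t x := by
  obtain ⟨r, hr, h⟩ := exists_opp hk2 hk3 hG ht
  exact (conn_of_opp ht hr h).trans ((conn_of_opp (Esp.qd ht hx h0) hr
    (opp_of_mem_Esp hk2 hk3 ht hr h hx h0 (self_mem_Esp hr.1) hr.2.1)).symm hk2 hk3)

theorem conn_of_EG_eq (hk2 : ringChar k ≠ 2) (hk3 : Nat.card k ≠ 3) (hG : NU G)
    {t s : Module.End k M} (ht : t ∈ QD G) (hs : s ∈ QD G) (h : EG G t = EG G s) : Conn G t s :=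
  conn_of_mem_Esp hk2 hk3 hG ht (by rw [EG_eq_iff.1 h]; exact self_mem_Esp hs.1) hs.2.1

theorem conn_add (hk2 : ringChar k ≠ 2) (hk3 : Nat.card k ≠ 3) (hG : NU G) {t u : Module.End k M}
    (h : ∀ c : k, t + c • u ∈ QD G) : Conn G t (t + u) := by
  have h0 : t ∈ QD G := by simpa using h 0
  have h1 : t + u ∈ QD G := by simpa using h 1
  obtain ⟨r, hr, hr'⟩ := exists_opp hk2 hk3 hG h0
  obtain ⟨q, hq, hq'⟩ := exists_opp hk2 hk3 hG h1
  have key : ∀ r : Module.End k M, ∀ c c' : k, c ≠ c' → r * (t + c • u) * r = 0 →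
      r * (t + c' • u) * r = 0 → r * t * r = 0 ∧ r * (t + u) * r = 0 := by
    intro r c c' hc e e'
    rw [mul_add, add_mul, mul_smul_comm, smul_mul_assoc] at e e'
    have : (c - c') • (r * u * r) = 0 := by
      rw [sub_smul, eq_neg_of_add_eq_zero_right e, eq_neg_of_add_eq_zero_right e', sub_self]
    have hu := (smul_eq_zero.1 this).resolve_left (sub_ne_zero.2 hc)
    rw [hu, smul_zero, add_zero] at e
    exact ⟨e, by rw [mul_add, add_mul, e, hu, add_zero]⟩
  have fin : ∀ c : k, r * (t + c • u) * r ≠ 0 → q * (t + c • u) * q ≠ 0 → Conn G t (t + u) :=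
    fun c a b => ((conn_of_opp h0 hr hr').trans ((conn_of_opp (h c) hr a).symm hk2 hk3)).trans
      ((conn_of_opp (h c) hq b).trans ((conn_of_opp h1 hq hq').symm hk2 hk3))
  have h2 : (2 : k) ≠ 0 := two_ne_zero_of_ringChar_ne_two hk2
  have n1 : (1 : k) ≠ -1 := fun e => h2 (by linear_combination e)
  by_cases a0 : q * (t + (0 : k) • u) * q = 0
  · by_cases a1 : r * (t + (1 : k) • u) * r = 0
    · exact fin (-1) (fun e => hr' (key r _ _ n1 a1 e).1)
        (fun e => hq' (key q _ _ (by simp) a0 e).2)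
    · exact fin 1 a1 (by simpa using hq')
  · exact fin 0 (by simpa using hr') a0

theorem conn_conj' (hk2 : ringChar k ≠ 2) (hk3 : Nat.card k ≠ 3) (hG : NU G) {s t : Module.End k M}
    (hs : s ∈ QD G) (ht : t ∈ QD G) : Conn G t ((1 + s) * t * (1 - s)) := by
  by_cases h : s * t * s = 0
  · rw [conj_eq_add_comm h]
    refine conn_add hk2 hk3 hG fun c => ?_
    have := QD.conj' ht (QS.smul hs.1 c)
    rwa [conj_eq_add_comm (by simp [h]), smul_mul_assoc, mul_smul_comm, ← smul_sub] at this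
  · refine (conn_of_opp ht hs h).trans ((conn_of_opp (QD.conj' ht hs.1) hs ?_).symm hk2 hk3)
    have : s * ((1 + s) * t * (1 - s)) * s = s * t * s + s * s * t * s - s * t * (s * s) -
        s * s * t * (s * s) := by noncomm_ring
    rw [this, hs.1.1]
    simpa using h

theorem conn_conj (hk2 : ringChar k ≠ 2) (hk3 : Nat.card k ≠ 3) (hG : NU G)
    {g : LinearMap.GeneralLinearGroup k M} (hg : g ∈ ⨆ B ∈ quadraticRootSubgroups G, B)
    {t : Module.End k M} (ht : t ∈ QD G) :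
    Conn G t ((g : Module.End k M) * t * ((g⁻¹ : LinearMap.GeneralLinearGroup k M) : Module.End k M)) := by
  let K : Subgroup (LinearMap.GeneralLinearGroup k M) :=
    { carrier := {g | g ∈ G ∧ ∀ t ∈ QD G, Conn G t
        ((g : Module.End k M) * t * ((g⁻¹ : LinearMap.GeneralLinearGroup k M) : Module.End k M))}
      one_mem' := ⟨G.one_mem, fun t _ => by simpa using Conn.refl t⟩
      mul_mem' := by
        rintro a b ⟨ha, ha'⟩ ⟨hb, hb'⟩
        refine ⟨G.mul_mem ha hb, fun t ht => (hb' t ht).trans ?_⟩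
        have := ha' _ (QD.conj ht hb)
        simpa only [_root_.mul_inv_rev, Units.val_mul, mul_assoc] using this
      inv_mem' := by
        rintro a ⟨ha, ha'⟩
        refine ⟨G.inv_mem ha, fun t ht => ?_⟩
        have := (ha' _ (QD.conj ht (G.inv_mem ha))).symm hk2 hk3
        simpa only [inv_inv, mul_assoc, Units.mul_inv_cancel_left, Units.mul_inv, mul_one] using this }
  have : (⨆ B ∈ quadraticRootSubgroups G, B) ≤ K := by
    refine iSup₂_le fun B hB a ha => ?_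
    obtain ⟨s, hs, rfl⟩ := mem_quadraticRootSubgroups_iff.1 hB
    obtain ⟨x, hx, rfl⟩ := exists_eq_unitOf_of_mem_EG ha
    refine ⟨EG_le s ha, fun t ht => ?_⟩
    by_cases h0 : x = 0
    · simpa [h0] using Conn.refl t
    · exact conn_conj' hk2 hk3 hG (Esp.qd hs hx h0) ht
  exact (this hg).2 t ht

theorem conn_comm (hk2 : ringChar k ≠ 2) (hk3 : Nat.card k ≠ 3) (hG : NU G) {s t : Module.End k M}
    (hs : s ∈ QD G) (ht : t ∈ QD G) (h : t * s * t = 0) (hne : s * t - t * s ≠ 0) :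
    Conn G t (s * t - t * s) := by
  have hu := (comm_struct hk2 hk3 hs ht h hne).1
  obtain ⟨r, hr, hr'⟩ := exists_opp hk2 hk3 hG hu
  refine Conn.trans ?_ ((conn_of_opp hu hr hr').symm hk2 hk3)
  by_cases h1 : r * t * r = 0
  · refine (conn_conj' hk2 hk3 hG hs ht).trans (conn_of_opp (QD.conj' ht hs.1) hr ?_)
    rwa [conj_eq_add_comm (nonopp_symm hk2 hk3 hs ht.1 h), mul_add, add_mul, h1, zero_add]
  · exact conn_of_opp ht hr h1

theorem conn_of_comm_ne_zero (hk2 : ringChar k ≠ 2) (hk3 : Nat.card k ≠ 3) (hG : NU G)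
    {s t : Module.End k M} (hs : s ∈ QD G) (ht : t ∈ QD G) (hne : s * t - t * s ≠ 0) : Conn G s t := by
  by_cases h : t * s * t = 0
  · have h1 := conn_comm hk2 hk3 hG hs ht h hne
    have h2 := conn_comm hk2 hk3 hG ht hs (nonopp_symm hk2 hk3 hs ht.1 h)
      (by rwa [← neg_sub, neg_ne_zero])
    have hu := h1.qd ht
    refine h2.trans (Conn.trans ?_ (h1.symm hk2 hk3))
    rw [← neg_sub]
    exact (conn_of_mem_Esp hk2 hk3 hG hu (neg_mem (self_mem_Esp hu.1))
      (neg_ne_zero.2 hu.2.1)).symm hk2 hk3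
  · exact conn_of_opp hs ht h

theorem commutator_GQ_eq_bot (hk2 : ringChar k ≠ 2) (hk3 : Nat.card k ≠ 3) (hG : NU G)
    {s t : Module.End k M} (hs : s ∈ QD G) (ht : t ∈ QD G) (h : ¬ Conn G s t) :
    ⁅GQ G s, GQ G t⁆ = ⊥ := by
  rw [Subgroup.commutator_eq_bot_iff_le_centralizer, GQ_le_iff]
  intro a ha
  rw [Subgroup.le_centralizer_iff, GQ_le_iff]
  intro b hb
  rw [← Subgroup.commutator_eq_bot_iff_le_centralizer]
  refine commutator_EG_eq_bot hk2 hk3 (hb.qd ht) (ha.qd hs) ?_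
  by_contra hne
  exact h (ha.trans (((conn_of_comm_ne_zero hk2 hk3 hG (hb.qd ht) (ha.qd hs) hne).symm hk2 hk3).trans
    (hb.symm hk2 hk3)))

theorem finite_image_of_conn (hk2 : ringChar k ≠ 2) (hk3 : Nat.card k ≠ 3) (hG : NU G) {α : Type*}
    (F : Module.End k M → α) (hF : ∀ a b, Conn G a b → F a = F b) : (F '' QD G).Finite := by
  choose v hv hv' using fun i : F '' QD G => i.2
  have : LinearIndependent k v := by
    rw [linearIndependent_iff']
    intro S g hg i hi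
    obtain ⟨r, hr, hr'⟩ := exists_opp hk2 hk3 hG (hv i)
    have h1 : r * (∑ j ∈ S, g j • v j) * r = g i • (r * v i * r) := by
      rw [Finset.mul_sum, Finset.sum_mul, Finset.sum_eq_single i]
      · rw [mul_smul_comm, smul_mul_assoc]
      · intro j _ hj
        have : r * v j * r = 0 := by
          by_contra h0
          apply hj
          apply Subtype.ext
          rw [← hv' i, ← hv' j]
          exact hF _ _ ((conn_of_opp (hv j) hr h0).trans ((conn_of_opp (hv i) hr hr').symm hk2 hk3))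
        rw [mul_smul_comm, smul_mul_assoc, this, smul_zero]
      · exact fun h => absurd hi h
    rw [hg, mul_zero, zero_mul] at h1
    exact (smul_eq_zero.1 h1.symm).resolve_right hr'
  exact this.finite_of_isNoetherian

theorem exists_conn_reps (hk2 : ringChar k ≠ 2) (hk3 : Nat.card k ≠ 3) (hG : NU G) :
    ∃ (r : ℕ) (v : Fin r → Module.End k M), (∀ i, v i ∈ QD G) ∧ (∀ i j, i ≠ j → ¬ Conn G (v i) (v j)) ∧
      ∀ t ∈ QD G, ∃ i, Conn G (v i) t := by
  have hF : ∀ a b, Conn G a b → {s | Conn G a s} = {s | Conn G b s} := fun a b h =>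
    Set.ext fun s => ⟨fun h' => (h.symm hk2 hk3).trans h', fun h' => h.trans h'⟩
  have hfin := finite_image_of_conn hk2 hk3 hG (fun t => {s | Conn G t s}) hF
  haveI := hfin.to_subtype
  obtain ⟨r, ⟨e⟩⟩ := Finite.exists_equiv_fin ((fun t => {s | Conn G t s}) '' QD G)
  choose v hv hv' using fun i => (e.symm i).2
  refine ⟨r, v, hv, fun i j hij h => hij (e.symm.injective (Subtype.ext ?_)), fun t ht => ?_⟩
  · rw [← hv', ← hv']
    exact hF _ _ h
  · refine ⟨e ⟨_, t, ht, rfl⟩, ?_⟩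
    have := hv' (e ⟨_, t, ht, rfl⟩)
    rw [Equiv.symm_apply_apply] at this
    exact (Set.ext_iff.1 this t).2 (Conn.refl t)

theorem GQ_le_biSup {t : Module.End k M} (ht : t ∈ QD G) :
    GQ G t ≤ ⨆ B ∈ quadraticRootSubgroups G, B :=
  GQ_le_iff.2 fun _ hs => le_iSup₂_of_le (f := fun B (_ : B ∈ quadraticRootSubgroups G) => B) _
    (EG_mem_quadraticRootSubgroups (hs.qd ht)) le_rfl

theorem conjBy_mem_partQ (hk2 : ringChar k ≠ 2) (hk3 : Nat.card k ≠ 3) (hG : NU G)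
    {t : Module.End k M} (ht : t ∈ QD G) {A : Subgroup (LinearMap.GeneralLinearGroup k M)}
    (hA : A ∈ partQ G t) {g : LinearMap.GeneralLinearGroup k M}
    (hg : g ∈ ⨆ B ∈ quadraticRootSubgroups G, B) : conjBy A g ∈ partQ G t := by
  obtain ⟨s, hs, rfl⟩ := hA
  exact ⟨_, hs.trans (conn_conj hk2 hk3 hG hg (hs.qd ht)),
    conjBy_EG s (biSup_quadraticRootSubgroups_le hg)⟩

theorem conj_mem_GQ (hk2 : ringChar k ≠ 2) (hk3 : Nat.card k ≠ 3) (hG : NU G)
    {t : Module.End k M} (ht : t ∈ QD G) {g : LinearMap.GeneralLinearGroup k M}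
    (hg : g ∈ ⨆ B ∈ quadraticRootSubgroups G, B) {h : LinearMap.GeneralLinearGroup k M}
    (hh : h ∈ GQ G t) : g * h * g⁻¹ ∈ GQ G t :=
  conj_mem_biSup_of_forall (fun _ hB => conjBy_mem_partQ hk2 hk3 hG ht hB hg) hh

theorem nu_GQ (hk2 : ringChar k ≠ 2) (hk3 : Nat.card k ≠ 3) (hG : NU G)
    {t : Module.End k M} (ht : t ∈ QD G) : NU (GQ G t) := by
  have h0 : NU (⨆ B ∈ quadraticRootSubgroups G, B) :=
    nu_of_normal hG biSup_quadraticRootSubgroups_le fun g hg h hh =>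
      conj_mem_biSup_of_forall (fun B hB => conjBy_mem_quadraticRootSubgroups hB hg) hh
  exact nu_of_normal h0 (GQ_le_biSup ht) fun g hg h hh => conj_mem_GQ hk2 hk3 hG ht hg hh

theorem exists_conjBy_of_conn (hk2 : ringChar k ≠ 2) (hk3 : Nat.card k ≠ 3) {t a b : Module.End k M}
    (ha : Conn G t a) (h : Conn G a b) : ∃ g ∈ GQ G t, EG G b = conjBy (EG G a) g := by
  induction h with
  | refl => exact ⟨1, Subgroup.one_mem _, (conjBy_one _).symm⟩
  | @tail b c hb h ih =>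
    obtain ⟨g, hg, e⟩ := ih
    obtain ⟨g', hg', e'⟩ := exists_conjBy_EG_of_opp hk2 hk3 h.2.1 h.1
      (opp_symm hk2 hk3 h.1.1 h.2.1 h.2.2)
    have hb' : Conn G t b := ha.trans hb
    refine ⟨g' * g, Subgroup.mul_mem _ (sup_le (EG_le_GQ hb')
      (EG_le_GQ (hb'.trans (Relation.ReflTransGen.single h))) hg') hg, ?_⟩
    rw [e', e, conjBy_conjBy]

theorem isRootSubgroupClass_partQ (hk2 : ringChar k ≠ 2) (hk3 : Nat.card k ≠ 3) (hG : NU G)
    {t : Module.End k M} (ht : t ∈ QD G) :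
    IsRootSubgroupClass ((fun A : Subgroup (LinearMap.GeneralLinearGroup k M) =>
      A.subgroupOf (GQ G t)) '' partQ G t) := by
  refine ⟨isRootSubgroupSet_subgroupOf rfl ?_ ?_ (fun A hA g hg =>
    conjBy_mem_partQ hk2 hk3 hG ht hA (GQ_le_biSup ht hg)) ?_,
    isConjClassOfSubgroups_subgroupOf ⟨_, t, Conn.refl t, rfl⟩ ?_⟩
  · rintro _ ⟨s, -, rfl⟩
    exact isMulCommutative_EG s
  · rintro _ ⟨s, hs, rfl⟩
    exact EG_ne_bot (hs.qd ht).1 (hs.qd ht).2.1
  · rintro _ ⟨a, ha, rfl⟩ _ ⟨b, hb, rfl⟩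
    exact EG_trichotomy hk2 hk3 hG (ha.qd ht) (hb.qd ht) fun h hne =>
      ⟨_, hb.trans (conn_comm hk2 hk3 hG (ha.qd ht) (hb.qd ht) h hne), rfl⟩
  · rintro _ ⟨a, ha, rfl⟩ _ ⟨b, hb, rfl⟩
    exact exists_conjBy_of_conn hk2 hk3 ha ((ha.symm hk2 hk3).trans hb)

omit [FiniteDimensional k M] in
theorem slU_mem_commutator (hk2 : ringChar k ≠ 2) (hk3 : Nat.card k ≠ 3) (c : k) :
    slU c ∈ commutator SL(2, k) := by
  obtain ⟨l, hl0, hl⟩ := exists_sq_ne_one hk2 hk3
  let g : SL(2, k) := ⟨!![l, 0; 0, l⁻¹], by simp [Matrix.det_fin_two, hl0]⟩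
  have h1 := conj_slU g (by simp [g]) (c / (l ^ 2 - 1))
  have h2 : slU c = ⁅g, slU (c / (l ^ 2 - 1))⁆ := by
    rw [commutatorElement_def, h1, ← slU_neg, ← slU_add]
    congr 1
    have := sub_ne_zero.2 hl
    simp only [g, SpecialLinearGroup.coe_mk, of_apply, cons_val', cons_val_zero, cons_val_fin_one]
    field_simp
    ring
  rw [h2]
  exact Subgroup.commutator_mem_commutator (Subgroup.mem_top _) (Subgroup.mem_top _)

theorem EG_le_commutator_of_opp (hk2 : ringChar k ≠ 2) (hk3 : Nat.card k ≠ 3) {s t : Module.End k M}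
    (hs : s ∈ QD G) (ht : t ∈ QD G) (h : t * s * t ≠ 0) :
    EG G t ≤ ⁅EG G t ⊔ EG G s, EG G t ⊔ EG G s⁆ := by
  intro a ha
  obtain ⟨x, hx, rfl⟩ := exists_eq_unitOf_of_mem_EG ha
  by_cases h0 : x = 0
  · rw [(unitOf_eq_one_iff _).2 h0]; exact Subgroup.one_mem _
  obtain ⟨y, hy, -, h1, h2⟩ := exists_invpair hk2 hk3 hs (Esp.qd ht hx h0)
    (opp_of_mem_Esp hk2 hk3 hs ht h (self_mem_Esp hs.1) hs.2.1 hx h0)
  obtain ⟨φ, -, a, b⟩ := exists_sl2_hom_smul hx.1.1 hy.1.1 h1 h2 h0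
  have hr : φ.range ≤ EG G t ⊔ EG G s := by
    rw [MonoidHom.range_eq_map, ← upperUnipotentSL2_sup_lower, Subgroup.map_sup]
    refine sup_le_sup ?_ ?_
    · rintro _ ⟨g, hg, rfl⟩
      obtain ⟨c, rfl⟩ := mem_upperUnipotentSL2.1 hg
      rw [mem_EG, a, add_sub_cancel_left]
      exact Submodule.smul_mem _ _ hx
    · rintro _ ⟨g, hg, rfl⟩
      obtain ⟨c, rfl⟩ := mem_lowerUnipotentSL2.1 hg
      rw [mem_EG, b, add_sub_cancel_left]
      exact Submodule.smul_mem _ _ hy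
  refine Subgroup.commutator_mono hr hr ?_
  rw [← map_commutator_eq]
  exact ⟨slU 1, slU_mem_commutator hk2 hk3 1, Units.ext (by rw [a, one_smul, val_unitOf])⟩

theorem GQ_perfect (hk2 : ringChar k ≠ 2) (hk3 : Nat.card k ≠ 3) (hG : NU G)
    {t : Module.End k M} (ht : t ∈ QD G) : ⁅GQ G t, GQ G t⁆ = GQ G t := by
  refine le_antisymm (Subgroup.commutator_le_self _) (GQ_le_iff.2 fun s hs => ?_)
  obtain ⟨r, hr, h⟩ := exists_opp hk2 hk3 hG (hs.qd ht)
  have : EG G s ⊔ EG G r ≤ GQ G t :=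
    sup_le (EG_le_GQ hs) (EG_le_GQ (hs.trans (conn_of_opp (hs.qd ht) hr h)))
  exact (EG_le_commutator_of_opp hk2 hk3 hr (hs.qd ht) (opp_symm hk2 hk3 (hs.qd ht).1 hr h)).trans
    (Subgroup.commutator_mono this this)

omit [FiniteDimensional k M] in
theorem commutator_sup_le_of_normalizer {X : Type*} [Group X] {A N : Subgroup X}
    (hA : ∀ a ∈ A, ∀ b ∈ A, a * b = b * a) (hN : A ≤ Subgroup.normalizer (N : Set X)) :
    ⁅N ⊔ A, N ⊔ A⁆ ≤ N := by
  rw [Subgroup.commutator_le]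
  intro x hx y hy
  obtain ⟨n, hn, a, ha, rfl⟩ := (Trans.mem_sup_of_le_normalizer hN).1 hx
  obtain ⟨m, hm, b, hb, rfl⟩ := (Trans.mem_sup_of_le_normalizer hN).1 hy
  have e : ⁅n * a, m * b⁆ = n * (a * m * a⁻¹) * ((a * b * a⁻¹) * n⁻¹ * (a * b * a⁻¹)⁻¹) *
      (a * b * a⁻¹ * b⁻¹) * m⁻¹ := by
    rw [commutatorElement_def]; group
  rw [e, hA a ha b hb, mul_inv_cancel_right, mul_inv_cancel, mul_one]
  exact N.mul_mem (N.mul_mem (N.mul_mem hn ((Subgroup.mem_normalizer_iff.1 (hN ha) m).1 hm))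
    ((Subgroup.mem_normalizer_iff.1 (hN hb) _).1 (N.inv_mem hn))) (N.inv_mem hm)

theorem isQuasisimple_GQ (hk2 : ringChar k ≠ 2) (hk3 : Nat.card k ≠ 3) (hG : NU G)
    {t : Module.End k M} (ht : t ∈ QD G) : IsQuasisimple (GQ G t) := by
  refine Trans.isQuasisimple_of_forall_le (GQ_perfect hk2 hk3 hG ht)
    (fun h => EG_ne_bot ht.1 ht.2.1 (eq_bot_iff.2 (h ▸ EG_le_GQ (Conn.refl t)))) fun N hN hn => ?_
  have hn' : ∀ g ∈ GQ G t, ∀ n ∈ N, g * n * g⁻¹ ∈ N := fun g hg n h =>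
    (Subgroup.mem_normalizer_iff.1 (hn hg) n).1 h
  by_cases hopp : ∃ s, Conn G t s ∧ ∃ n ∈ N, s * ((n : Module.End k M) * s *
      ((n⁻¹ : LinearMap.GeneralLinearGroup k M) : Module.End k M)) * s ≠ 0
  · left
    obtain ⟨s, hs, n, hnN, h⟩ := hopp
    have hnG : n ∈ G := GQ_le t (hN hnN)
    have h1 := EG_le_commutator_of_opp hk2 hk3 (QD.conj (hs.qd ht) hnG) (hs.qd ht) h
    have h2 : EG G s ⊔ EG G ((n : Module.End k M) * s *
        ((n⁻¹ : LinearMap.GeneralLinearGroup k M) : Module.End k M)) ≤ N ⊔ EG G s := by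
      refine sup_le le_sup_right ?_
      rw [← conjBy_EG s hnG]
      rintro _ ⟨a, ha, rfl⟩
      exact Subgroup.mul_mem _ (Subgroup.mul_mem _ (Subgroup.mem_sup_left hnN)
        (Subgroup.mem_sup_right ha)) (Subgroup.mem_sup_left (N.inv_mem hnN))
    have h3 : EG G s ≤ N := h1.trans ((Subgroup.commutator_mono h2 h2).trans
      (commutator_sup_le_of_normalizer (fun a ha b hb => EG_mul_comm ha hb) ((EG_le_GQ hs).trans hn)))
    refine le_antisymm hN (GQ_le_iff.2 fun s' hs' => ?_)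
    obtain ⟨g, hg, e⟩ := exists_conjBy_of_conn hk2 hk3 hs ((hs.symm hk2 hk3).trans hs')
    rw [e]
    rintro _ ⟨a, ha, rfl⟩
    exact hn' g hg a (h3 ha)
  right
  push Not at hopp
  have hNG : N ≤ G := hN.trans (GQ_le t)
  have hu : ∀ s, Conn G t s → IsUnipotentOn ⁅N, EG G s⁆ := by
    intro s hs
    let W : Set (Subgroup (LinearMap.GeneralLinearGroup k M)) := {A | ∃ n ∈ N, A = conjBy (EG G s) n}
    have hW := isUnipotentOn_biSup (G := N ⊔ EG G s) (W := W) (by
      rintro _ ⟨n, hn, rfl⟩ _ ⟨a, ha, rfl⟩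
      exact Subgroup.mul_mem _ (Subgroup.mul_mem _ (Subgroup.mem_sup_left hn)
        (Subgroup.mem_sup_right ha)) (Subgroup.mem_sup_left (N.inv_mem hn))) (by
      rintro _ ⟨n, hn, rfl⟩ _ ⟨m, hm, rfl⟩
      have h1 := isUnipotentOn_conjBy (isUnipotentOn_sup_EG hk2 hk3
        (QD.conj (hs.qd ht) (hNG (N.mul_mem (N.inv_mem hm) hn))) (hs.qd ht)
        (hopp s hs _ (N.mul_mem (N.inv_mem hm) hn))) m
      rwa [← conjBy_EG s (hNG (N.mul_mem (N.inv_mem hm) hn)), conjBy, Subgroup.map_sup,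
        ← conjBy, ← conjBy, conjBy_conjBy, mul_inv_cancel_left] at h1) (by
      rintro _ ⟨n, hnN, rfl⟩ g hg
      obtain ⟨m, hm, a, ha, rfl⟩ := (Trans.mem_sup_of_le_normalizer ((EG_le_GQ hs).trans hn)).1 hg
      refine ⟨m * (a * n * a⁻¹), N.mul_mem hm (hn' a (EG_le_GQ hs ha) n hnN), ?_⟩
      rw [conjBy_conjBy, show m * a * n = m * (a * n * a⁻¹) * a by group, ← conjBy_conjBy,
        conjBy_eq_of_mem ha])
    refine isUnipotentOn_mono (Subgroup.commutator_le.2 fun n hn a ha => ?_) hW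
    rw [commutatorElement_def]
    refine Subgroup.mul_mem _ (le_iSup₂_of_le (f := fun B (_ : B ∈ W) => B) _ ⟨n, hn, rfl⟩ le_rfl
      (conj_mem_conjBy ha n)) (Subgroup.inv_mem _ (le_iSup₂_of_le (f := fun B (_ : B ∈ W) => B) _
        ⟨1, N.one_mem, rfl⟩ le_rfl (by rwa [conjBy_one])))
  let W : Set (Subgroup (LinearMap.GeneralLinearGroup k M)) := {A | ∃ s, Conn G t s ∧ A = ⁅N, EG G s⁆}
  have hWN : ∀ A ∈ W, A ≤ N := by
    rintro _ ⟨s, hs, rfl⟩
    refine Subgroup.commutator_le.2 fun n hnN a ha => ?_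
    rw [commutatorElement_def, mul_assoc, mul_assoc, ← mul_assoc a]
    exact N.mul_mem hnN (hn' a (EG_le_GQ hs ha) _ (N.inv_mem hnN))
  have hconj : ∀ A ∈ W, ∀ g ∈ GQ G t, conjBy A g ∈ W := by
    rintro _ ⟨s, hs, rfl⟩ g hg
    refine ⟨_, hs.trans (conn_conj hk2 hk3 hG (GQ_le_biSup ht hg) (hs.qd ht)), ?_⟩
    rw [← conjBy_EG s (GQ_le t hg), conjBy, Subgroup.map_commutator, ← conjBy,
      conjBy_eq_iff_mem_normalizer.2 (hn hg)]
  have hW := isUnipotentOn_biSup (fun A hA => (hWN A hA).trans hN) (by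
    rintro A ⟨a, ha, rfl⟩ B ⟨b, hb, rfl⟩
    refine isUnipotentOn_sup (hu a ha) (hu b hb) fun p hp q hq => ?_
    exact (Subgroup.mem_normalizer_iff.1 (Subgroup.normalizer_commutator_ge_left _ _
      (hWN _ ⟨a, ha, rfl⟩ hp)) q).1 hq) hconj
  have := nu_GQ hk2 hk3 hG ht _ (iSup₂_le fun A hA => (hWN A hA).trans hN) (fun g hg n hn =>
    conj_mem_biSup_of_forall (fun B hB => hconj B hB g hg) hn) hW
  rw [Subgroup.le_centralizer_iff, GQ_le_iff]
  intro s hs
  rw [Subgroup.le_centralizer_iff, ← Subgroup.commutator_eq_bot_iff_le_centralizer, eq_bot_iff, ← this]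
  exact le_iSup₂_of_le (f := fun B (_ : B ∈ W) => B) _ ⟨s, hs, rfl⟩ le_rfl

end Cfsg.Lib.Class
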