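import Mathlib
import Cfsg.Agent.Class.QuadComp

/-!
The structure of a group generated by quadratic elements: a central product of quasisimple groups.
-/

set_option autoImplicit false

namespace Cfsg.Lib.Class

open Polynomial

variable {k : Type*} [Field k] {M : Type*} [AddCommGroup M] [Module k M]
variable {G : Subgroup (LinearMap.GeneralLinearGroup k M)}

theorem mul_mul_mem_QS (h2 : (2 : k) ≠ 0) {s t : Module.End k M} (hs : s ∈ QS G) (ht : t ∈ QS G)
    (h : t * s * t = 0) : s * t * s ∈ QS G := by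
  have := orb_step_two h2 hs ht orb_one_one (by rw [mul_one, aeval_X, zz_mul_right ht.1, h])
  rw [one_pow, sub_self, ev_aeval_s, mul_one, map_neg, aeval_X, neg_mul, zz_mul_left hs.1] at this
  simpa using QS.neg this

variable [FiniteDimensional k M]

theorem comm_eq_zero_of_forall_nonopp (hk2 : ringChar k ≠ 2) (hk3 : Nat.card k ≠ 3) (hG : NU G)
    {s : Module.End k M} (hs : s ∈ QS G) (h : ∀ w ∈ QD G, w * s * w = 0) {t : Module.End k M}
    (ht : t ∈ QD G) : s * t - t * s = 0 := by
  have h2 := two_ne_zero_of_ringChar_ne_two hk2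
  have hinv : ∀ x : Module.End k M, (∀ w ∈ QD G, w * x * w = 0) → ∀ v ∈ QS G,
      ∀ w ∈ QD G, w * ((1 + v) * x * (1 - v)) * w = 0 := by
    intro x hx v hv w hw
    have h1 := hx _ (QD.conj' hw (QS.neg hv))
    have e : (1 + v) * (1 + -v) = 1 := by rw [add_mul, mul_add, mul_add]; simp [hv.1]
    have e' : (1 - -v) * (1 - v) = 1 := by rw [sub_mul, mul_sub, mul_sub]; simp [hv.1]
    calc _ = ((1 + v) * (1 + -v)) * w * ((1 + v) * x * (1 - v)) * w * ((1 - -v) * (1 - v)) := by
          rw [e, e', one_mul, mul_one]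
      _ = (1 + v) * ((1 + -v) * w * (1 - -v) * x * ((1 + -v) * w * (1 - -v))) * (1 - v) := by
          simp only [mul_assoc, sub_neg_eq_add, ← sub_eq_add_neg]
      _ = 0 := by rw [h1, mul_zero, zero_mul]
  have hzero : ∀ x ∈ QS G, rk x ≤ rk t → (∀ w ∈ QD G, w * x * w = 0) → x = 0 := by
    intro x hx hrk hx'
    by_contra h0
    obtain ⟨r, hr, hr'⟩ := exists_opp hk2 hk3 hG (QD.of_rk_le ht hx h0 hrk)
    exact hr' (hx' r hr)
  have hu : ∀ w ∈ QD G, w * (s * t - t * s) * w = 0 := by
    intro w hw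
    have h1 := hinv s h t ht.1 w hw
    rw [conj_eq_add_comm (h t ht), mul_add, add_mul, h w hw, zero_add, ← neg_sub, mul_neg, neg_mul,
      neg_eq_zero] at h1
    exact h1
  have hsts : s * t * s = 0 := by
    refine hzero _ (mul_mul_mem_QS h2 hs ht.1 (h t ht))
      ((rk_mul_le_left _ _).trans (rk_mul_le_right _ _)) fun w hw => ?_
    have h1 := hinv _ hu s hs w hw
    have e : (1 + s) * (s * t - t * s) * (1 - s) = (s * t - t * s) - (s * t * s + s * t * s) +
        s * s * t * (1 - s) + (1 + s) * t * (s * s) := by noncomm_ring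
    rw [e, hs.1, zero_mul, zero_mul, mul_zero, add_zero, add_zero, mul_sub, sub_mul, hu w hw, zero_sub,
      neg_eq_zero, ← two_smul k, mul_smul_comm, smul_mul_assoc] at h1
    exact (smul_eq_zero.1 h1).resolve_left h2
  exact hzero _ (QS.comm hs ht.1 hsts (h t ht)) (by
    rw [sub_eq_add_neg]
    exact (rk_add_le _ _).trans (by rw [rk_neg]; exact rk_add_rk_le hsts)) hu

theorem unitOf_mem_centralizer {s : Module.End k M} (hs : s * s = 0)
    (h : ∀ t ∈ QD G, s * t - t * s = 0) :
    unitOf s hs ∈ Subgroup.centralizer ((⨆ A ∈ quadraticRootSubgroups G, A :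
      Subgroup (LinearMap.GeneralLinearGroup k M)) : Set (LinearMap.GeneralLinearGroup k M)) := by
  have : (⨆ A ∈ quadraticRootSubgroups G, A) ≤ Subgroup.centralizer {unitOf s hs} := by
    refine iSup₂_le fun A hA a ha => ?_
    obtain ⟨t, ht, rfl⟩ := mem_quadraticRootSubgroups_iff.1 hA
    obtain ⟨x, hx, rfl⟩ := exists_eq_unitOf_of_mem_EG ha
    rw [Subgroup.mem_centralizer_singleton_iff]
    apply Units.ext
    simp only [Units.val_mul, val_unitOf]
    have : s * x - x * s = 0 := by
      by_cases h0 : x = 0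
      · simp [h0]
      · exact h x (Esp.qd ht hx h0)
    rw [← sub_eq_zero, ← neg_eq_zero, ← this]
    noncomm_ring
  exact fun a ha => Subgroup.mem_centralizer_singleton_iff.1 (this ha)

omit [FiniteDimensional k M] in
theorem unitOf_add {s t : Module.End k M} (hs : s * s = 0) (ht : t * t = 0) (h : s * t = 0)
    (h' : (s + t) * (s + t) = 0) : unitOf (s + t) h' = unitOf s hs * unitOf t ht := by
  apply Units.ext
  simp only [Units.val_mul, val_unitOf, mul_add, add_mul, h, one_mul, mul_one, add_zero]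
  abel

/-- The members of `QS G` commuting with all members of `QD G`. -/
def QN (G : Subgroup (LinearMap.GeneralLinearGroup k M)) : Set (Module.End k M) :=
  {s | s ∈ QS G ∧ ∀ t ∈ QD G, s * t - t * s = 0}

/-- The group generated by the `1 + s`, `s ∈ QN G`. -/
def GN (G : Subgroup (LinearMap.GeneralLinearGroup k M)) : Subgroup (LinearMap.GeneralLinearGroup k M) :=
  Subgroup.closure {g | (g : Module.End k M) - 1 ∈ QN G}

omit [FiniteDimensional k M] in
theorem GN_le : GN G ≤ G := (Subgroup.closure_le _).2 fun _ hg => QS.mem_of_val_eq hg.1 (by abel)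

theorem GN_le_centralizer : GN G ≤ Subgroup.centralizer ((⨆ A ∈ quadraticRootSubgroups G, A :
      Subgroup (LinearMap.GeneralLinearGroup k M)) : Set (LinearMap.GeneralLinearGroup k M)) := by
  refine (Subgroup.closure_le _).2 fun g hg => ?_
  have : g = unitOf _ hg.1.1 := Units.ext (by simp)
  rw [this]
  exact unitOf_mem_centralizer _ hg.2

theorem unitOf_mem_biSup {t : Module.End k M} (ht : t ∈ QD G) :
    unitOf t ht.1.1 ∈ ⨆ A ∈ quadraticRootSubgroups G, A :=
  le_iSup₂_of_le (f := fun B (_ : B ∈ quadraticRootSubgroups G) => B) _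
    (EG_mem_quadraticRootSubgroups ht) le_rfl (unitOf_mem_EG (self_mem_Esp ht.1))

theorem QS_GN : QS (GN G) = QN G := by
  ext s
  constructor
  · intro hs
    refine ⟨QS.mono GN_le hs, fun t ht => ?_⟩
    have := congrArg Units.val (GN_le_centralizer (QS.unitOf_mem hs) _ (unitOf_mem_biSup ht))
    simp only [Units.val_mul, val_unitOf] at this
    rw [← sub_eq_zero] at this
    rw [← neg_eq_zero, ← this]
    noncomm_ring
  · intro hs
    refine ⟨hs.1.1, fun c => ⟨unitOf _ (QS.smul hs.1 c).1, Subgroup.subset_closure ?_, rfl⟩⟩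
    rw [Set.mem_setOf_eq, val_unitOf, add_sub_cancel_left]
    exact ⟨QS.smul hs.1 c, fun t ht => by
      rw [smul_mul_assoc, mul_smul_comm, ← smul_sub, hs.2 t ht, smul_zero]⟩

theorem conj_mem_GN {g : LinearMap.GeneralLinearGroup k M} (hg : g ∈ G)
    {h : LinearMap.GeneralLinearGroup k M} (hh : h ∈ GN G) : g * h * g⁻¹ ∈ GN G := by
  have : conjBy (GN G) g ≤ GN G := by
    rw [conjBy, GN, MonoidHom.map_closure]
    refine Subgroup.closure_mono ?_
    rintro _ ⟨a, ha, rfl⟩
    have e : (((MulAut.conj g).toMonoidHom a : LinearMap.GeneralLinearGroup k M) : Module.End k M) - 1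
        = g * ((a : Module.End k M) - 1) *
          ((g⁻¹ : LinearMap.GeneralLinearGroup k M) : Module.End k M) := by
      simp [mul_sub, sub_mul]
    rw [Set.mem_setOf_eq, e]
    refine ⟨QS.conj ha.1 hg, fun t ht => ?_⟩
    have := ha.2 _ (QD.conj ht (G.inv_mem hg))
    rw [inv_inv] at this
    generalize (a : Module.End k M) - 1 = x at this ⊢
    calc _ = (g : Module.End k M) * (x *
          (((g⁻¹ : LinearMap.GeneralLinearGroup k M) : Module.End k M) * t * g) -
          ((g⁻¹ : LinearMap.GeneralLinearGroup k M) : Module.End k M) * t * g * x) *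
          ((g⁻¹ : LinearMap.GeneralLinearGroup k M) : Module.End k M) := by
          simp only [mul_sub (g : Module.End k M), sub_mul _ _ ((g⁻¹ : LinearMap.GeneralLinearGroup k M) :
            Module.End k M), mul_assoc, Units.mul_inv_cancel_left, Units.mul_inv, mul_one]
      _ = 0 := by rw [this, mul_zero, zero_mul]
  exact this ⟨h, hh, rfl⟩

theorem unitOf_mem_sup_GN (hk2 : ringChar k ≠ 2) (hk3 : Nat.card k ≠ 3) (hG : NU G)
    {s : Module.End k M} (hs : s ∈ QS G) :
    unitOf s hs.1 ∈ (⨆ A ∈ quadraticRootSubgroups G, A) ⊔ GN G := by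
  induction hn : rk s using Nat.strong_induction_on generalizing s with
  | _ n ih =>
    by_cases h : ∀ w ∈ QD G, w * s * w = 0
    · refine Subgroup.mem_sup_right (Subgroup.subset_closure ?_)
      rw [Set.mem_setOf_eq, val_unitOf, add_sub_cancel_left]
      exact ⟨hs, fun t ht => comm_eq_zero_of_forall_nonopp hk2 hk3 hG hs h ht⟩
    · push Not at h
      obtain ⟨w, hw, h⟩ := h
      obtain ⟨s₁, h₁, s₀, h₀, rfl, a, -, b, -⟩ := exists_split hk2 hk3 hs hw h
      rw [unitOf_add h₁.1.1 h₀.1 a]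
      exact Subgroup.mul_mem _ (Subgroup.mem_sup_left (unitOf_mem_biSup h₁)) (ih _ (hn ▸ b) h₀ rfl)

theorem biSup_sup_GN (hk2 : ringChar k ≠ 2) (hk3 : Nat.card k ≠ 3) (hG : NU G)
    (hgen : Subgroup.closure (quadraticElements G) = G) :
    (⨆ A ∈ quadraticRootSubgroups G, A) ⊔ GN G = G := by
  refine le_antisymm (sup_le biSup_quadraticRootSubgroups_le GN_le) ?_
  conv_lhs => rw [← hgen]
  refine (Subgroup.closure_le _).2 fun g hg => ?_
  rw [mem_quadraticElements_iff] at hg
  have : g = unitOf _ hg.1.1 := Units.ext (by simp)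
  rw [this]
  exact unitOf_mem_sup_GN hk2 hk3 hG hg.1

omit [FiniteDimensional k M] in
theorem closure_quadraticElements_eq {H : Subgroup (LinearMap.GeneralLinearGroup k M)}
    {S : Set (LinearMap.GeneralLinearGroup k M)} (h : H ≤ Subgroup.closure S)
    (hS : ∀ g ∈ S, (g : Module.End k M) - 1 ∈ QS H) : Subgroup.closure (quadraticElements H) = H := by
  refine le_antisymm ((Subgroup.closure_le _).2 fun g hg => hg.1) (h.trans ((Subgroup.closure_le _).2
    fun g hg => ?_))
  by_cases h0 : (g : Module.End k M) - 1 = 0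
  · have : g = 1 := Units.ext (sub_eq_zero.1 h0)
    rw [this]; exact Subgroup.one_mem _
  · exact Subgroup.subset_closure (mem_quadraticElements_iff.2 ⟨hS g hg, h0⟩)

omit [FiniteDimensional k M] in
theorem mem_QS_of_EG_le {H : Subgroup (LinearMap.GeneralLinearGroup k M)} {t x : Module.End k M}
    (h : EG G t ≤ H) (hx : x ∈ Esp G t) : x ∈ QS H :=
  ⟨hx.1.1, fun c => ⟨_, h (unitOf_mem_EG (Submodule.smul_mem _ c hx)), rfl⟩⟩

theorem exists_decomposition (hk2 : ringChar k ≠ 2) (hk3 : Nat.card k ≠ 3) (n : ℕ) :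
    ∀ G : Subgroup (LinearMap.GeneralLinearGroup k M), NU G →
      Subgroup.closure (quadraticElements G) = G →
      Module.finrank k (Submodule.span k (QS G)) < n →
      ∃ S : Set (Subgroup (LinearMap.GeneralLinearGroup k M)), S.Finite ∧
        (∀ A ∈ S, A ≤ G ∧ ∀ g ∈ G, ∀ a ∈ A, g * a * g⁻¹ ∈ A) ∧
        (∀ A ∈ S, ∀ B ∈ S, A ≠ B → ⁅A, B⁆ = ⊥) ∧ (⨆ A ∈ S, A) = G ∧
        (∀ A ∈ S, IsQuasisimple A ∧ Subgroup.closure (quadraticElements A) = A) ∧
        ∀ s ∈ QS G, s ≠ 0 → ∃ A ∈ S, ∃ x ∈ QS A, ∃ y ∈ QS G, x ≠ 0 ∧ s = x + y ∧ x * y = 0 ∧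
          y * x = 0 ∧ rk y < rk s := by
  induction n with
  | zero => intro G _ _ h; omega
  | succ n ih =>
    intro G hG hgen hdim
    by_cases h0 : ∀ s ∈ QS G, s = 0
    · refine ⟨∅, Set.finite_empty, by simp, by simp, ?_, by simp, fun s hs hs0 => absurd (h0 s hs) hs0⟩
      rw [← hgen]
      have : quadraticElements G = ∅ := Set.eq_empty_of_forall_notMem fun g hg =>
        (mem_quadraticElements_iff.1 hg).2 (h0 _ (mem_quadraticElements_iff.1 hg).1)
      simp [this]
    push Not at h0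
    obtain ⟨t, ht⟩ : (QD G).Nonempty := by
      obtain ⟨t, ht, h⟩ := (measure rk).wf.has_min {s | s ∈ QS G ∧ s ≠ 0} h0
      exact ⟨t, ht.1, ht.2, fun s hs hs0 => not_lt.1 (h s ⟨hs, hs0⟩)⟩
    have hlt : Submodule.span k (QS (GN G)) < Submodule.span k (QS G) := by
      refine lt_of_le_of_ne (Submodule.span_mono (QS.mono GN_le)) fun e => ?_
      obtain ⟨r, hr, hr'⟩ := exists_opp hk2 hk3 hG ht
      have : ∀ x ∈ Submodule.span k (QS (GN G)), x * r - r * x = 0 := by
        intro x hx
        induction hx using Submodule.span_induction with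
        | mem x hx => rw [QS_GN] at hx; exact hx.2 r hr
        | zero => simp
        | add x y _ _ hx hy =>
          rw [show (x + y) * r - r * (x + y) = (x * r - r * x) + (y * r - r * y) by noncomm_ring, hx, hy,
            add_zero]
        | smul c x _ hx => rw [smul_mul_assoc, mul_smul_comm, ← smul_sub, hx, smul_zero]
      apply hr'
      rw [mul_assoc, sub_eq_zero.1 (this t (e ▸ Submodule.subset_span ht.1)), ← mul_assoc, hr.1.1,
        zero_mul]
    obtain ⟨S, a1, a2, a3, a4, a5, a6⟩ := ih (GN G)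
      (nu_of_normal hG GN_le fun g hg h hh => conj_mem_GN hg hh)
      (closure_quadraticElements_eq le_rfl fun g hg => by rw [QS_GN]; exact hg)
      (by have := Submodule.finrank_lt_finrank_of_lt hlt; omega)
    have hsup := biSup_sup_GN hk2 hk3 hG hgen
    have hc : ∀ A ∈ S, ∀ t ∈ QD G, ⁅A, GQ G t⁆ = ⊥ := fun A hA t ht =>
      Subgroup.commutator_eq_bot_iff_le_centralizer.2 (((a2 A hA).1.trans GN_le_centralizer).trans
        (Subgroup.centralizer_le (GQ_le_biSup ht)))
    have hnorm : ∀ A : Subgroup (LinearMap.GeneralLinearGroup k M),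
        (∀ g ∈ (⨆ A ∈ quadraticRootSubgroups G, A), ∀ a ∈ A, g * a * g⁻¹ ∈ A) →
        (∀ g ∈ GN G, ∀ a ∈ A, g * a * g⁻¹ ∈ A) → ∀ g ∈ G, ∀ a ∈ A, g * a * g⁻¹ ∈ A := by
      intro A h1 h2 g hg
      have key : ∀ H : Subgroup (LinearMap.GeneralLinearGroup k M),
          (∀ g ∈ H, ∀ a ∈ A, g * a * g⁻¹ ∈ A) → H ≤ Subgroup.normalizer (A : Set _) := by
        intro H h g hg
        rw [Subgroup.mem_normalizer_iff]
        exact fun a => ⟨h g hg a, fun h' => by simpa [mul_assoc] using h _ (H.inv_mem hg) _ h'⟩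
      rw [← hsup] at hg
      exact fun a ha => (Subgroup.mem_normalizer_iff.1 (sup_le (key _ h1) (key _ h2) hg) a).1 ha
    refine ⟨GQ G '' QD G ∪ S, (finite_image_of_conn hk2 hk3 hG _
      fun a b h => GQ_eq_of_conn hk2 hk3 h).union a1, ?_, ?_, ?_, ?_, ?_⟩
    · rintro A (⟨t, ht, rfl⟩ | hA)
      · refine ⟨GQ_le t, hnorm _ (fun g hg a ha => conj_mem_GQ hk2 hk3 hG ht hg ha) fun g hg a ha => ?_⟩
        rw [← GN_le_centralizer hg a (GQ_le_biSup ht ha), mul_inv_cancel_right]
        exact ha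
      · refine ⟨(a2 A hA).1.trans GN_le, hnorm _ (fun g hg a ha => ?_) (a2 A hA).2⟩
        rw [GN_le_centralizer ((a2 A hA).1 ha) g hg, mul_inv_cancel_right]
        exact ha
    · rintro A (⟨s, hs, rfl⟩ | hA) B (⟨t, ht, rfl⟩ | hB) hne
      · exact commutator_GQ_eq_bot hk2 hk3 hG hs ht fun h => hne (GQ_eq_of_conn hk2 hk3 h)
      · rw [Subgroup.commutator_comm]; exact hc B hB s hs
      · exact hc A hA t ht
      · exact a3 A hA B hB hne
    · rw [iSup_union, a4]
      refine Eq.trans ?_ hsup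
      congr 1
      refine le_antisymm (iSup₂_le ?_) (iSup₂_le fun A hA => ?_)
      · rintro _ ⟨t, ht, rfl⟩
        exact GQ_le_biSup ht
      · obtain ⟨t, ht, rfl⟩ := mem_quadraticRootSubgroups_iff.1 hA
        exact le_iSup₂_of_le (f := fun B (_ : B ∈ GQ G '' QD G) => B) _ ⟨t, ht, rfl⟩
          (EG_le_GQ (Conn.refl t))
    · rintro A (⟨t, ht, rfl⟩ | hA)
      · refine ⟨isQuasisimple_GQ hk2 hk3 hG ht, closure_quadraticElements_eq
          (S := {g | (g : Module.End k M) - 1 ∈ QS (GQ G t)}) (GQ_le_iff.2 fun s hs g hg => ?_)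
          fun g hg => hg⟩
        exact Subgroup.subset_closure (mem_QS_of_EG_le (EG_le_GQ hs) hg)
      · exact a5 A hA
    · intro s hs hs0
      by_cases h : ∀ w ∈ QD G, w * s * w = 0
      · obtain ⟨A, hA, x, hx, y, hy, b⟩ := a6 s (by
          rw [QS_GN]; exact ⟨hs, fun t ht => comm_eq_zero_of_forall_nonopp hk2 hk3 hG hs h ht⟩) hs0
        exact ⟨A, Or.inr hA, x, hx, y, QS.mono GN_le hy, b⟩
      · push Not at h
        obtain ⟨w, hw, h⟩ := h
        obtain ⟨s₁, h₁, s₀, h₀, e, a, b, c, -⟩ := exists_split hk2 hk3 hs hw h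
        exact ⟨_, Or.inl ⟨s₁, h₁, rfl⟩, s₁, mem_QS_of_EG_le (EG_le_GQ (Conn.refl s₁)) (self_mem_Esp h₁.1),
          s₀, h₀, h₁.2.1, e, a, b, c⟩

/-- In an irreducible group, quadratic elements from commuting normal subgroups do not annihilate each other. -/
theorem mul_ne_zero_of_commuting (hG : IsIrreducibleFor G)
    {A B : Subgroup (LinearMap.GeneralLinearGroup k M)} (hB : B ≤ G)
    (hBn : ∀ g ∈ G, ∀ b ∈ B, g * b * g⁻¹ ∈ B) (hq : IsQuasisimple B) (hAB : ⁅A, B⁆ = ⊥)
    {x y : Module.End k M} (hx : x ∈ QS A) (hx0 : x ≠ 0) (hy : y ∈ QS B) (hy0 : y ≠ 0) :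
    x * y ≠ 0 := by
  intro hxy
  have hNU : NU B := nu_of_normal (nu_of_isIrreducibleFor hG) hB hBn
  have hxb : ∀ b ∈ B, x * (b : Module.End k M) = b * x := by
    intro b hb
    have := congrArg Units.val (Trans.commute_of_commutator_eq_bot hAB (QS.unitOf_mem hx) hb)
    simpa [add_mul, mul_add] using this
  let N : Subgroup (LinearMap.GeneralLinearGroup k M) :=
    { carrier := {b | b ∈ B ∧ x * (b : Module.End k M) = x}
      one_mem' := ⟨B.one_mem, mul_one _⟩
      mul_mem' := by
        rintro a b ⟨ha, ha'⟩ ⟨hb, hb'⟩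
        exact ⟨B.mul_mem ha hb, by rw [Units.val_mul, ← mul_assoc, ha', hb']⟩
      inv_mem' := by
        rintro a ⟨ha, ha'⟩
        exact ⟨B.inv_mem ha, by rw [← ha', mul_assoc, Units.mul_inv, mul_one, ha']⟩ }
  have hNn : ∀ g ∈ B, ∀ n ∈ N, g * n * g⁻¹ ∈ N := by
    rintro g hg n ⟨hn, hn'⟩
    refine ⟨B.mul_mem (B.mul_mem hg hn) (B.inv_mem hg), ?_⟩
    rw [Units.val_mul, Units.val_mul, ← mul_assoc, ← mul_assoc, hxb g hg, mul_assoc _ x, hn', ← hxb g hg,
      mul_assoc, Units.mul_inv, mul_one]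
  have hyN : unitOf y hy.1 ∈ N := ⟨QS.unitOf_mem hy, by rw [val_unitOf, mul_add, hxy]; simp⟩
  rcases Trans.IsQuasisimple.eq_or_le_centralizer hq (N := N) (fun b hb => hb.1) (fun g hg => by
    rw [Subgroup.mem_normalizer_iff]
    exact fun a => ⟨hNn g hg a, fun h' => by simpa [mul_assoc] using hNn _ (B.inv_mem hg) _ h'⟩)
    with h | h
  · have h1 : commutatorSubmodule B ≤ LinearMap.ker x := by
      rw [commutatorSubmodule_le_iff, augSpan_le]
      intro b hb
      rw [← h] at hb
      exact mul_eq_zero_iff_range_le_ker.1 (by rw [mul_sub, hb.2, mul_one, sub_self])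
    rcases hG.2 (commutatorSubmodule B) (fun g hg w hw => by
      have : commutatorSubmodule B ≤ (commutatorSubmodule B).comap (g : Module.End k M) := by
        rw [commutatorSubmodule_le_iff, augSpan_le]
        rintro b hb _ ⟨m, rfl⟩
        refine commutatorSubmodule_le_iff.1 le_rfl (sub_one_mem_augSpan (hBn g hg b hb))
          ⟨(g : Module.End k M) m, ?_⟩
        rw [← Module.End.mul_apply, ← Module.End.mul_apply, Units.val_mul, Units.val_mul, sub_mul,
          mul_assoc, Units.inv_mul, mul_one, one_mul, mul_sub, mul_one]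
      exact this hw) with h2 | h2
    · apply hy0
      have := commutatorSubmodule_le_iff.1 h2.le (sub_one_mem_augSpan (QS.unitOf_mem hy))
      rw [val_unitOf, add_sub_cancel_left] at this
      exact LinearMap.range_eq_bot.1 (le_bot_iff.1 this)
    · rw [h2, top_le_iff, LinearMap.ker_eq_top] at h1
      exact hx0 h1
  · have h1 : IsUnipotentOn (Subgroup.zpowers (unitOf y hy.1)) := by
      refine isUnipotentOn_of_augSpan_le (J := Submodule.span k {y}) (n := 2) ?_ ?_
      · rw [Subgroup.zpowers_eq_closure]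
        refine augSpan_closure_le ?_ ?_ ?_
        · rw [Submodule.span_mul_span, Set.singleton_mul_singleton, hy.1]; simp
        · rintro _ rfl
          rw [val_unitOf, add_sub_cancel_left]; exact Submodule.mem_span_singleton_self y
        · rintro _ rfl
          rw [val_inv_unitOf, sub_sub_cancel_left]
          exact Submodule.neg_mem _ (Submodule.mem_span_singleton_self y)
      · rw [sq, Submodule.span_mul_span, Set.singleton_mul_singleton, hy.1]; simp
    have := hNU _ (by rw [Subgroup.zpowers_le]; exact QS.unitOf_mem hy) (fun g hg n hn => by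
      have hn' : n ∈ Subgroup.centralizer (B : Set _) := by
        refine h ?_
        exact (Subgroup.zpowers_le.2 hyN) hn
      rw [hn' g hg, mul_inv_cancel_right]; exact hn) h1
    rw [Subgroup.zpowers_eq_bot, unitOf_eq_one_iff] at this
    exact hy0 this

end Cfsg.Lib.Class
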