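import Mathlib
import Cfsg.Prelude.Def_RootSubgroups
import Cfsg.Agent.Class.Corner

/-!
# The transvection subgroups (root subgroups) of `SL`
-/

set_option autoImplicit false

namespace Cfsg.Lib.Class

open Matrix
open scoped commutatorElement

variable {ι : Type*} [Fintype ι] [DecidableEq ι] {F : Type*} [Field F]

/-- The group of transvections with centre `v` and axis `ker f`. -/
def rootSub (v f : ι → F) (h : f ⬝ᵥ v = 0) : Subgroup (SpecialLinearGroup ι F) where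
  carrier := {t | ∃ c : F, t = tvS v (c • f)}
  one_mem' := ⟨0, by simp⟩
  mul_mem' := by
    rintro _ _ ⟨a, rfl⟩ ⟨b, rfl⟩
    exact ⟨a + b, by rw [add_smul, tvS_add_right (by simp [h]) (by simp [h])]⟩
  inv_mem' := by
    rintro _ ⟨a, rfl⟩
    refine ⟨-a, ?_⟩
    rw [tvS_inv (by simp [h]), ← neg_one_smul F v, tvS_smul_left _ (by simp [h]), smul_smul]
    simp

theorem mem_rootSub {v f : ι → F} {h : f ⬝ᵥ v = 0} {t : SpecialLinearGroup ι F} :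
    t ∈ rootSub v f h ↔ ∃ c : F, t = tvS v (c • f) := Iff.rfl

theorem tvS_mem_rootSub {v f : ι → F} (h : f ⬝ᵥ v = 0) : tvS v f ∈ rootSub v f h :=
  ⟨1, by rw [one_smul]⟩

theorem rootSub_congr {v f v' f' : ι → F} (h : f ⬝ᵥ v = 0) (h' : f' ⬝ᵥ v' = 0) {a b : F}
    (ha : a ≠ 0) (hb : b ≠ 0) (hv : v' = a • v) (hf : f' = b • f) :
    rootSub v' f' h' = rootSub v f h := by
  subst hv hf
  ext t
  simp only [mem_rootSub]
  constructor
  · rintro ⟨c, rfl⟩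
    exact ⟨a * (c * b), by rw [tvS_smul_left _ (by simp [h]), smul_smul, smul_smul, mul_assoc]⟩
  · rintro ⟨c, rfl⟩
    refine ⟨c / (a * b), ?_⟩
    rw [tvS_smul_left _ (by simp [h]), smul_smul, smul_smul]
    congr 2
    field_simp

theorem SL_vecMul_inv_dot_mulVec (g : SpecialLinearGroup ι F) (f v : ι → F) :
    (f ᵥ* ((g⁻¹ : SpecialLinearGroup ι F) : Matrix ι ι F)) ⬝ᵥ ((g : Matrix ι ι F) *ᵥ v) =
      f ⬝ᵥ v := by
  rw [SL_coe_inv]
  exact vecMul_inv_dot_mulVec (SpecialLinearGroup.toGL g) f v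

theorem conjBy_rootSub {v f : ι → F} (h : f ⬝ᵥ v = 0) (g : SpecialLinearGroup ι F) :
    Cfsg.conjBy (rootSub v f h) g = rootSub ((g : Matrix ι ι F) *ᵥ v)
      (f ᵥ* ((g⁻¹ : SpecialLinearGroup ι F) : Matrix ι ι F))
      ((SL_vecMul_inv_dot_mulVec g f v).trans h) := by
  ext t
  simp only [Subgroup.mem_map, mem_rootSub]
  constructor
  · rintro ⟨_, ⟨c, rfl⟩, rfl⟩
    refine ⟨c, ?_⟩
    rw [← smul_vecMul, ← conj_tvS g (by simp [h])]
    rfl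
  · rintro ⟨c, rfl⟩
    refine ⟨_, ⟨c, rfl⟩, ?_⟩
    rw [← smul_vecMul, ← conj_tvS g (by simp [h])]
    rfl

theorem SL_mulVec_ne_zero (g : SpecialLinearGroup ι F) {v : ι → F} (hv : v ≠ 0) :
    (g : Matrix ι ι F) *ᵥ v ≠ 0 :=
  fun e ↦ hv ((GL_mulVec_eq_zero_iff (SpecialLinearGroup.toGL g)).1 e)

theorem SL_vecMul_ne_zero (g : SpecialLinearGroup ι F) {v : ι → F} (hv : v ≠ 0) :
    v ᵥ* (g : Matrix ι ι F) ≠ 0 :=
  fun e ↦ hv ((GL_vecMul_eq_zero_iff (SpecialLinearGroup.toGL g)).1 e)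

/-- Conjugating a transvection by a transvection. -/
theorem tvS_conj_tvS {v f w g : ι → F} (hf : f ⬝ᵥ v = 0) (hg : g ⬝ᵥ w = 0) :
    tvS v f * tvS w g * (tvS v f)⁻¹ = tvS (w + (f ⬝ᵥ w) • v) (g - (g ⬝ᵥ v) • f) := by
  rw [conj_tvS _ hg, tvS_mulVec hf, tvS_inv hf, vecMul_tvS (by simp [hf])]
  simp [sub_eq_add_neg]

theorem tvS_commute {v f w g : ι → F} (hf : f ⬝ᵥ v = 0) (hg : g ⬝ᵥ w = 0) (h1 : f ⬝ᵥ w = 0)
    (h2 : g ⬝ᵥ v = 0) : tvS v f * tvS w g = tvS w g * tvS v f := by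
  rw [← mul_inv_eq_iff_eq_mul, tvS_conj_tvS hf hg, h1, h2]
  simp

theorem tvS_commutator {v f w g : ι → F} (hf : f ⬝ᵥ v = 0) (hg : g ⬝ᵥ w = 0) (h2 : g ⬝ᵥ v = 0) :
    tvS v f * tvS w g * (tvS v f)⁻¹ * (tvS w g)⁻¹ = tvS v ((f ⬝ᵥ w) • g) := by
  rw [tvS_conj_tvS hf hg, h2, zero_smul, sub_zero, tvS_inv hg,
    ← tvS_add_left (by simp [hg, h2]) (by simp [hg]), ← tvS_smul_left _ h2]
  congr 1
  abel

theorem rootSub_isMulCommutative {v f : ι → F} (h : f ⬝ᵥ v = 0) :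
    IsMulCommutative (rootSub v f h) :=
  ⟨⟨fun ⟨_, a, ha⟩ ⟨_, b, hb⟩ ↦ Subtype.ext (by
    subst ha hb
    exact tvS_commute (by simp [h]) (by simp [h]) (by simp [h]) (by simp [h]))⟩⟩

theorem rootSub_ne_bot {v f : ι → F} (h : f ⬝ᵥ v = 0) (hv : v ≠ 0) (hf : f ≠ 0) :
    rootSub v f h ≠ ⊥ := fun e ↦ by
  have := tvS_mem_rootSub h
  rw [e, Subgroup.mem_bot, tvS_eq_one_iff h] at this
  tauto

theorem commutator_rootSub_eq_bot {v f w g : ι → F} (hf : f ⬝ᵥ v = 0) (hg : g ⬝ᵥ w = 0)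
    (h1 : f ⬝ᵥ w = 0) (h2 : g ⬝ᵥ v = 0) : ⁅rootSub v f hf, rootSub w g hg⁆ = ⊥ := by
  rw [eq_bot_iff, Subgroup.commutator_le]
  rintro _ ⟨a, rfl⟩ _ ⟨b, rfl⟩
  rw [Subgroup.mem_bot, commutatorElement_eq_one_iff_mul_comm]
  exact tvS_commute (by simp [hf]) (by simp [hg]) (by simp [h1]) (by simp [h2])

theorem tvS_commutator_smul {v f w g : ι → F} (hf : f ⬝ᵥ v = 0) (hg : g ⬝ᵥ w = 0)
    (h2 : g ⬝ᵥ v = 0) (a b : F) :
    tvS v (a • f) * tvS w (b • g) * (tvS v (a • f))⁻¹ * (tvS w (b • g))⁻¹ =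
      tvS v ((a * (f ⬝ᵥ w) * b) • g) := by
  rw [tvS_commutator (by simp [hf]) (by simp [hg]) (by simp [h2]), smul_smul]
  simp

theorem commutator_rootSub {v f w g : ι → F} (hf : f ⬝ᵥ v = 0) (hg : g ⬝ᵥ w = 0)
    (h1 : f ⬝ᵥ w ≠ 0) (h2 : g ⬝ᵥ v = 0) : ⁅rootSub v f hf, rootSub w g hg⁆ = rootSub v g h2 := by
  refine le_antisymm ?_ ?_
  · rw [Subgroup.commutator_le]
    rintro _ ⟨a, rfl⟩ _ ⟨b, rfl⟩
    exact ⟨_, tvS_commutator_smul hf hg h2 a b⟩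
  · rintro _ ⟨c, rfl⟩
    have := tvS_commutator_smul hf hg h2 1 (c / (f ⬝ᵥ w))
    rw [one_mul, mul_div_cancel₀ _ h1] at this
    rw [← this]
    exact Subgroup.commutator_mem_commutator ⟨1, rfl⟩ ⟨_, rfl⟩

theorem ne_zero_of_tvS_ne_one {v f : ι → F} {a : F} (h : tvS v (a • f) ≠ 1) : a ≠ 0 := by
  rintro rfl
  simp at h

theorem rootCommutatorCase_symm {G : Type*} [Group G] {S : Set (Subgroup G)} {A B : Subgroup G}
    (h : Cfsg.RootCommutatorCase S A B) : Cfsg.RootCommutatorCase S B A := by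
  obtain ⟨h1, h2, h3, h4⟩ := h
  rw [Cfsg.RootCommutatorCase, Subgroup.commutator_comm B A, sup_comm B A]
  refine ⟨h1, h2, fun b hb hb1 ↦ ?_, fun a ha ha1 ↦ ?_⟩
  · rw [← h4 b hb hb1, ← Subgroup.closure_inv]
    congr 1
    ext x
    simp only [Set.mem_inv, Set.mem_image]
    refine exists_congr fun a ↦ and_congr_right fun _ ↦ ?_
    rw [← inv_eq_iff_eq_inv]
    simp [mul_assoc]
  · rw [← h3 a ha ha1, ← Subgroup.closure_inv]
    congr 1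
    ext x
    simp only [Set.mem_inv, Set.mem_image]
    refine exists_congr fun a ↦ and_congr_right fun _ ↦ ?_
    rw [← inv_eq_iff_eq_inv]
    simp [mul_assoc]

theorem rootCommutatorCase_rootSub {S : Set (Subgroup (SpecialLinearGroup ι F))} {v f w g : ι → F}
    (hf : f ⬝ᵥ v = 0) (hg : g ⬝ᵥ w = 0) (h1 : f ⬝ᵥ w ≠ 0) (h2 : g ⬝ᵥ v = 0)
    (hS : rootSub v g h2 ∈ S) :
    Cfsg.RootCommutatorCase S (rootSub v f hf) (rootSub w g hg) := by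
  rw [Cfsg.RootCommutatorCase, commutator_rootSub hf hg h1 h2]
  refine ⟨hS, ?_, ?_, ?_⟩
  · rintro _ ⟨c, rfl⟩ x hx
    have : rootSub v f hf ⊔ rootSub w g hg ≤ Subgroup.centralizer {tvS v (c • g)} := by
      refine sup_le ?_ ?_
      · rintro _ ⟨a, rfl⟩
        rw [Subgroup.mem_centralizer_singleton_iff]
        exact tvS_commute (by simp [hf]) (by simp [h2]) (by simp [hf]) (by simp [h2])
      · rintro _ ⟨a, rfl⟩
        rw [Subgroup.mem_centralizer_singleton_iff]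
        exact tvS_commute (by simp [hg]) (by simp [h2]) (by simp [h2]) (by simp [hg])
    exact (Subgroup.mem_centralizer_singleton_iff.1 (this hx)).symm
  · rintro _ ⟨a, rfl⟩ ha
    have ha0 := ne_zero_of_tvS_ne_one ha
    rw [← Subgroup.closure_eq (rootSub v g h2)]
    congr 1
    ext x
    constructor
    · rintro ⟨_, ⟨b, rfl⟩, rfl⟩
      exact ⟨_, tvS_commutator_smul hf hg h2 a b⟩
    · rintro ⟨c, rfl⟩
      refine ⟨_, ⟨c / (a * f ⬝ᵥ w), rfl⟩, ?_⟩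
      dsimp only
      rw [tvS_commutator_smul hf hg h2, mul_div_cancel₀ _ (mul_ne_zero ha0 h1)]
  · rintro _ ⟨b, rfl⟩ hb
    have hb0 := ne_zero_of_tvS_ne_one hb
    rw [← Subgroup.closure_eq (rootSub v g h2)]
    congr 1
    ext x
    constructor
    · rintro ⟨_, ⟨a, rfl⟩, rfl⟩
      exact ⟨_, tvS_commutator_smul hf hg h2 a b⟩
    · rintro ⟨c, rfl⟩
      refine ⟨_, ⟨c / (f ⬝ᵥ w * b), rfl⟩, ?_⟩
      dsimp only
      rw [tvS_commutator_smul hf hg h2, mul_assoc, div_mul_cancel₀ _ (mul_ne_zero h1 hb0)]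

theorem conjBy_rootSub_tvS_inv {v f w g : ι → F} (hf : f ⬝ᵥ v = 0) (hg : g ⬝ᵥ w = 0) :
    Cfsg.conjBy (rootSub v f hf) (tvS w g)⁻¹ =
      rootSub (v - (g ⬝ᵥ v) • w) (f + (f ⬝ᵥ w) • g) (by simp [hf, hg, mul_comm]) := by
  rw [conjBy_rootSub]
  congr 1
  · rw [tvS_inv hg, tvS_mulVec (by simp [hg])]
    simp [sub_eq_add_neg]
  · rw [inv_inv, vecMul_tvS hg]

theorem rankOneCondition_rootSub {v f w g : ι → F} (hf : f ⬝ᵥ v = 0) (hg : g ⬝ᵥ w = 0)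
    (h1 : f ⬝ᵥ w ≠ 0) (h2 : g ⬝ᵥ v ≠ 0) :
    Cfsg.RankOneCondition (rootSub v f hf) (rootSub w g hg) := by
  rintro _ ⟨s, rfl⟩ hs
  have hs0 := ne_zero_of_tvS_ne_one hs
  have hw : w ≠ 0 := by rintro rfl; simp at h1
  have hg0 : g ≠ 0 := by rintro rfl; simp at h2
  set α := f ⬝ᵥ w with hα
  set β := g ⬝ᵥ v with hβ
  have ht : (s * α * β)⁻¹ ≠ 0 := inv_ne_zero (mul_ne_zero (mul_ne_zero hs0 h1) h2)
  refine ⟨_, ⟨(s * α * β)⁻¹, rfl⟩, ?_, ?_⟩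
  · rw [Ne, tvS_eq_one_iff (by simp [hg])]
    simp [hw, hg0, hs0, h1, h2]
  · rw [conjBy_rootSub_tvS_inv hf (by simp [hg]), conjBy_rootSub_tvS_inv hg (by simp [hf])]
    refine (rootSub_congr _ _ (a := -(s * α)) (b := s * β) (neg_ne_zero.2 (mul_ne_zero hs0 h1))
      (mul_ne_zero hs0 h2) ?_ ?_).symm
    · simp only [smul_dotProduct, ← hα, ← hβ, smul_eq_mul]
      match_scalars <;> field_simp
    · simp only [← hα, ← hβ]
      match_scalars <;> field_simp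

theorem rootSub_ne {v f w g : ι → F} (hf : f ⬝ᵥ v = 0) (hg : g ⬝ᵥ w = 0) (hv : v ≠ 0)
    (h1 : f ⬝ᵥ w ≠ 0) : rootSub v f hf ≠ rootSub w g hg := fun e ↦ by
  obtain ⟨c, hc⟩ := e.le (tvS_mem_rootSub hf)
  have := congrArg (fun t : SpecialLinearGroup ι F ↦ (t : Matrix ι ι F) *ᵥ w) hc
  rw [tvS_mulVec hf, tvS_mulVec (by simp [hg])] at this
  simp [hg, h1, hv] at this

theorem isNilpotent_of_isMulCommutative' {G : Type*} [Group G] (A : Subgroup G)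
    (h : IsMulCommutative A) : Group.IsNilpotent A := by
  let _ : CommGroup A := { mul_comm := h.is_comm.comm }
  infer_instance

theorem isRankOnePair_rootSub {v f w g : ι → F} (hf : f ⬝ᵥ v = 0) (hg : g ⬝ᵥ w = 0)
    (h1 : f ⬝ᵥ w ≠ 0) (h2 : g ⬝ᵥ v ≠ 0) :
    Cfsg.IsRankOnePair (rootSub v f hf) (rootSub w g hg) :=
  ⟨rootSub_ne hf hg (by rintro rfl; simp at h2) h1,
    isNilpotent_of_isMulCommutative' _ (rootSub_isMulCommutative hf),
    isNilpotent_of_isMulCommutative' _ (rootSub_isMulCommutative hg),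
    rankOneCondition_rootSub hf hg h1 h2, rankOneCondition_rootSub hg hf h2 h1⟩

theorem dot_ne_zero_of_isRankOnePair {v f w g : ι → F} (hf : f ⬝ᵥ v = 0) (hg : g ⬝ᵥ w = 0)
    (hv : v ≠ 0) (hf0 : f ≠ 0) (h : Cfsg.IsRankOnePair (rootSub v f hf) (rootSub w g hg)) :
    g ⬝ᵥ v ≠ 0 := by
  intro h2
  obtain ⟨_, ⟨t, rfl⟩, -, e⟩ := h.cond_left _ (tvS_mem_rootSub hf)
    (by rw [Ne, tvS_eq_one_iff hf]; tauto)
  rw [conjBy_rootSub_tvS_inv hf (by simp [hg]), conjBy_rootSub_tvS_inv hg hf] at e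
  have h1 : f ⬝ᵥ w = 0 := by
    obtain ⟨c, hc⟩ := e.le (tvS_mem_rootSub _)
    have := congrArg (fun t : SpecialLinearGroup ι F ↦ (t : Matrix ι ι F) *ᵥ w) hc
    rw [tvS_mulVec (by simp [hf, hg, h2]), tvS_mulVec (by simp [hf, hg, h2])] at this
    simpa [hg, h2, hv] using this
  apply h.ne
  simpa [h1, h2] using e

theorem upperUnipotentSL2_eq (k : Type*) [Field k] : Cfsg.upperUnipotentSL2 k =
    rootSub (Pi.single 0 1) (Pi.single 1 1) (by simp) := by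
  rw [Cfsg.upperUnipotentSL2, ← Subgroup.closure_eq (rootSub _ _ _)]
  congr 1
  ext t
  constructor
  · rintro ⟨h1, h2, h3⟩
    refine ⟨t.1 0 1, Subtype.ext ?_⟩
    rw [tvS_coe (by simp)]
    ext i j
    fin_cases i <;> fin_cases j <;> simp [vecMulVec_apply, h1, h2, h3]
  · rintro ⟨c, rfl⟩
    rw [Set.mem_ofPred_eq, tvS_coe (by simp)]
    simp [vecMulVec_apply]

theorem lowerUnipotentSL2_eq (k : Type*) [Field k] : Cfsg.lowerUnipotentSL2 k =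
    rootSub (Pi.single 1 1) (Pi.single 0 1) (by simp) := by
  rw [Cfsg.lowerUnipotentSL2, ← Subgroup.closure_eq (rootSub _ _ _)]
  congr 1
  ext t
  constructor
  · rintro ⟨h1, h2, h3⟩
    refine ⟨t.1 1 0, Subtype.ext ?_⟩
    rw [tvS_coe (by simp)]
    ext i j
    fin_cases i <;> fin_cases j <;> simp [vecMulVec_apply, h1, h2, h3]
  · rintro ⟨c, rfl⟩
    rw [Set.mem_ofPred_eq, tvS_coe (by simp)]
    simp [vecMulVec_apply]

theorem upper_sup_lower_SL2 (k : Type*) [Field k] :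
    Cfsg.upperUnipotentSL2 k ⊔ Cfsg.lowerUnipotentSL2 k = ⊤ := by
  rw [upperUnipotentSL2_eq, lowerUnipotentSL2_eq]
  refine SL_eq_top_of_transvection_mem _ fun i j hij c ↦ ?_
  rw [transvection_eq_tvS]
  have e : ∀ i : Fin 2, (Pi.single i c : Fin 2 → k) = c • Pi.single i 1 := fun i ↦ by
    rw [← Pi.single_smul, smul_eq_mul, mul_one]
  fin_cases i <;> fin_cases j
  · exact absurd rfl hij
  · exact Subgroup.mem_sup_left ⟨c, by rw [e, tvS_smul_left _ (by simp)]; rfl⟩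
  · exact Subgroup.mem_sup_right ⟨c, by rw [e, tvS_smul_left _ (by simp)]; rfl⟩
  · exact absurd rfl hij

theorem map_cornerSL_rootSub {κ : Type*} [Fintype κ] [DecidableEq κ] (P : Matrix ι κ F)
    (Q : Matrix κ ι F) (h : Q * P = 1) {v f : κ → F} (hf : f ⬝ᵥ v = 0) :
    (rootSub v f hf).map (cornerSL P Q h) =
      rootSub (P *ᵥ v) (f ᵥ* Q) ((corner_dot P Q h v f).trans hf) := by
  ext t
  simp only [Subgroup.mem_map, mem_rootSub]
  constructor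
  · rintro ⟨_, ⟨c, rfl⟩, rfl⟩
    exact ⟨c, by rw [cornerSL_tvS _ _ _ (by simp [hf]), smul_vecMul]⟩
  · rintro ⟨c, rfl⟩
    exact ⟨_, ⟨c, rfl⟩, by rw [cornerSL_tvS _ _ _ (by simp [hf]), smul_vecMul]⟩

theorem isPSL2PairOver_rootSub {v f w g : ι → F} (hf : f ⬝ᵥ v = 0) (hg : g ⬝ᵥ w = 0)
    (h1 : f ⬝ᵥ w ≠ 0) (h2 : g ⬝ᵥ v ≠ 0) :
    Cfsg.IsPSL2PairOver F (rootSub v f hf) (rootSub w g hg) := by
  have hgv : ((g ⬝ᵥ v)⁻¹ • g) ⬝ᵥ v = 1 := by simp [h2]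
  have hgw : ((g ⬝ᵥ v)⁻¹ • g) ⬝ᵥ w = 0 := by simp [hg]
  have hfv : ((f ⬝ᵥ w)⁻¹ • f) ⬝ᵥ v = 0 := by simp [hf]
  have hfw : ((f ⬝ᵥ w)⁻¹ • f) ⬝ᵥ w = 1 := by simp [h1]
  have e1 : (Cfsg.upperUnipotentSL2 F).map (sl2Hom hgv hgw hfv hfw) = rootSub v f hf := by
    rw [upperUnipotentSL2_eq, sl2Hom, map_cornerSL_rootSub]
    exact rootSub_congr _ _ one_ne_zero (inv_ne_zero h1) (by simp [cols2_mulVec, -mulVec_single])
      (by simp [vecMul_rows2, -single_vecMul])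
  have e2 : (Cfsg.lowerUnipotentSL2 F).map (sl2Hom hgv hgw hfv hfw) = rootSub w g hg := by
    rw [lowerUnipotentSL2_eq, sl2Hom, map_cornerSL_rootSub]
    exact rootSub_congr _ _ one_ne_zero (inv_ne_zero h2) (by simp [cols2_mulVec, -mulVec_single])
      (by simp [vecMul_rows2, -single_vecMul])
  refine ⟨sl2Hom hgv hgw hfv hfw, ?_, ?_, e1, e2⟩
  · rw [← e1, ← e2, ← Subgroup.map_sup, upper_sup_lower_SL2, MonoidHom.range_eq_map]
  · rw [(MonoidHom.ker_eq_bot_iff _).2 (sl2Hom_injective hgv hgw hfv hfw)]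
    exact bot_le

/-- The class of all transvection subgroups of `SL`. -/
def rootClass (ι : Type*) [Fintype ι] [DecidableEq ι] (F : Type*) [Field F] :
    Set (Subgroup (SpecialLinearGroup ι F)) :=
  {A | ∃ (v f : ι → F) (h : f ⬝ᵥ v = 0), v ≠ 0 ∧ f ≠ 0 ∧ A = rootSub v f h}

theorem isRootSubgroupSet_rootClass : Cfsg.IsRootSubgroupSet (rootClass ι F) where
  commutative := by
    rintro _ ⟨v, f, h, -, -, rfl⟩
    exact rootSub_isMulCommutative h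
  ne_bot := by
    rintro _ ⟨v, f, h, hv, hf, rfl⟩
    exact rootSub_ne_bot h hv hf
  generates := by
    refine SL_eq_top_of_tvS _ fun v f h ↦ ?_
    rcases eq_or_ne v 0 with rfl | hv
    · simp
    rcases eq_or_ne f 0 with rfl | hf
    · simp
    exact (le_iSup₂ (f := fun A (_ : A ∈ rootClass ι F) ↦ A) _ ⟨v, f, h, hv, hf, rfl⟩)
      (tvS_mem_rootSub h)
  conj_mem := by
    rintro _ ⟨v, f, h, hv, hf, rfl⟩ g
    exact ⟨_, _, _, SL_mulVec_ne_zero g hv, SL_vecMul_ne_zero g⁻¹ hf, conjBy_rootSub h g⟩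
  pair := by
    rintro _ ⟨v, f, hf, hv, hf0, rfl⟩ _ ⟨w, g, hg, hw, hg0, rfl⟩
    by_cases h1 : f ⬝ᵥ w = 0 <;> by_cases h2 : g ⬝ᵥ v = 0
    · exact Or.inl (commutator_rootSub_eq_bot hf hg h1 h2)
    · exact Or.inr (Or.inr (rootCommutatorCase_symm
        (rootCommutatorCase_rootSub hg hf h2 h1 ⟨_, _, _, hw, hf0, rfl⟩)))
    · exact Or.inr (Or.inr (rootCommutatorCase_rootSub hf hg h1 h2 ⟨_, _, _, hv, hg0, rfl⟩))
    · exact Or.inr (Or.inl (isRankOnePair_rootSub hf hg h1 h2))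

theorem isKRootSubgroupSet_rootClass : Cfsg.IsKRootSubgroupSet F (rootClass ι F) := by
  refine ⟨isRootSubgroupSet_rootClass, ?_⟩
  rintro _ ⟨v, f, hf, hv, hf0, rfl⟩ _ ⟨w, g, hg, hw, hg0, rfl⟩ h
  exact isPSL2PairOver_rootSub hf hg
    (dot_ne_zero_of_isRankOnePair hg hf hw hg0 (Cfsg.RankOnePair_symm h))
    (dot_ne_zero_of_isRankOnePair hf hg hv hf0 h)

theorem exists_conjBy_rootSub (h3 : 3 ≤ Fintype.card ι) {v f v' f' : ι → F} (hv : v ≠ 0)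
    (hf : f ≠ 0) (hv' : v' ≠ 0) (hf' : f' ≠ 0) (h : f ⬝ᵥ v = 0) (h' : f' ⬝ᵥ v' = 0) :
    ∃ g : SpecialLinearGroup ι F, rootSub v' f' h' = Cfsg.conjBy (rootSub v f h) g := by
  obtain ⟨g, h1, h2, -⟩ := exists_conj_tvS h3 hv hf hv' hf' h h'
  refine ⟨g, ?_⟩
  rw [conjBy_rootSub]
  subst h1 h2
  rfl

theorem exists_dot_zero_ne_ne {u v w : ι → F} (hv : ∀ c : F, v ≠ c • u) (hw : ∀ c : F, w ≠ c • u) :
    ∃ h : ι → F, h ⬝ᵥ u = 0 ∧ h ⬝ᵥ v ≠ 0 ∧ h ⬝ᵥ w ≠ 0 := by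
  obtain ⟨a, ha, hav⟩ := exists_dot_of_notMem_span hv
  obtain ⟨b, hb, hbw⟩ := exists_dot_of_notMem_span hw
  by_cases h1 : a ⬝ᵥ w = 0
  · by_cases h2 : b ⬝ᵥ v = 0
    · exact ⟨a + b, by simp [ha, hb], by simp [hav, h2], by simp [h1, hbw]⟩
    · exact ⟨b, hb, h2, by simp [hbw]⟩
  · exact ⟨a, ha, by simp [hav], h1⟩

theorem isConnectedFamily_rootClass :
    Cfsg.IsConnectedFamily (Cfsg.FAdj (rootClass ι F)) (rootClass ι F) := by
  rintro _ ⟨v, f, hf, hv, hf0, rfl⟩ _ ⟨w, g, hg, hw, hg0, rfl⟩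
  obtain ⟨u, hfu, hgu⟩ := exists_dot_eq_one_dot_ne_zero hf0 hg0
  obtain ⟨h, hu, hhv, hhw⟩ := exists_dot_zero_ne_ne (u := u) (v := v) (w := w)
    (fun c e ↦ by
      rw [e, dotProduct_smul, hfu, smul_eq_mul, mul_one] at hf
      exact hv (by rw [e, hf, zero_smul]))
    (fun c e ↦ by
      rw [e, dotProduct_smul, smul_eq_mul, mul_eq_zero] at hg
      exact hw (by rw [e, hg.resolve_right hgu, zero_smul]))
  have hm : rootSub u h hu ∈ rootClass ι F :=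
    ⟨u, h, hu, by rintro rfl; simp at hfu, by rintro rfl; simp at hhv, rfl⟩
  exact Relation.ReflTransGen.tail (Relation.ReflTransGen.single
    ⟨⟨v, f, hf, hv, hf0, rfl⟩, hm, isRankOnePair_rootSub hf hu (by simp [hfu]) hhv⟩)
    ⟨hm, ⟨w, g, hg, hw, hg0, rfl⟩, isRankOnePair_rootSub hu hg hhw hgu⟩

end Cfsg.Lib.Class
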