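import Cfsg.Agent.Class.SpMax
import Cfsg.Agent.Class.Witt

/-!
Quadratic forms polarising to a symplectic form in characteristic two: singular vectors, and
maximality of the orthogonal group in the symplectic group.
-/

set_option autoImplicit false

namespace Cfsg.Lib.Class

open Module QuadraticMap Cfsg.Geo

variable {F V : Type*} [Field F] [AddCommGroup V] [Module F V] {B : LinearMap.BilinForm F V}
  {Q : QuadraticForm F V}

theorem polarBilin_eq_of_forall (hpol : ∀ u v, polar Q u v = B u v) : polarBilin Q = B := by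
  ext u v
  exact hpol u v

theorem QIsom_le_SpB (hpol : ∀ u v, polar Q u v = B u v) : QIsom Q ≤ SpB B := by
  intro g hg u v
  simp only [← hpol, polar, ← map_add, mem_QIsom.1 hg]

theorem spo_exists_singular [FiniteDimensional F V] (hB : B.Nondegenerate)
    (hpol : ∀ u v, polar Q u v = B u v) (hsq : ∀ c : F, ∃ s : F, s ^ 2 = c)
    (hd : 3 ≤ finrank F V) : ∃ e, e ≠ 0 ∧ Q e = 0 := by
  have : Nontrivial V := Module.nontrivial_of_finrank_pos (R := F) (by omega)
  obtain ⟨a, ha⟩ := exists_ne (0 : V)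
  by_cases hQ : Q a = 0
  · exact ⟨a, ha, hQ⟩
  have hfa : finrank F (Submodule.span F {a}) = 1 := finrank_span_singleton ha
  obtain ⟨b, hb, hab⟩ := exists_orth_notMem hB (Submodule.span F {a}) (Submodule.span F {a})
    (by omega)
  have hab := hab a (Submodule.mem_span_singleton_self a)
  obtain ⟨s, hs⟩ := hsq (- Q b / Q a)
  refine ⟨s • a + b, fun h => hb ?_, ?_⟩
  · rw [eq_neg_of_add_eq_zero_right h]
    exact Submodule.neg_mem _ (Submodule.smul_mem _ _ (Submodule.mem_span_singleton_self a))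
  · rw [quad_add, quad_smul, hpol, hs, map_smul, LinearMap.smul_apply, hab]
    field_simp
    simp

theorem spo_sub_singular (hpol : ∀ u v, polar Q u v = B u v) {e y : V} (he : Q e = 0)
    (h : B y e ≠ 0) : Q (y - (Q y / B y e) • e) = 0 := by
  rw [quad_sub, quad_smul, hpol, he, map_smul, smul_eq_mul]
  field_simp
  ring

/-- Singular vectors are not all orthogonal to a non-zero vector. -/
theorem spo_exists_singular_ne (hB : B.Nondegenerate)
    (hpol : ∀ u v, polar Q u v = B u v) {e : V} (he0 : e ≠ 0) (he : Q e = 0) {a : V}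
    (ha : a ≠ 0) : ∃ v, Q v = 0 ∧ B v a ≠ 0 := by
  by_cases h : B e a = 0
  · obtain ⟨y, -, h1, h2⟩ := exists_mem_both_ne_zero ⊤ (B.flip a) (B.flip e) (by
      by_contra! hcon
      exact ha (hB.2 a fun v => hcon v trivial)) (by
      by_contra! hcon
      exact he0 (hB.2 e fun v => hcon v trivial))
    refine ⟨_, spo_sub_singular hpol he h2, ?_⟩
    simpa [h] using h1
  · exact ⟨e, he, h⟩

theorem altTEquiv_mem_QIsom (hA : B.IsAlt) (hpol : ∀ u v, polar Q u v = B u v) {u : V}
    (hu : Q u ≠ 0) : altTEquiv hA u (-(Q u)⁻¹) ∈ QIsom Q := by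
  convert qRefl_mem_QIsom Q hu using 1
  ext x
  rw [altTEquiv_apply', qRefl_apply, hpol, neg_mul, neg_smul, sub_eq_add_neg]

/-- If all singular vectors are in `TSet`, everything is. -/
theorem TSet_of_singular (hB : B.Nondegenerate) {hA : B.IsAlt}
    (hpol : ∀ u v, polar Q u v = B u v) {e : V} (he0 : e ≠ 0) (he : Q e = 0)
    {M : Subgroup (V ≃ₗ[F] V)} (h : ∀ v, Q v = 0 → v ∈ TSet hA M) (y : V) : y ∈ TSet hA M := by
  by_cases hy : y = 0
  · rw [hy]
    exact zero_mem_TSet hA M
  obtain ⟨v, hv, hvy⟩ := spo_exists_singular_ne hB hpol he0 he hy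
  have hyv := alt_ne_zero_comm hA hvy
  have := add_smul_mem_TSet (h _ (spo_sub_singular hpol hv hyv)) (h v hv)
    (by simpa [hA.self_eq_zero] using hyv) (Q y / B y v)
  rwa [sub_add_cancel] at this

/-- Over a perfect field of characteristic two the orthogonal group is a maximal subgroup of the
symplectic group. -/
theorem isMaximalIn_SpB_QIsom [FiniteDimensional F V] (hB : B.Nondegenerate) (hA : B.IsAlt)
    (hpol : ∀ u v, polar Q u v = B u v) (hsq : ∀ c : F, ∃ s : F, s ^ 2 = c)
    (hd : 3 ≤ finrank F V) : IsMaximalIn (SpB B) (QIsom Q) := by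
  obtain ⟨e, he0, he⟩ := spo_exists_singular hB hpol hsq hd
  have hQ : (polarBilin Q).Nondegenerate := by rwa [polarBilin_eq_of_forall hpol]
  refine isMaximalIn_of_forall (QIsom_le_SpB hpol) (fun hle => ?_) fun M hM hMK g hg hgH => ?_
  · obtain ⟨y, hy⟩ := exists_alt_eq_one hB.flip he0
    rw [LinearMap.BilinForm.flip_apply] at hy
    have := mem_QIsom.1 (hle (altTEquiv_mem_SpB hA e 1)) y
    rw [altTEquiv_apply', hy, one_mul, one_smul, quad_add, he, hpol, hy] at this
    simp at this
  let K : Submodule F V :=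
    { carrier := {v | Q (g.symm v) = Q v}
      add_mem' := fun {a b} ha hb => by
        simp only [Set.mem_ofPred_eq, map_add, quad_add, hpol] at ha hb ⊢
        rw [ha, hb, SpB_symm_left (hMK hg), LinearEquiv.apply_symm_apply]
      zero_mem' := by simp
      smul_mem' := fun c a ha => by
        simp only [Set.mem_ofPred_eq, map_smul, quad_smul] at ha ⊢
        rw [ha] }
  have hK : K ≠ ⊤ := by
    intro h
    apply hgH
    rw [mem_QIsom]
    intro u
    have : g u ∈ K := h ▸ trivial
    have h2 : Q (g.symm (g u)) = Q (g u) := this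
    rw [← h2, LinearEquiv.symm_apply_apply]
  obtain ⟨x, -, hx⟩ := SetLike.exists_of_lt (lt_top_iff_ne_top.2 hK)
  obtain ⟨a, ha, hax⟩ := exists_right_orth_ne_zero B hB K hx
  obtain ⟨v, hv, hva⟩ := spo_exists_singular_ne hB hpol he0 he (a := a)
    (by rintro rfl; simp at hax)
  have hv0 : v ≠ 0 := by rintro rfl; simp at hva
  have hu : Q (g.symm v) ≠ 0 := fun h => hva (ha v (h.trans hv.symm))
  have h1 : altTEquiv hA v (-(Q (g.symm v))⁻¹) ∈ M := by
    have := M.mul_mem (M.mul_mem hg (hM (altTEquiv_mem_QIsom hA hpol hu))) (M.inv_mem hg)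
    rwa [altTEquiv_conj hA (hMK hg), LinearEquiv.apply_symm_apply] at this
  refine SpB_le_of_TSet hB hA (TSet_of_singular hB hpol he0 he fun w hw c => ?_)
  obtain ⟨s, hs⟩ := hsq (- c * Q (g.symm v))
  have h2 : altTEquiv hA w c = altTEquiv hA (s • w) (-(Q (g.symm v))⁻¹) := by
    rw [altTEquiv_smul, hs]
    congr 1
    field_simp
  rw [h2]
  by_cases h0 : s • w = 0
  · rw [h0, altTEquiv_zero_left]
    exact M.one_mem
  obtain ⟨t, ht, -, htv⟩ := quad_move_isom Q hQ ⊥ (x := v) (x' := s • w) (by simpa)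
    (by simpa using h0) (by rw [quad_smul, hw, hv, mul_zero]) (by simp)
  have ht' : t ∈ QIsom Q := mem_QIsom.2 ht
  rw [← htv, ← altTEquiv_conj hA (QIsom_le_SpB hpol ht')]
  exact M.mul_mem (M.mul_mem (hM ht') h1) (M.inv_mem (hM ht'))

theorem exists_sq_eq_of_even_card [Fintype F] (h : ¬ Odd (Fintype.card F)) (c : F) :
    ∃ s : F, s ^ 2 = c := by
  have h2 : ringChar F = 2 := FiniteField.even_card_iff_char_two.2 (by
    rw [Nat.not_odd_iff_even, Nat.even_iff] at h; exact h)
  obtain ⟨s, hs⟩ := FiniteField.isSquare_of_char_two h2 c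
  exact ⟨s, by rw [hs, pow_two]⟩

end Cfsg.Lib.Class
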